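-- Basic lemmas on fusion systems (helper85's shared library).
import Cfsg.Prelude.Def_FusionSystem

set_option autoImplicit false

namespace Cfsg.Agent.Helper85

open Cfsg Cfsg.FusionSystem

variable {Ω : Type*} [Group Ω] {S : Subgroup Ω}

theorem conjHom_apply (P : Subgroup Ω) (g : Ω) (x : P) : conjHom P g x = g * (x : Ω) * g⁻¹ := rfl

theorem conjHom_one (P : Subgroup Ω) : conjHom P (1 : Ω) = P.subtype := by
  ext x
  simp [conjHom_apply]

/-- The inclusion of a subgroup of `S` is a map of the system. -/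
theorem subtype_mem (F : FusionSystem S) {P : Subgroup Ω} (hP : P ≤ S) : P.subtype ∈ F.Hom P := by
  have := F.conj_mem (P := P) (g := 1) hP S.one_mem
  rwa [conjHom_one] at this

/-- Restriction of a map of the system to a smaller subgroup is a map of the system. -/
theorem restrict_mem (F : FusionSystem S) {P R : Subgroup Ω} {φ : P →* Ω} (hφ : φ ∈ F.Hom P) (h : R ≤ P) :
    φ.comp (Subgroup.inclusion h) ∈ F.Hom R := by
  have hR : R ≤ S := h.trans (F.le_of_mem hφ).1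
  have h1 := F.comp_mem (subtype_mem F hR) hφ (fun x => h x.2)
  have h2 : (R.subtype).codRestrict P (fun x => h x.2) = Subgroup.inclusion h := by
    ext x; rfl
  rwa [h2] at h1

/-- Transport of a map of the system along an equality of subgroups. -/
theorem cast_mem (F : FusionSystem S) {P R : Subgroup Ω} {φ : P →* Ω} (hφ : φ ∈ F.Hom P) (h : R = P) :
    φ.comp (Subgroup.inclusion h.le) ∈ F.Hom R :=
  restrict_mem F hφ h.le

theorem source_le (F : FusionSystem S) {P : Subgroup Ω} {φ : P →* Ω} (hφ : φ ∈ F.Hom P) : P ≤ S :=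
  (F.le_of_mem hφ).1

theorem apply_mem (F : FusionSystem S) {P : Subgroup Ω} {φ : P →* Ω} (hφ : φ ∈ F.Hom P) (x : P) : φ x ∈ S :=
  (F.le_of_mem hφ).2 x

theorem range_le (F : FusionSystem S) {P : Subgroup Ω} {φ : P →* Ω} (hφ : φ ∈ F.Hom P) : φ.range ≤ S := by
  rintro _ ⟨x, rfl⟩
  exact apply_mem F hφ x

/-- Composition of maps where the first takes values in a subgroup `Q' ≤ Q`. -/
theorem comp_mem' (F : FusionSystem S) {P Q : Subgroup Ω} {φ : P →* Ω} {ψ : Q →* Ω} (hφ : φ ∈ F.Hom P)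
    (hψ : ψ ∈ F.Hom Q) (h : ∀ x : P, φ x ∈ Q) : ψ.comp (φ.codRestrict Q h) ∈ F.Hom P :=
  F.comp_mem hφ hψ h

/-- A family of subgroups of a finite subgroup `S` that contains `⊥` and is closed under binary joins contains its
supremum. -/
theorem sSup_mem_of_sup_closed [Finite S] (C : Set (Subgroup Ω)) (h0 : ⊥ ∈ C)
    (hsup : ∀ A ∈ C, ∀ B ∈ C, A ⊔ B ∈ C) (hle : ∀ A ∈ C, A ≤ S) : sSup C ∈ C := by
  classical
  let N : Set ℕ := {n | ∃ A ∈ C, Nat.card A = n}
  have hne : N.Nonempty := ⟨_, ⊥, h0, rfl⟩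
  have hbdd : BddAbove N := by
    refine ⟨Nat.card S, ?_⟩
    rintro n ⟨A, hA, rfl⟩
    exact Subgroup.card_le_of_le (hle A hA)
  obtain ⟨M, hM, hMcard⟩ := Nat.sSup_mem hne hbdd
  have hmax : ∀ A ∈ C, A ≤ M := by
    intro A hA
    have hMA : M ⊔ A ∈ C := hsup M hM A hA
    have hfin : Finite (M ⊔ A : Subgroup Ω) :=
      Finite.of_injective (Subgroup.inclusion (hle _ hMA)) (Subgroup.inclusion_injective _)
    have hc : Nat.card (M ⊔ A : Subgroup Ω) ≤ Nat.card M := by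
      rw [hMcard]
      exact le_csSup hbdd ⟨M ⊔ A, hMA, rfl⟩
    have : M = M ⊔ A := Subgroup.eq_of_le_of_card_ge le_sup_left hc
    rw [this]
    exact le_sup_right
  have : sSup C = M := le_antisymm (sSup_le hmax) (le_sSup hM)
  rw [this]
  exact hM

/-- To prove that every element of `P ⊔ Q` lies in a subgroup `K` of `P ⊔ Q` it suffices to check `P` and `Q`. -/
theorem forall_mem_of_sup {P Q : Subgroup Ω} (K : Subgroup ↥(P ⊔ Q))
    (hP : ∀ x : P, Subgroup.inclusion le_sup_left x ∈ K)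
    (hQ : ∀ x : Q, Subgroup.inclusion le_sup_right x ∈ K) : ∀ x : ↥(P ⊔ Q), x ∈ K := by
  have hle : P ⊔ Q ≤ K.map (P ⊔ Q).subtype :=
    sup_le (fun y hy => ⟨_, hP ⟨y, hy⟩, rfl⟩) (fun y hy => ⟨_, hQ ⟨y, hy⟩, rfl⟩)
  intro x
  obtain ⟨z, hz, hzx⟩ := hle x.2
  have : z = x := Subtype.ext hzx
  exact this ▸ hz

/-- membership in the image of `Q ∩ B` under a map defined on `B` -/
theorem mem_map_subgroupOf {B Q : Subgroup Ω} (ψ : B →* Ω) (y : Ω) :
    y ∈ (Q.subgroupOf B).map ψ ↔ ∃ x : B, (x : Ω) ∈ Q ∧ ψ x = y := by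
  simp [Subgroup.mem_map, Subgroup.mem_subgroupOf]

/-- `ψ` carries `Q ∩ B` onto `Q`, in elementwise form. -/
theorem map_subgroupOf_eq_iff {B Q : Subgroup Ω} (ψ : B →* Ω) :
    (Q.subgroupOf B).map ψ = Q ↔
      (∀ x : B, (x : Ω) ∈ Q → ψ x ∈ Q) ∧ ∀ y ∈ Q, ∃ x : B, (x : Ω) ∈ Q ∧ ψ x = y := by
  constructor
  · intro h
    refine ⟨fun x hx => ?_, fun y hy => ?_⟩
    · have : ψ x ∈ (Q.subgroupOf B).map ψ := (mem_map_subgroupOf ψ _).2 ⟨x, hx, rfl⟩
      rwa [h] at this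
    · have : y ∈ (Q.subgroupOf B).map ψ := by rw [h]; exact hy
      exact (mem_map_subgroupOf ψ _).1 this
  · rintro ⟨h1, h2⟩
    ext y
    rw [mem_map_subgroupOf]
    constructor
    · rintro ⟨x, hx, rfl⟩
      exact h1 x hx
    · exact h2 y

end Cfsg.Agent.Helper85
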