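-- Sylow-type lemmas about conjugates of subgroups, used for the fusion system of a group (helper85).
import Mathlib.GroupTheory.Sylow
import Mathlib.GroupTheory.PGroup
import Mathlib.GroupTheory.Subgroup.Centralizer

set_option autoImplicit false

namespace Cfsg.Agent.Helper85

open scoped Pointwise

variable {G : Type*} [Group G]

/-- The conjugate `g P g⁻¹` of a subgroup. -/
abbrev cj (g : G) (P : Subgroup G) : Subgroup G := P.map (MulAut.conj g).toMonoidHom

theorem mem_cj {g : G} {P : Subgroup G} {x : G} : x ∈ cj g P ↔ g⁻¹ * x * g ∈ P := by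
  constructor
  · rintro ⟨y, hy, rfl⟩
    show g⁻¹ * (g * y * g⁻¹) * g ∈ P
    have : g⁻¹ * (g * y * g⁻¹) * g = y := by group
    rw [this]
    exact hy
  · intro h
    refine ⟨g⁻¹ * x * g, h, ?_⟩
    show g * (g⁻¹ * x * g) * g⁻¹ = x
    group

theorem conj_mem_cj {g : G} {P : Subgroup G} {x : G} (hx : x ∈ P) : g * x * g⁻¹ ∈ cj g P :=
  ⟨x, hx, rfl⟩

theorem cj_mono (g : G) {P Q : Subgroup G} (h : P ≤ Q) : cj g P ≤ cj g Q := Subgroup.map_mono h

theorem cj_cj (g h : G) (P : Subgroup G) : cj g (cj h P) = cj (g * h) P := by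
  ext x
  simp only [mem_cj]
  have : h⁻¹ * (g⁻¹ * x * g) * h = (g * h)⁻¹ * x * (g * h) := by group
  rw [this]

theorem cj_one (P : Subgroup G) : cj 1 P = P := by
  ext x
  rw [mem_cj]
  simp

theorem cj_inv_cj (g : G) (P : Subgroup G) : cj g⁻¹ (cj g P) = P := by
  rw [cj_cj, inv_mul_cancel, cj_one]

theorem cj_cj_inv (g : G) (P : Subgroup G) : cj g (cj g⁻¹ P) = P := by
  rw [cj_cj, mul_inv_cancel, cj_one]

theorem cj_sup (g : G) (P Q : Subgroup G) : cj g (P ⊔ Q) = cj g P ⊔ cj g Q := Subgroup.map_sup _ _ _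

theorem cj_le_iff (g : G) (P Q : Subgroup G) : cj g P ≤ Q ↔ P ≤ cj g⁻¹ Q := by
  constructor
  · intro h
    have := cj_mono g⁻¹ h
    rwa [cj_inv_cj] at this
  · intro h
    have := cj_mono g h
    rwa [cj_cj_inv] at this

theorem card_cj (g : G) (P : Subgroup G) : Nat.card (cj g P) = Nat.card P :=
  Subgroup.card_map_of_injective (MulAut.conj g).injective

theorem isPGroup_cj {p : ℕ} (g : G) {P : Subgroup G} (hP : IsPGroup p P) : IsPGroup p (cj g P) :=
  hP.map _

theorem cj_eq_self_of_mem_normalizer {g : G} {P : Subgroup G} (hg : g ∈ Subgroup.normalizer (P : Set G)) :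
    cj g P = P := by
  ext x
  rw [mem_cj]
  exact ((Subgroup.mem_normalizer_iff''.mp hg) x).symm

theorem normalizer_cj (g : G) (P : Subgroup G) :
    Subgroup.normalizer ((cj g P : Subgroup G) : Set G) = cj g (Subgroup.normalizer (P : Set G)) := by
  ext x
  rw [mem_cj, Subgroup.mem_normalizer_iff, Subgroup.mem_normalizer_iff]
  constructor
  · intro h y
    have := h (g * y * g⁻¹)
    rw [mem_cj, mem_cj] at this
    have e1 : g⁻¹ * (g * y * g⁻¹) * g = y := by group
    have e2 : g⁻¹ * (x * (g * y * g⁻¹) * x⁻¹) * g = g⁻¹ * x * g * y * (g⁻¹ * x * g)⁻¹ := by group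
    rw [e1, e2] at this
    exact this
  · intro h y
    rw [mem_cj, mem_cj]
    have := h (g⁻¹ * y * g)
    have e2 : g⁻¹ * x * g * (g⁻¹ * y * g) * (g⁻¹ * x * g)⁻¹ = g⁻¹ * (x * y * x⁻¹) * g := by group
    rw [e2] at this
    exact this

theorem centralizer_cj (g : G) (P : Subgroup G) :
    Subgroup.centralizer ((cj g P : Subgroup G) : Set G) = cj g (Subgroup.centralizer (P : Set G)) := by
  ext x
  rw [mem_cj, Subgroup.mem_centralizer_iff, Subgroup.mem_centralizer_iff]
  constructor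
  · intro h y hy
    have := h (g * y * g⁻¹) (conj_mem_cj hy)
    have e : y * (g⁻¹ * x * g) = g⁻¹ * (g * y * g⁻¹ * x) * g := by group
    rw [e, this]
    group
  · intro h y hy
    have hy' : g⁻¹ * y * g ∈ P := mem_cj.mp hy
    have := h _ hy'
    have e : y * x = g * (g⁻¹ * y * g * (g⁻¹ * x * g)) * g⁻¹ := by group
    rw [e, this]
    group

/-- A `p`-subgroup of a finite group is conjugate into any given Sylow `p`-subgroup. -/
theorem exists_cj_le_sylow [Finite G] {p : ℕ} [Fact p.Prime] (S : Sylow p G) {K : Subgroup G}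
    (hK : IsPGroup p K) : ∃ g : G, cj g K ≤ (S : Subgroup G) := by
  obtain ⟨S', hS'⟩ := hK.exists_le_sylow
  obtain ⟨g, hg⟩ := MulAction.exists_smul_eq G S' S
  refine ⟨g, ?_⟩
  intro x hx
  rw [mem_cj] at hx
  have h1 : g⁻¹ * x * g ∈ (S' : Subgroup G) := hS' hx
  have h2 : MulAut.conj g • (g⁻¹ * x * g) ∈ MulAut.conj g • (S' : Subgroup G) :=
    Subgroup.smul_mem_pointwise_smul_iff.mpr h1
  rw [← Sylow.coe_subgroup_smul, hg] at h2
  have e : MulAut.conj g • (g⁻¹ * x * g) = x := by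
    show g * (g⁻¹ * x * g) * g⁻¹ = x
    group
  rwa [e] at h2

/-- The order of a `p`-subgroup is at most the order of a Sylow `p`-subgroup. -/
theorem card_le_card_sylow [Finite G] {p : ℕ} [Fact p.Prime] (R : Sylow p G) {K : Subgroup G}
    (hK : IsPGroup p K) : Nat.card K ≤ Nat.card R := by
  obtain ⟨g, hg⟩ := exists_cj_le_sylow R hK
  rw [← card_cj g K]
  exact Subgroup.card_le_of_le hg

theorem card_subgroupOf_of_le {H K : Subgroup G} (h : H ≤ K) : Nat.card (H.subgroupOf K) = Nat.card H :=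
  Nat.card_congr (Subgroup.subgroupOfEquivOfLe h).toEquiv

/-- General "maximal ⇒ Sylow" lemma: `X` is a conjugation-equivariant subgroup-valued operation (the normalizer or the
centralizer) with `X P ≤ N_G(P)`. If `|S ∩ X(gPg⁻¹)| ≤ |S ∩ X(P)|` for all conjugates `gPg⁻¹ ≤ S` of `P ≤ S`, then
`S ∩ X(P)` is a Sylow `p`-subgroup of `X(P)`. -/
theorem sylow_of_card_max [Finite G] {p : ℕ} [Fact p.Prime] (S : Sylow p G) (P : Subgroup G)
    (hP : P ≤ (S : Subgroup G)) (X : Subgroup G → Subgroup G)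
    (hXconj : ∀ (g : G) (Q : Subgroup G), X (cj g Q) = cj g (X Q))
    (hXN : X P ≤ Subgroup.normalizer (P : Set G))
    (hmax : ∀ g : G, cj g P ≤ (S : Subgroup G) →
      Nat.card ((S : Subgroup G) ⊓ X (cj g P) : Subgroup G) ≤ Nat.card ((S : Subgroup G) ⊓ X P : Subgroup G)) :
    ∃ R : Sylow p (X P), (R : Subgroup (X P)) = ((S : Subgroup G) ⊓ X P).subgroupOf (X P) := by
  have hK : IsPGroup p (((S : Subgroup G) ⊓ X P).subgroupOf (X P)) :=
    (S.isPGroup'.to_inf_left).comap_subtype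
  obtain ⟨T, hKT⟩ := hK.exists_le_sylow
  -- the image of `T` in `G`
  have hT' : IsPGroup p ((T : Subgroup (X P)).map (X P).subtype) := T.isPGroup'.map _
  have hT'X : (T : Subgroup (X P)).map (X P).subtype ≤ X P := by
    rintro _ ⟨y, -, rfl⟩
    exact y.2
  have hPp : IsPGroup p P := S.isPGroup'.to_le hP
  have hTP : IsPGroup p ((T : Subgroup (X P)).map (X P).subtype ⊔ P : Subgroup G) :=
    hT'.to_sup_of_normal_right' hPp (hT'X.trans hXN)
  obtain ⟨g, hg⟩ := exists_cj_le_sylow S hTP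
  rw [cj_sup] at hg
  have hgP : cj g P ≤ (S : Subgroup G) := le_sup_right.trans hg
  have hgT : cj g ((T : Subgroup (X P)).map (X P).subtype) ≤ (S : Subgroup G) ⊓ X (cj g P) := by
    refine le_inf (le_sup_left.trans hg) ?_
    rw [hXconj]
    exact cj_mono g hT'X
  have hfin : Finite ((S : Subgroup G) ⊓ X (cj g P) : Subgroup G) := inferInstance
  have hcard : Nat.card (T : Subgroup (X P)) ≤ Nat.card (((S : Subgroup G) ⊓ X P).subgroupOf (X P)) := by
    rw [card_subgroupOf_of_le inf_le_right, ← Subgroup.card_subtype (X P) T, ← card_cj g]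
    exact (Subgroup.card_le_of_le hgT).trans (hmax g hgP)
  exact ⟨T, (Subgroup.eq_of_le_of_card_ge hKT hcard).symm⟩

/-- General "Sylow ⇒ maximal" lemma. -/
theorem card_le_of_sylow [Finite G] {p : ℕ} [Fact p.Prime] (S : Sylow p G) (P : Subgroup G)
    (X : Subgroup G → Subgroup G)
    (hXconj : ∀ (g : G) (Q : Subgroup G), X (cj g Q) = cj g (X Q))
    (R : Sylow p (X P)) (hR : (R : Subgroup (X P)) = ((S : Subgroup G) ⊓ X P).subgroupOf (X P)) (g : G) :
    Nat.card ((S : Subgroup G) ⊓ X (cj g P) : Subgroup G) ≤ Nat.card ((S : Subgroup G) ⊓ X P : Subgroup G) := by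
  have hA : IsPGroup p ((S : Subgroup G) ⊓ X (cj g P) : Subgroup G) := S.isPGroup'.to_inf_left
  have hAle : cj g⁻¹ ((S : Subgroup G) ⊓ X (cj g P)) ≤ X P := by
    rw [cj_le_iff, inv_inv, ← hXconj]
    exact inf_le_right
  have hB : IsPGroup p ((cj g⁻¹ ((S : Subgroup G) ⊓ X (cj g P))).subgroupOf (X P)) :=
    (isPGroup_cj g⁻¹ hA).comap_subtype
  have h1 := card_le_card_sylow R hB
  rw [card_subgroupOf_of_le hAle, card_cj] at h1
  have h2 : Nat.card (R : Subgroup (X P)) = Nat.card ((S : Subgroup G) ⊓ X P : Subgroup G) := by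
    rw [hR, card_subgroupOf_of_le inf_le_right]
  exact h1.trans_eq h2

end Cfsg.Agent.Helper85
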