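-- The fusion system of a group on a subgroup: conjugacy of subgroups, fully normalized / centralized (helper85).
import Cfsg.Prelude.Def_FusionSystem
import Cfsg.Agent.Helper85.SylowConj

set_option autoImplicit false

namespace Cfsg.Agent.Helper85

open Cfsg Cfsg.FusionSystem

variable {G : Type*} [Group G]

theorem range_eq_cj {P : Subgroup G} (φ : P →* G) (g : G) (hg : ∀ x : P, φ x = g * (x : G) * g⁻¹) :
    φ.range = cj g P := by
  ext y
  constructor
  · rintro ⟨x, rfl⟩
    rw [hg]
    exact conj_mem_cj x.2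
  · rintro ⟨x, hx, rfl⟩
    exact ⟨⟨x, hx⟩, hg _⟩

theorem conjHom_range (P : Subgroup G) (g : G) : (conjHom P g).range = cj g P :=
  range_eq_cj _ g (fun _ => rfl)

/-- Conjugacy of subgroups in `F_S(G)` is `G`-conjugacy inside `S`. -/
theorem isConj_group_iff {S P Q : Subgroup G} (hP : P ≤ S) :
    (groupFusionSystem S).IsConj P Q ↔ ∃ g : G, cj g P = Q ∧ Q ≤ S := by
  constructor
  · rintro ⟨φ, ⟨-, hφS, g, hg⟩, rfl⟩
    refine ⟨g, (range_eq_cj φ g hg).symm, ?_⟩
    rintro _ ⟨x, rfl⟩
    exact hφS x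
  · rintro ⟨g, rfl, hQ⟩
    refine ⟨conjHom P g, ⟨hP, fun x => hQ (conj_mem_cj x.2), g, fun x => rfl⟩, conjHom_range P g⟩

theorem normalizerIn_eq (S P : Subgroup G) : normalizerIn S P = S ⊓ Subgroup.normalizer (P : Set G) := rfl

theorem centralizerIn_eq (S P : Subgroup G) : centralizerIn S P = S ⊓ Subgroup.centralizer (P : Set G) := rfl

/-- In `F_S(G)`: `P ≤ S` is fully normalized iff `N_S(P)` is a Sylow `p`-subgroup of `N_G(P)`. -/
theorem group_fullyNormalized_iff [Finite G] (p : ℕ) [Fact p.Prime] (S : Sylow p G) (P : Subgroup G)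
    (hP : P ≤ (S : Subgroup G)) :
    (groupFusionSystem (S : Subgroup G)).IsFullyNormalized P ↔
      ∃ R : Sylow p ↥(Subgroup.normalizer (P : Set G)),
        (R : Subgroup ↥(Subgroup.normalizer (P : Set G))) =
          (normalizerIn (S : Subgroup G) P).subgroupOf (Subgroup.normalizer (P : Set G)) := by
  constructor
  · rintro ⟨-, hmax⟩
    refine sylow_of_card_max S P hP (fun Q => Subgroup.normalizer (Q : Set G)) normalizer_cj le_rfl ?_
    intro g hg
    exact hmax (cj g P) ((isConj_group_iff hP).2 ⟨g, rfl, hg⟩)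
  · rintro ⟨R, hR⟩
    refine ⟨hP, fun Q hQ => ?_⟩
    obtain ⟨g, rfl, -⟩ := (isConj_group_iff hP).1 hQ
    exact card_le_of_sylow S P (fun Q => Subgroup.normalizer (Q : Set G)) normalizer_cj R hR g

/-- In `F_S(G)`: `P ≤ S` is fully centralized iff `C_S(P)` is a Sylow `p`-subgroup of `C_G(P)`. -/
theorem group_fullyCentralized_iff [Finite G] (p : ℕ) [Fact p.Prime] (S : Sylow p G) (P : Subgroup G)
    (hP : P ≤ (S : Subgroup G)) :
    (groupFusionSystem (S : Subgroup G)).IsFullyCentralized P ↔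
      ∃ R : Sylow p ↥(Subgroup.centralizer (P : Set G)),
        (R : Subgroup ↥(Subgroup.centralizer (P : Set G))) =
          (centralizerIn (S : Subgroup G) P).subgroupOf (Subgroup.centralizer (P : Set G)) := by
  constructor
  · rintro ⟨-, hmax⟩
    refine sylow_of_card_max S P hP (fun Q => Subgroup.centralizer (Q : Set G)) centralizer_cj
      (Subgroup.centralizer_le_normalizer _) ?_
    intro g hg
    exact hmax (cj g P) ((isConj_group_iff hP).2 ⟨g, rfl, hg⟩)
  · rintro ⟨R, hR⟩
    refine ⟨hP, fun Q hQ => ?_⟩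
    obtain ⟨g, rfl, -⟩ := (isConj_group_iff hP).1 hQ
    exact card_le_of_sylow S P (fun Q => Subgroup.centralizer (Q : Set G)) centralizer_cj R hR g

end Cfsg.Agent.Helper85
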