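-- Simplicity criterion for the fusion system of a group with a self-normalizing (modulo centralizer) Sylow subgroup
-- (helper85): consumer of S5160, with hypotheses stated by plain conjugation, stable under conjugating the Sylow subgroup.
import Cfsg.Agent.S5160
import Cfsg.Agent.Helper87.FusionBasic
import Cfsg.Agent.Helper85.GroupFusion

set_option autoImplicit false

namespace Cfsg.Agent.Helper85

open Cfsg Cfsg.FusionSystem

variable {G : Type*} [Group G]

/-- `N_G(S)` acts on `S` by inner automorphisms of `S`. -/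
def SelfNorm (S : Subgroup G) : Prop :=
  ∀ g ∈ Subgroup.normalizer (S : Set G), ∃ s ∈ S, ∀ x ∈ S, g * x * g⁻¹ = s * x * s⁻¹

/-- No proper nontrivial subgroup of `S` is closed under `G`-conjugation inside `S`. -/
def NoStrClosed (S : Subgroup G) : Prop :=
  ∀ T : Subgroup G, T ≤ S → (∀ t ∈ T, ∀ g : G, g * t * g⁻¹ ∈ S → g * t * g⁻¹ ∈ T) → T = ⊥ ∨ T = S

theorem selfNorm_cj {S : Subgroup G} (h : SelfNorm S) (a : G) : SelfNorm (cj a S) := by
  intro g hg
  have hg' : a⁻¹ * g * a ∈ Subgroup.normalizer (S : Set G) := by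
    rw [normalizer_cj, mem_cj] at hg
    exact hg
  obtain ⟨s, hs, hsx⟩ := h _ hg'
  refine ⟨a * s * a⁻¹, conj_mem_cj hs, ?_⟩
  intro x hx
  rw [mem_cj] at hx
  have := hsx _ hx
  calc g * x * g⁻¹ = a * ((a⁻¹ * g * a) * (a⁻¹ * x * a) * (a⁻¹ * g * a)⁻¹) * a⁻¹ := by group
    _ = a * (s * (a⁻¹ * x * a) * s⁻¹) * a⁻¹ := by rw [this]
    _ = a * s * a⁻¹ * x * (a * s * a⁻¹)⁻¹ := by group

theorem noStrClosed_cj {S : Subgroup G} (h : NoStrClosed S) (a : G) : NoStrClosed (cj a S) := by
  intro T hT hcl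
  have h1 : cj a⁻¹ T ≤ S := by
    rw [cj_le_iff, inv_inv]
    exact hT
  have h2 : ∀ t ∈ cj a⁻¹ T, ∀ g : G, g * t * g⁻¹ ∈ S → g * t * g⁻¹ ∈ cj a⁻¹ T := by
    intro t ht g hg
    rw [mem_cj, inv_inv] at ht ⊢
    have h3 := hcl _ ht (a * g * a⁻¹) (by
      rw [mem_cj]
      have : a⁻¹ * (a * g * a⁻¹ * (a * t * a⁻¹) * (a * g * a⁻¹)⁻¹) * a = g * t * g⁻¹ := by group
      rw [this]
      exact hg)
    have : a * g * a⁻¹ * (a * t * a⁻¹) * (a * g * a⁻¹)⁻¹ = a * (g * t * g⁻¹) * a⁻¹ := by group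
    rw [this] at h3
    exact h3
  rcases h _ h1 h2 with h3 | h3
  · left
    have := congrArg (cj a) h3
    rw [cj_cj_inv] at this
    rw [this]
    exact Subgroup.map_bot _
  · right
    have := congrArg (cj a) h3
    rw [cj_cj_inv] at this
    exact this

/-- `F_S(G)` is simple when `S ≠ 1` is a Sylow `p`-subgroup with `N_G(S) = S C_G(S)` and no proper nontrivial subgroup of `S` is
strongly closed in `S` with respect to `G`. -/
theorem isSimple_of_selfNorm [Finite G] (p : ℕ) [Fact p.Prime] (S : Sylow p G)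
    (hS1 : (S : Subgroup G) ≠ ⊥) (hN : SelfNorm (S : Subgroup G)) (hT : NoStrClosed (S : Subgroup G)) :
    (groupFusionSystem (S : Subgroup G)).IsSimple p := by
  have hSS : (S : Subgroup G) ≤ S := le_rfl
  -- maps with source `S` are conjugations by elements of `S`
  have key : ∀ g : G, (∀ x : (S : Subgroup G), g * (x : G) * g⁻¹ ∈ (S : Subgroup G)) →
      ∃ s ∈ (S : Subgroup G), ∀ x ∈ (S : Subgroup G), g * x * g⁻¹ = s * x * s⁻¹ := by
    intro g hg
    apply hN
    have hle : cj g (S : Subgroup G) ≤ S := by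
      rintro _ ⟨x, hx, rfl⟩
      exact hg ⟨x, hx⟩
    have heq : cj g (S : Subgroup G) = S :=
      Subgroup.eq_of_le_of_card_ge hle (by rw [card_cj])
    rw [Subgroup.mem_normalizer_iff]
    intro h
    constructor
    · intro hh
      exact hg ⟨h, hh⟩
    · intro hh
      have : g * h * g⁻¹ ∈ cj g (S : Subgroup G) := by rw [heq]; exact hh
      rw [mem_cj] at this
      have e : g⁻¹ * (g * h * g⁻¹) * g = h := by group
      rw [e] at this
      exact this
  have hconj : ∀ Q : Subgroup G, (groupFusionSystem (S : Subgroup G)).IsConj S Q → Q = S := by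
    intro Q hQ
    obtain ⟨g, rfl, hle⟩ := (isConj_group_iff hSS).1 hQ
    exact Subgroup.eq_of_le_of_card_ge hle (by rw [card_cj])
  have hFN : (groupFusionSystem (S : Subgroup G)).IsFullyNormalized S := by
    refine ⟨hSS, fun Q hQ => ?_⟩
    rw [hconj Q hQ]
  have hCen : (groupFusionSystem (S : Subgroup G)).IsCentric S := by
    refine ⟨hSS, fun Q hQ => ?_⟩
    rw [hconj Q hQ]
    exact inf_le_left
  have hAut : ∀ α : MulAut (S : Subgroup G), α ∈ (groupFusionSystem (S : Subgroup G)).autGroup S →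
      ∃ s : (S : Subgroup G), α = MulAut.conj s := by
    intro α hα
    rw [Cfsg.Agent.Helper87.mem_autGroup_iff _ hSS] at hα
    obtain ⟨-, hαS, g, hg⟩ := hα
    obtain ⟨s, hs, hsx⟩ := key g (fun x => by rw [← hg x]; exact hαS x)
    refine ⟨⟨s, hs⟩, ?_⟩
    ext x
    have h1 : ((α x : (S : Subgroup G)) : G) = g * (x : G) * g⁻¹ := hg x
    rw [h1, hsx _ x.2]
    rfl
  have hRad : (groupFusionSystem (S : Subgroup G)).IsRadical p S := by
    refine ⟨hSS, ?_⟩
    have hInn : Inn (S : Subgroup G) ≤ (groupFusionSystem (S : Subgroup G)).autGroup S := by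
      rintro _ ⟨s, rfl⟩
      rw [Cfsg.Agent.Helper87.mem_autGroup_iff _ hSS]
      exact (groupFusionSystem (S : Subgroup G)).conj_mem hSS s.2
    have hle : (groupFusionSystem (S : Subgroup G)).autGroup S ≤ Inn (S : Subgroup G) := by
      intro α hα
      obtain ⟨s, rfl⟩ := hAut α hα
      exact ⟨s, rfl⟩
    have hpg : IsPGroup p ((groupFusionSystem (S : Subgroup G)).autGroup S) := by
      intro α
      obtain ⟨s, hs⟩ := hAut α α.2
      obtain ⟨k, hk⟩ := S.isPGroup' s
      refine ⟨k, ?_⟩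
      apply Subtype.ext
      rw [Subgroup.coe_pow, hs, ← map_pow, hk, map_one]
      rfl
    have htop : pCore p ((groupFusionSystem (S : Subgroup G)).autGroup S) = ⊤ := by
      apply le_antisymm le_top
      apply le_sSup
      exact ⟨inferInstance, hpg.to_subgroup _⟩
    rw [htop, ← MonoidHom.range_eq_map, Subgroup.range_subtype]
    exact le_antisymm hle hInn
  refine Cfsg.Agent.S5160.result p S hS1 ?_ ?_
  · intro T hT'
    obtain ⟨hTS, hcl⟩ := hT'
    refine hT T hTS ?_
    intro t ht g hg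
    have hR : Subgroup.zpowers t ≤ T := (Subgroup.zpowers_le).2 ht
    have hmem : conjHom (Subgroup.zpowers t) g ∈ (groupFusionSystem (S : Subgroup G)).Hom (Subgroup.zpowers t) := by
      refine ⟨hR.trans hTS, ?_, g, fun x => rfl⟩
      rintro ⟨x, k, rfl⟩
      show g * t ^ k * g⁻¹ ∈ (S : Subgroup G)
      have : g * t ^ k * g⁻¹ = (g * t * g⁻¹) ^ k := by
        rw [conj_zpow]
      rw [this]
      exact Subgroup.zpow_mem _ hg k
    exact hcl _ hR _ hmem ⟨t, Subgroup.mem_zpowers t⟩
  · apply le_antisymm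
    · intro α hα
      rw [Cfsg.Agent.Helper87.mem_autInducedBy_iff] at hα
      obtain ⟨g, -, hg⟩ := hα
      obtain ⟨s, hs, hsx⟩ := key g (fun x => by rw [← hg x]; exact (α x).2)
      have hmem : α ∈ autInducedBy (Subgroup.closure {g : G | g ∈ Subgroup.normalizer (((S : Subgroup G)) : Set G) ∧
          ∃ k : ℕ, orderOf g = p ^ k}) (S : Subgroup G) := by
        rw [Cfsg.Agent.Helper87.mem_autInducedBy_iff]
        refine ⟨s, Subgroup.subset_closure ⟨Subgroup.le_normalizer hs, ?_⟩, fun x => ?_⟩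
        · obtain ⟨k, hk⟩ := (IsPGroup.iff_orderOf.1 S.isPGroup') ⟨s, hs⟩
          refine ⟨k, ?_⟩
          rw [← hk]
          exact (Subgroup.orderOf_mk s hs).symm
        · rw [hg x, hsx _ x.2]
      exact Subgroup.mem_iSup_of_mem (S : Subgroup G) (Subgroup.mem_iSup_of_mem ⟨hFN, hRad, hCen⟩ hmem)
    · refine iSup_le fun R => iSup_le fun _ => ?_
      intro α hα
      rw [Cfsg.Agent.Helper87.mem_autInducedBy_iff] at hα ⊢
      obtain ⟨g, -, hg⟩ := hα
      exact ⟨g, Subgroup.mem_top g, hg⟩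

/-- The same for every Sylow `p`-subgroup, given the hypotheses for one of them. -/
theorem isSimple_of_selfNorm_conj [Finite G] (p : ℕ) [Fact p.Prime] (S₀ : Sylow p G)
    (hS1 : (S₀ : Subgroup G) ≠ ⊥) (hN : SelfNorm (S₀ : Subgroup G)) (hT : NoStrClosed (S₀ : Subgroup G))
    (S : Sylow p G) : (groupFusionSystem (S : Subgroup G)).IsSimple p := by
  obtain ⟨a, ha⟩ := MulAction.exists_smul_eq G S₀ S
  have hcoe : (S : Subgroup G) = cj a (S₀ : Subgroup G) := by
    rw [← ha]
    rfl
  refine isSimple_of_selfNorm p S ?_ ?_ ?_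
  · rw [hcoe]
    intro h
    apply hS1
    have := congrArg (cj a⁻¹) h
    rw [cj_inv_cj] at this
    rw [this]
    exact Subgroup.map_bot _
  · rw [hcoe]
    exact selfNorm_cj hN a
  · rw [hcoe]
    exact noStrClosed_cj hT a

end Cfsg.Agent.Helper85
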