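import Cfsg.Agent.Helper87.FusionBasic
set_option autoImplicit false

/-!
Definitions for the proof that the `p'`-residual of a normal subsystem lies in every normal subsystem over the same
subgroup: the restriction of an automorphism of `T` to a subgroup, and the set `A_P` of the automorphisms of `T` in
`Aut_F(T)` whose restriction to `P` is a map of a given subsystem over `T`.
-/

namespace Cfsg.Agent.Helper85.KL

open Cfsg Cfsg.FusionSystem

variable {Ω : Type*} [Group Ω] {S T : Subgroup Ω}

/-- The restriction of an automorphism of `T` to `P ≤ T`, as a homomorphism into the ambient group. -/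
def resAut {P : Subgroup Ω} (hPT : P ≤ T) (α : MulAut T) : P →* Ω :=
  T.subtype.comp (α.toMonoidHom.comp (Subgroup.inclusion hPT))

theorem resAut_apply {P : Subgroup Ω} (hPT : P ≤ T) (α : MulAut T) (x : P) :
    resAut hPT α x = ((α ⟨(x : Ω), hPT x.2⟩ : T) : Ω) := rfl

/-- `A_P`: the elements of `Aut_F(T)` whose restriction to `P` is a map of `D`. -/
def restrSet (F : FusionSystem S) (D : FusionSystem T) (P : Subgroup Ω) : Set (MulAut T) :=
  {α | α ∈ F.autGroup T ∧ ∃ hPT : P ≤ T, resAut hPT α ∈ D.Hom P}

/-- `P ≤ T` and every `F`-conjugate of `P` contains its centralizer in `T`. -/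
def TCentric (F : FusionSystem S) (T P : Subgroup Ω) : Prop :=
  P ≤ T ∧ ∀ Q : Subgroup Ω, F.IsConj P Q → centralizerIn T Q ≤ Q

end Cfsg.Agent.Helper85.KL
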