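-- The factor system of a fusion system by a strongly closed subgroup (helper85).
import Cfsg.Prelude.Def_FusionComponents
import Cfsg.Agent.Helper85.Basic

set_option autoImplicit false

namespace Cfsg.Agent.Helper85

open Cfsg Cfsg.FusionSystem

variable {Ω : Type*} [Group Ω] {S : Subgroup Ω} {Ω' : Type*} [Group Ω']

theorem mem_preimageAlong (θ : S →* Ω') (P' : Subgroup Ω') (y : Ω) :
    y ∈ preimageAlong θ P' ↔ ∃ h : y ∈ S, θ ⟨y, h⟩ ∈ P' := by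
  constructor
  · rintro ⟨s, hs, rfl⟩
    exact ⟨s.2, hs⟩
  · rintro ⟨h, hy⟩
    exact ⟨⟨y, h⟩, hy, rfl⟩

theorem preimageAlong_le (θ : S →* Ω') (P' : Subgroup Ω') : preimageAlong θ P' ≤ S := by
  intro y hy
  exact ((mem_preimageAlong θ P' y).1 hy).1

theorem map_mem_of_mem_preimageAlong (θ : S →* Ω') (P' : Subgroup Ω') (x : ↥(preimageAlong θ P')) :
    θ ⟨x, preimageAlong_le θ P' x.2⟩ ∈ P' :=
  ((mem_preimageAlong θ P' x).1 x.2).2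

/-- The maps of the factor system with source `P'`. -/
def factorHomSet (F : FusionSystem S) (θ : S →* Ω') (S' : Subgroup Ω') (P' : Subgroup Ω') : Set (P' →* Ω') :=
  {φ' | P' ≤ S' ∧ ∃ φ ∈ F.Hom (preimageAlong θ P'), InducedAlong θ φ φ'}

/-- For a strongly closed `S₀`, a map of the system sending `x` into `S₀` has `x ∈ S₀`. -/
theorem mem_of_map_mem_stronglyClosed (F : FusionSystem S) {S₀ : Subgroup Ω} (hS₀ : F.StronglyClosed S₀)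
    {P : Subgroup Ω} {φ : P →* Ω} (hφ : φ ∈ F.Hom P) (x : P) (hx : φ x ∈ S₀) : (x : Ω) ∈ S₀ := by
  obtain ⟨ψ, hψ, hinv⟩ := F.inv_mem hφ
  have hle : φ.range ⊓ S₀ ≤ φ.range := inf_le_left
  have h1 := hS₀.2 (φ.range ⊓ S₀) inf_le_right _ (restrict_mem F hψ hle) ⟨φ x, ⟨⟨x, rfl⟩, hx⟩⟩
  have h2 : (ψ.comp (Subgroup.inclusion hle)) ⟨φ x, ⟨⟨x, rfl⟩, hx⟩⟩ = ψ ⟨φ x, ⟨x, rfl⟩⟩ := rfl
  rw [h2, hinv] at h1
  exact h1

/-- For a finite strongly closed `S₀` contained in the source `P` of a map `φ`, `S₀ ≤ φ(P)`. -/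
theorem stronglyClosed_le_range [Finite S] (F : FusionSystem S) {S₀ : Subgroup Ω} (hS₀ : F.StronglyClosed S₀)
    {P : Subgroup Ω} {φ : P →* Ω} (hφ : φ ∈ F.Hom P) (hle : S₀ ≤ P) : S₀ ≤ φ.range := by
  have hfin : Finite S₀ := Finite.of_injective (Subgroup.inclusion hS₀.1) (Subgroup.inclusion_injective _)
  have hmem : ∀ t : S₀, φ (Subgroup.inclusion hle t) ∈ S₀ := fun t =>
    hS₀.2 S₀ le_rfl _ (restrict_mem F hφ hle) t
  let f : S₀ → S₀ := fun t => ⟨φ (Subgroup.inclusion hle t), hmem t⟩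
  have hinj : Function.Injective f := by
    intro a b hab
    have h1 : φ (Subgroup.inclusion hle a) = φ (Subgroup.inclusion hle b) := congrArg Subtype.val hab
    exact Subgroup.inclusion_injective hle (F.injective_of_mem hφ h1)
  have hsurj : Function.Surjective f := Finite.surjective_of_injective hinj
  intro y hy
  obtain ⟨t, ht⟩ := hsurj ⟨y, hy⟩
  exact ⟨Subgroup.inclusion hle t, congrArg Subtype.val ht⟩

section construction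

variable (F : FusionSystem S) (θ : S →* Ω') (S' : Subgroup Ω') (S₀ : Subgroup Ω)

theorem factor_le_of_mem (hS' : θ.range = S') {P' : Subgroup Ω'} {φ' : P' →* Ω'}
    (h : φ' ∈ factorHomSet F θ S' P') : P' ≤ S' ∧ ∀ x : P', φ' x ∈ S' := by
  obtain ⟨hP', φ, hφ, hP, hφS, hPP', hind⟩ := h
  refine ⟨hP', fun x' => ?_⟩
  have hx' : (x' : Ω') ∈ θ.range := by rw [hS']; exact hP' x'.2
  obtain ⟨s, hs⟩ := hx'
  have hsP : (s : Ω) ∈ preimageAlong θ P' := (mem_preimageAlong θ P' _).2 ⟨s.2, by rw [hs]; exact x'.2⟩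
  have h1 := hind ⟨s, hsP⟩
  have h2 : (⟨θ ⟨((⟨s, hsP⟩ : ↥(preimageAlong θ P')) : Ω), hP hsP⟩, hPP' ⟨s, hsP⟩⟩ : P') = x' :=
    Subtype.ext hs
  rw [h2] at h1
  rw [h1, ← hS']
  exact ⟨_, rfl⟩

theorem factor_injective (hker : ∀ s : S, θ s = 1 ↔ (s : Ω) ∈ S₀) (hS₀ : F.StronglyClosed S₀) (hS' : θ.range = S')
    {P' : Subgroup Ω'} {φ' : P' →* Ω'} (h : φ' ∈ factorHomSet F θ S' P') : Function.Injective φ' := by
  obtain ⟨hP', φ, hφ, hP, hφS, hPP', hind⟩ := h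
  rw [injective_iff_map_eq_one]
  intro x' hx'1
  have hx' : (x' : Ω') ∈ θ.range := by rw [hS']; exact hP' x'.2
  obtain ⟨s, hs⟩ := hx'
  have hsP : (s : Ω) ∈ preimageAlong θ P' := (mem_preimageAlong θ P' _).2 ⟨s.2, by rw [hs]; exact x'.2⟩
  have h1 := hind ⟨s, hsP⟩
  have h2 : (⟨θ ⟨((⟨s, hsP⟩ : ↥(preimageAlong θ P')) : Ω), hP hsP⟩, hPP' ⟨s, hsP⟩⟩ : P') = x' :=
    Subtype.ext hs
  rw [h2, hx'1] at h1
  have h3 : φ ⟨s, hsP⟩ ∈ S₀ := (hker _).1 h1.symm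
  have h4 : (s : Ω) ∈ S₀ := mem_of_map_mem_stronglyClosed F hS₀ hφ ⟨s, hsP⟩ h3
  have h5 : θ s = 1 := (hker s).2 h4
  apply Subtype.ext
  rw [← hs, h5]
  rfl

theorem factor_conj_mem (hS' : θ.range = S') {P' : Subgroup Ω'} {g' : Ω'} (hP' : P' ≤ S') (hg' : g' ∈ S') :
    conjHom P' g' ∈ factorHomSet F θ S' P' := by
  have hg'' : g' ∈ θ.range := by rw [hS']; exact hg'
  obtain ⟨g, rfl⟩ := hg''
  have hP : preimageAlong θ P' ≤ S := preimageAlong_le θ P'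
  refine ⟨hP', conjHom (preimageAlong θ P') g, F.conj_mem hP g.2, hP, fun x => ?_,
    fun x => map_mem_of_mem_preimageAlong θ P' x, fun x => ?_⟩
  · exact S.mul_mem (S.mul_mem g.2 (hP x.2)) (S.inv_mem g.2)
  · show θ g * θ ⟨x, hP x.2⟩ * (θ g)⁻¹ = θ ⟨(g : Ω) * x * (g : Ω)⁻¹, _⟩
    rw [← map_inv, ← map_mul, ← map_mul]
    rfl

theorem factor_comp_mem {P' Q' : Subgroup Ω'} {φ' : P' →* Ω'} {ψ' : Q' →* Ω'}
    (hφ' : φ' ∈ factorHomSet F θ S' P') (hψ' : ψ' ∈ factorHomSet F θ S' Q') (h : ∀ x : P', φ' x ∈ Q') :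
    ψ'.comp (φ'.codRestrict Q' h) ∈ factorHomSet F θ S' P' := by
  obtain ⟨hP', φ, hφ, hP, hφS, hPP', hindφ⟩ := hφ'
  obtain ⟨hQ', ψ, hψ, hQ, hψS, hQQ', hindψ⟩ := hψ'
  have hmap : ∀ x : ↥(preimageAlong θ P'), φ x ∈ preimageAlong θ Q' := by
    intro x
    rw [mem_preimageAlong]
    refine ⟨hφS x, ?_⟩
    rw [← hindφ x]
    exact h _
  refine ⟨hP', ψ.comp (φ.codRestrict _ hmap), F.comp_mem hφ hψ hmap, hP, fun x => hψS _, hPP', fun x => ?_⟩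
  show ψ' ⟨φ' ⟨θ ⟨x, hP x.2⟩, hPP' x⟩, _⟩ = θ ⟨ψ ⟨φ x, hmap x⟩, _⟩
  rw [← hindψ ⟨φ x, hmap x⟩]
  congr 1
  apply Subtype.ext
  exact hindφ x

theorem factor_inv_mem [Finite S] (hker : ∀ s : S, θ s = 1 ↔ (s : Ω) ∈ S₀) (hS₀ : F.StronglyClosed S₀)
    (hS' : θ.range = S') {P' : Subgroup Ω'} {φ' : P' →* Ω'} (h : φ' ∈ factorHomSet F θ S' P') :
    ∃ ψ' ∈ factorHomSet F θ S' φ'.range, ∀ x : P', ψ' ⟨φ' x, ⟨x, rfl⟩⟩ = (x : Ω') := by
  have hinj : Function.Injective φ' := factor_injective F θ S' S₀ hker hS₀ hS' h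
  have hle := factor_le_of_mem F θ S' hS' h
  obtain ⟨hP', φ, hφ, hP, hφS, hPP', hind⟩ := h
  obtain ⟨ψ₀, hψ₀, hinv⟩ := F.inv_mem hφ
  -- `S₀` lies in the source and in the range of `φ`
  have hS₀P : S₀ ≤ preimageAlong θ P' := by
    intro y hy
    rw [mem_preimageAlong]
    refine ⟨hS₀.1 hy, ?_⟩
    rw [(hker ⟨y, hS₀.1 hy⟩).2 hy]
    exact P'.one_mem
  have hS₀R : S₀ ≤ φ.range := stronglyClosed_le_range F hS₀ hφ hS₀P
  -- the preimage of the range of `φ'` is the range of `φ`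
  have hpre : preimageAlong θ φ'.range ≤ φ.range := by
    intro y hy
    obtain ⟨hyS, x', hx'⟩ := (mem_preimageAlong θ φ'.range y).1 hy
    have hx'' : (x' : Ω') ∈ θ.range := by rw [hS']; exact hP' x'.2
    obtain ⟨s, hs⟩ := hx''
    have hsP : (s : Ω) ∈ preimageAlong θ P' := (mem_preimageAlong θ P' _).2 ⟨s.2, by rw [hs]; exact x'.2⟩
    have h1 := hind ⟨s, hsP⟩
    have h2 : (⟨θ ⟨((⟨s, hsP⟩ : ↥(preimageAlong θ P')) : Ω), hP hsP⟩, hPP' ⟨s, hsP⟩⟩ : P') = x' :=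
      Subtype.ext hs
    rw [h2, hx'] at h1
    -- `θ y = θ (φ s)`, so `y (φ s)⁻¹ ∈ S₀`
    have h3 : θ (⟨y, hyS⟩ * (⟨φ ⟨s, hsP⟩, hφS _⟩ : S)⁻¹) = 1 := by
      rw [map_mul, map_inv, h1, mul_inv_cancel]
    have h4 : y * (φ ⟨s, hsP⟩)⁻¹ ∈ S₀ := (hker _).1 h3
    have h5 : y * (φ ⟨s, hsP⟩)⁻¹ ∈ φ.range := hS₀R h4
    have h6 : y * (φ ⟨s, hsP⟩)⁻¹ * φ ⟨s, hsP⟩ ∈ φ.range := φ.range.mul_mem h5 ⟨_, rfl⟩
    rwa [inv_mul_cancel_right] at h6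
  -- the inverse of `φ'` on its range
  let e : P' ≃* φ'.range := MonoidHom.ofInjective hinj
  refine ⟨P'.subtype.comp e.symm.toMonoidHom, ⟨?_, ψ₀.comp (Subgroup.inclusion hpre), restrict_mem F hψ₀ hpre,
    preimageAlong_le θ _, ?_, ?_, ?_⟩, ?_⟩
  · rintro _ ⟨x, rfl⟩
    exact hle.2 x
  · intro y
    exact (F.le_of_mem hψ₀).2 _
  · intro y
    exact map_mem_of_mem_preimageAlong θ _ y
  · intro y
    obtain ⟨x, hx⟩ := hpre y.2
    have hy1 : Subgroup.inclusion hpre y = ⟨φ x, ⟨x, rfl⟩⟩ := Subtype.ext hx.symm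
    show ((e.symm ⟨θ ⟨y, _⟩, _⟩ : P') : Ω') = θ ⟨ψ₀ (Subgroup.inclusion hpre y), _⟩
    have hy2 : (⟨θ ⟨y, preimageAlong_le θ _ y.2⟩, map_mem_of_mem_preimageAlong θ _ y⟩ : φ'.range) =
        e ⟨θ ⟨x, hP x.2⟩, hPP' x⟩ := by
      apply Subtype.ext
      show θ ⟨y, _⟩ = φ' ⟨θ ⟨x, hP x.2⟩, hPP' x⟩
      rw [hind x]
      congr 1
      exact Subtype.ext hx.symm
    rw [hy2, MulEquiv.symm_apply_apply]
    show θ ⟨x, hP x.2⟩ = _
    congr 1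
    apply Subtype.ext
    show (x : Ω) = ψ₀ (Subgroup.inclusion hpre y)
    rw [hy1, hinv]
  · intro x
    show ((e.symm ⟨φ' x, ⟨x, rfl⟩⟩ : P') : Ω') = x
    have : (⟨φ' x, ⟨x, rfl⟩⟩ : φ'.range) = e x := rfl
    rw [this, MulEquiv.symm_apply_apply]

/-- The factor system of `F` modulo a strongly closed subgroup `S₀`, read through `θ` with kernel `S₀`. -/
def factorSystem [Finite S] (hker : ∀ s : S, θ s = 1 ↔ (s : Ω) ∈ S₀) (hS₀ : F.StronglyClosed S₀)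
    (hS' : θ.range = S') : FusionSystem S' where
  Hom P' := factorHomSet F θ S' P'
  le_of_mem h := factor_le_of_mem F θ S' hS' h
  injective_of_mem h := factor_injective F θ S' S₀ hker hS₀ hS' h
  conj_mem hP' hg' := factor_conj_mem F θ S' hS' hP' hg'
  comp_mem hφ' hψ' h := factor_comp_mem F θ S' hφ' hψ' h
  inv_mem h := factor_inv_mem F θ S' S₀ hker hS₀ hS' h

theorem isFactorSystem_factorSystem [Finite S] (hker : ∀ s : S, θ s = 1 ↔ (s : Ω) ∈ S₀)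
    (hS₀ : F.StronglyClosed S₀) (hS' : θ.range = S') :
    F.IsFactorSystem S₀ θ (factorSystem F θ S' S₀ hker hS₀ hS') :=
  ⟨hS₀.1, hker, hS', fun _ _ => Iff.rfl⟩

end construction

end Cfsg.Agent.Helper85
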