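-- The factor system of F_S(G) by S ∩ H for H normal is F_{SH/H}(G/H) (helper85).
import Cfsg.Agent.Helper85.Factor
import Cfsg.Agent.Helper85.GroupFusion

set_option autoImplicit false

namespace Cfsg.Agent.Helper85

open Cfsg Cfsg.FusionSystem

variable {G : Type*} [Group G]

/-- A `p`-subgroup of `SH` (`S` Sylow, `H` normal) is conjugate into `S` by an element of `H`. -/
theorem exists_cj_le_of_le_sup_normal [Finite G] {p : ℕ} [Fact p.Prime] (S : Sylow p G) (H : Subgroup G) [H.Normal]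
    {A : Subgroup G} (hA : IsPGroup p A) (hle : A ≤ (S : Subgroup G) ⊔ H) :
    ∃ h ∈ H, cj h A ≤ (S : Subgroup G) := by
  set M : Subgroup G := (S : Subgroup G) ⊔ H with hM
  have hSM : (S : Subgroup G) ≤ M := le_sup_left
  have hAp : IsPGroup p (A.subgroupOf M) := hA.comap_subtype
  obtain ⟨m, hm⟩ := exists_cj_le_sylow (S.subtype hSM) hAp
  have hmM : (m : G) ∈ (((S : Subgroup G) ⊔ H : Subgroup G) : Set G) := m.2
  rw [Subgroup.mul_normal] at hmM
  obtain ⟨s, hs, h, hh, hsh⟩ := hmM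
  refine ⟨h, hh, ?_⟩
  intro x hx
  rw [mem_cj] at hx
  have hxM : h⁻¹ * x * h ∈ M := hle hx
  have h1 : (⟨h⁻¹ * x * h, hxM⟩ : ↥M) ∈ A.subgroupOf M := hx
  have h2 := hm (conj_mem_cj (g := m) h1)
  rw [Sylow.coe_subtype] at h2
  have h2' : ((m * ⟨h⁻¹ * x * h, hxM⟩ * m⁻¹ : ↥M) : G) ∈ (S : Subgroup G) := h2
  have e : ((m * ⟨h⁻¹ * x * h, hxM⟩ * m⁻¹ : ↥M) : G) = s * x * s⁻¹ := by
    show (m : G) * (h⁻¹ * x * h) * (m : G)⁻¹ = s * x * s⁻¹
    rw [← hsh]
    show s * h * (h⁻¹ * x * h) * (s * h)⁻¹ = s * x * s⁻¹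
    group
  rw [e] at h2'
  have h3 : s⁻¹ * (s * x * s⁻¹) * s ∈ (S : Subgroup G) :=
    (S : Subgroup G).mul_mem ((S : Subgroup G).mul_mem ((S : Subgroup G).inv_mem hs) h2') hs
  have e2 : s⁻¹ * (s * x * s⁻¹) * s = x := by group
  rwa [e2] at h3

/-- `F_S(G)/(S ∩ H) ≅ F_{SH/H}(G/H)` along the quotient map. -/
theorem group_isFactorSystem [Finite G] (p : ℕ) [Fact p.Prime] (S : Sylow p G) (H : Subgroup G) [H.Normal] :
    (groupFusionSystem (S : Subgroup G)).IsFactorSystem ((S : Subgroup G) ⊓ H)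
      ((QuotientGroup.mk' H).comp (S : Subgroup G).subtype)
      (groupFusionSystem ((S : Subgroup G).map (QuotientGroup.mk' H))) := by
  set θ : ↥(S : Subgroup G) →* G ⧸ H := (QuotientGroup.mk' H).comp (S : Subgroup G).subtype with hθ
  have hθapply : ∀ s : ↥(S : Subgroup G), θ s = ((s : G) : G ⧸ H) := fun s => rfl
  have hrange : θ.range = (S : Subgroup G).map (QuotientGroup.mk' H) := by
    ext y
    constructor
    · rintro ⟨s, rfl⟩
      exact ⟨s, s.2, rfl⟩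
    · rintro ⟨s, hs, rfl⟩
      exact ⟨⟨s, hs⟩, rfl⟩
  refine ⟨inf_le_left, fun s => ?_, hrange, fun P' φ' => ?_⟩
  · rw [hθapply, QuotientGroup.eq_one_iff]
    exact ⟨fun h => ⟨s.2, h⟩, fun h => h.2⟩
  constructor
  · -- a map of the quotient system lifts
    rintro ⟨hP', hφ'S, gbar, hgbar⟩
    obtain ⟨g, rfl⟩ := QuotientGroup.mk'_surjective H gbar
    refine ⟨hP', ?_⟩
    set Pt : Subgroup G := preimageAlong θ P' with hPt
    have hPtS : Pt ≤ (S : Subgroup G) := preimageAlong_le θ P'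
    have hPtp : IsPGroup p Pt := S.isPGroup'.to_le hPtS
    -- `g Pt g⁻¹ ≤ S H`
    have hle : cj g Pt ≤ (S : Subgroup G) ⊔ H := by
      intro y hy
      rw [mem_cj] at hy
      have h1 : θ ⟨g⁻¹ * y * g, hPtS hy⟩ ∈ P' := map_mem_of_mem_preimageAlong θ P' ⟨_, hy⟩
      have h2 := hφ'S ⟨_, h1⟩
      rw [hgbar] at h2
      have h3 : (QuotientGroup.mk' H) y ∈ (S : Subgroup G).map (QuotientGroup.mk' H) := by
        have e : (QuotientGroup.mk' H) g * ((⟨θ ⟨g⁻¹ * y * g, hPtS hy⟩, h1⟩ : P') : G ⧸ H) *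
            ((QuotientGroup.mk' H) g)⁻¹ = (QuotientGroup.mk' H) y := by
          show (QuotientGroup.mk' H) g * (QuotientGroup.mk' H) (g⁻¹ * y * g) * ((QuotientGroup.mk' H) g)⁻¹ = _
          rw [← map_inv, ← map_mul, ← map_mul]
          congr 1
          group
        rwa [e] at h2
      have h4 : y ∈ ((S : Subgroup G).map (QuotientGroup.mk' H)).comap (QuotientGroup.mk' H) := h3
      rwa [Subgroup.comap_map_eq, QuotientGroup.ker_mk'] at h4
    obtain ⟨h, hh, hcj⟩ := exists_cj_le_of_le_sup_normal S H (isPGroup_cj g hPtp) hle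
    rw [cj_cj] at hcj
    have hval : ∀ x : Pt, conjHom Pt (h * g) x ∈ (S : Subgroup G) := fun x => hcj (conj_mem_cj x.2)
    refine ⟨conjHom Pt (h * g), ⟨hPtS, hval, h * g, fun x => rfl⟩, hPtS, hval,
      fun x => map_mem_of_mem_preimageAlong θ P' x, fun x => ?_⟩
    rw [hgbar]
    show (QuotientGroup.mk' H) g * (QuotientGroup.mk' H) (x : G) * ((QuotientGroup.mk' H) g)⁻¹ =
      (QuotientGroup.mk' H) (h * g * (x : G) * (h * g)⁻¹)
    have hh1 : (QuotientGroup.mk' H) h = 1 := (QuotientGroup.eq_one_iff h).2 hh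
    rw [mul_inv_rev, map_mul, map_mul, map_mul, map_mul, map_inv, map_inv, hh1]
    simp
  · -- a map of `F_S(G)` on the preimage induces a conjugation map
    rintro ⟨hP', φ, ⟨-, -, g, hg⟩, hP, hφS, hPP', hind⟩
    -- every element of `P'` is the image of an element of the preimage
    have hlift : ∀ x' : P', ∃ x : ↥(preimageAlong θ P'), θ ⟨x, hP x.2⟩ = x' := by
      intro x'
      obtain ⟨s, hs, hsx⟩ := hP' x'.2
      have hsx' : θ ⟨s, hs⟩ = (x' : G ⧸ H) := hsx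
      refine ⟨⟨s, (mem_preimageAlong θ P' s).2 ⟨hs, ?_⟩⟩, hsx'⟩
      rw [hsx']
      exact x'.2
    have hformula : ∀ x' : P', φ' x' = (QuotientGroup.mk' H) g * (x' : G ⧸ H) * ((QuotientGroup.mk' H) g)⁻¹ := by
      intro x'
      obtain ⟨x, hx⟩ := hlift x'
      have h1 := hind x
      have h2 : (⟨θ ⟨x, hP x.2⟩, hPP' x⟩ : P') = x' := Subtype.ext hx
      rw [h2] at h1
      rw [h1, ← hx]
      show (QuotientGroup.mk' H) (φ x) = (QuotientGroup.mk' H) g * (QuotientGroup.mk' H) (x : G) * _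
      rw [hg, map_mul, map_mul, map_inv]
    refine ⟨hP', fun x' => ?_, (QuotientGroup.mk' H) g, hformula⟩
    obtain ⟨x, hx⟩ := hlift x'
    have h1 := hind x
    have h2 : (⟨θ ⟨x, hP x.2⟩, hPP' x⟩ : P') = x' := Subtype.ext hx
    rw [h2] at h1
    rw [h1, ← hrange]
    exact ⟨_, rfl⟩

end Cfsg.Agent.Helper85
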