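-- Surjective morphisms of fusion systems: basic transport lemmas (helper85).
import Cfsg.Agent.Helper85.Factor
import Cfsg.Agent.Helper87.FusionRS
import Cfsg.Agent.Helper87.FusionQuot3

set_option autoImplicit false

namespace Cfsg.Agent.Helper85

open Cfsg Cfsg.FusionSystem Cfsg.Agent.Helper87

variable {Ω : Type*} [Group Ω] {S : Subgroup Ω} {Ω' : Type*} [Group Ω'] {S' : Subgroup Ω'}

/-- The kernel of `α : S →* Ω'`, as a subgroup of the ambient group of `S`. -/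
def kerAlong (α : S →* Ω') : Subgroup Ω := preimageAlong α ⊥

theorem mem_kerAlong (α : S →* Ω') (s : S) : α s = 1 ↔ (s : Ω) ∈ kerAlong α := by
  unfold kerAlong
  rw [mem_preimageAlong]
  constructor
  · intro h
    exact ⟨s.2, by rw [Subgroup.mem_bot]; exact h⟩
  · rintro ⟨_, h⟩
    rw [Subgroup.mem_bot] at h
    exact h

theorem kerAlong_le (α : S →* Ω') : kerAlong α ≤ S := preimageAlong_le α ⊥

theorem mem_imageAlong (α : S →* Ω') (P : Subgroup Ω) (y : Ω') :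
    y ∈ imageAlong α P ↔ ∃ s : S, (s : Ω) ∈ P ∧ α s = y := by
  unfold imageAlong
  rw [Subgroup.mem_map]
  constructor
  · rintro ⟨s, hs, rfl⟩
    exact ⟨s, Subgroup.mem_subgroupOf.1 hs, rfl⟩
  · rintro ⟨s, hs, rfl⟩
    exact ⟨s, Subgroup.mem_subgroupOf.2 hs, rfl⟩

theorem map_mem_imageAlong (α : S →* Ω') {P : Subgroup Ω} (hPS : P ≤ S) (x : P) :
    α ⟨x, hPS x.2⟩ ∈ imageAlong α P :=
  (mem_imageAlong α P _).2 ⟨⟨x, hPS x.2⟩, x.2, rfl⟩

theorem imageAlong_le (α : S →* Ω') (hαS' : ∀ s : S, α s ∈ S') (P : Subgroup Ω) : imageAlong α P ≤ S' := by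
  intro y hy
  obtain ⟨s, -, rfl⟩ := (mem_imageAlong α P y).1 hy
  exact hαS' s

theorem imageAlong_mono (α : S →* Ω') {P Q : Subgroup Ω} (h : P ≤ Q) : imageAlong α P ≤ imageAlong α Q := by
  intro y hy
  obtain ⟨s, hs, rfl⟩ := (mem_imageAlong α P y).1 hy
  exact (mem_imageAlong α Q _).2 ⟨s, h hs, rfl⟩

theorem imageAlong_preimageAlong (α : S →* Ω') {P' : Subgroup Ω'} (hP' : P' ≤ α.range) :
    imageAlong α (preimageAlong α P') = P' := by
  ext y
  rw [mem_imageAlong]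
  constructor
  · rintro ⟨s, hs, rfl⟩
    exact ((mem_preimageAlong α P' _).1 hs).2
  · intro hy
    obtain ⟨s, rfl⟩ := hP' hy
    exact ⟨s, (mem_preimageAlong α P' _).2 ⟨s.2, hy⟩, rfl⟩

theorem preimageAlong_imageAlong (α : S →* Ω') {P : Subgroup Ω} (hPS : P ≤ S) (hK : kerAlong α ≤ P) :
    preimageAlong α (imageAlong α P) = P := by
  ext y
  rw [mem_preimageAlong]
  constructor
  · rintro ⟨hyS, hy⟩
    obtain ⟨s, hs, hsy⟩ := (mem_imageAlong α P _).1 hy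
    have h1 : α (s⁻¹ * ⟨y, hyS⟩) = 1 := by rw [map_mul, map_inv, hsy, inv_mul_cancel]
    have h2 : ((s⁻¹ * ⟨y, hyS⟩ : S) : Ω) ∈ P := hK ((mem_kerAlong α _).1 h1)
    have h3 : (s : Ω) * ((s⁻¹ * ⟨y, hyS⟩ : S) : Ω) ∈ P := P.mul_mem hs h2
    have e : (s : Ω) * ((s⁻¹ * ⟨y, hyS⟩ : S) : Ω) = y := by
      show (s : Ω) * ((s : Ω)⁻¹ * y) = y
      group
    rwa [e] at h3
  · intro hy
    exact ⟨hPS hy, (mem_imageAlong α P _).2 ⟨⟨y, hPS hy⟩, hy, rfl⟩⟩

theorem preimageAlong_mono (α : S →* Ω') {P' Q' : Subgroup Ω'} (h : P' ≤ Q') :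
    preimageAlong α P' ≤ preimageAlong α Q' := by
  intro y hy
  obtain ⟨hyS, hy'⟩ := (mem_preimageAlong α P' y).1 hy
  exact (mem_preimageAlong α Q' y).2 ⟨hyS, h hy'⟩

theorem kerAlong_le_preimageAlong (α : S →* Ω') (P' : Subgroup Ω') : kerAlong α ≤ preimageAlong α P' :=
  preimageAlong_mono α bot_le

/-- The kernel of a morphism of fusion systems is strongly closed. -/
theorem stronglyClosed_kerAlong (F : FusionSystem S) (F' : FusionSystem S') (α : S →* Ω')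
    (hmor : F.IsMorphism F' α) : F.StronglyClosed (kerAlong α) := by
  refine ⟨kerAlong_le α, fun R hR φ hφ x => ?_⟩
  obtain ⟨φ', -, hRS, hφS, hR', hind⟩ := hmor.2 R φ hφ
  rw [← mem_kerAlong α ⟨φ x, hφS x⟩, ← hind x]
  have h1 : α ⟨x, hRS x.2⟩ = 1 := (mem_kerAlong α _).2 (hR x.2)
  have h2 : (⟨α ⟨x, hRS x.2⟩, hR' x⟩ : imageAlong α R) = 1 := Subtype.ext h1
  rw [h2, map_one]

/-- Conjugate subgroups have conjugate images under a morphism. -/
theorem isConj_imageAlong (F : FusionSystem S) (F' : FusionSystem S') (α : S →* Ω')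
    (hmor : F.IsMorphism F' α) {P Q : Subgroup Ω} (h : F.IsConj P Q) :
    F'.IsConj (imageAlong α P) (imageAlong α Q) := by
  obtain ⟨φ, hφ, rfl⟩ := h
  obtain ⟨φ', hφ', hP, hφS, hP', hind⟩ := hmor.2 P φ hφ
  refine ⟨φ', hφ', ?_⟩
  ext y
  rw [mem_imageAlong]
  constructor
  · rintro ⟨x', rfl⟩
    obtain ⟨s, hs, hsx⟩ := (mem_imageAlong α P _).1 x'.2
    have e : x' = ⟨α ⟨(⟨s, hs⟩ : P), hP hs⟩, hP' ⟨s, hs⟩⟩ := Subtype.ext hsx.symm
    rw [e, hind]
    exact ⟨⟨φ ⟨s, hs⟩, hφS _⟩, ⟨_, rfl⟩, rfl⟩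
  · rintro ⟨s, ⟨x, hx⟩, rfl⟩
    refine ⟨⟨α ⟨x, hP x.2⟩, hP' x⟩, ?_⟩
    rw [hind x]
    congr 1
    exact Subtype.ext hx

/-- In a finite group, an element conjugating a subgroup into itself normalizes it. -/
theorem mem_normalizer_of_finite {P : Subgroup Ω} [Finite P] {g : Ω} (h : ∀ y ∈ P, g * y * g⁻¹ ∈ P) :
    g ∈ Subgroup.normalizer (P : Set Ω) := by
  let f : P → P := fun y => ⟨g * y * g⁻¹, h y y.2⟩
  have hinj : Function.Injective f := by
    intro a b hab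
    have : g * (a : Ω) * g⁻¹ = g * (b : Ω) * g⁻¹ := congrArg Subtype.val hab
    apply Subtype.ext
    simpa using this
  have hsurj : Function.Surjective f := Finite.injective_iff_surjective.1 hinj
  rw [Subgroup.mem_normalizer_iff]
  intro y
  refine ⟨h y, fun hy => ?_⟩
  obtain ⟨z, hz⟩ := hsurj ⟨g * y * g⁻¹, hy⟩
  have : g * (z : Ω) * g⁻¹ = g * y * g⁻¹ := congrArg Subtype.val hz
  have hzy : (z : Ω) = y := by simpa using this
  rw [← hzy]
  exact z.2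

end Cfsg.Agent.Helper85
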