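-- Surjective morphisms of fusion systems: the induced map on automorphism groups; images of fully automized subgroups (helper85).
import Cfsg.Agent.Helper85.Morphism

set_option autoImplicit false

namespace Cfsg.Agent.Helper85

open Cfsg Cfsg.FusionSystem Cfsg.Agent.Helper87

variable {Ω : Type*} [Group Ω] {S : Subgroup Ω} {Ω' : Type*} [Group Ω'] {S' : Subgroup Ω'}

section
variable (F : FusionSystem S) (F' : FusionSystem S') (α : S →* Ω')

theorem restrictHom_imageAlong_surjective {Q : Subgroup Ω} (hQS : Q ≤ S) :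
    Function.Surjective (restrictHom α hQS (map_mem_imageAlong α hQS)) := by
  intro y'
  obtain ⟨s, hs, hsy⟩ := (mem_imageAlong α Q _).1 y'.2
  exact ⟨⟨s, hs⟩, Subtype.ext hsy⟩

/-- The homomorphism `Aut_F(Q) → Aut(α(Q))` induced by a morphism `α`. -/
noncomputable def autImageHom (hmor : F.IsMorphism F' α) {Q : Subgroup Ω} (hQS : Q ≤ S) :
    F.autGroup Q →* MulAut (imageAlong α Q) :=
  quotAutHom F (stronglyClosed_kerAlong F F' α hmor) α (mem_kerAlong α) hQS (map_mem_imageAlong α hQS)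
    (restrictHom_imageAlong_surjective α hQS)

theorem autImageHom_apply (hmor : F.IsMorphism F' α) {Q : Subgroup Ω} (hQS : Q ≤ S) (β : F.autGroup Q) (x : Q) :
    ((autImageHom F F' α hmor hQS β ⟨α ⟨x, hQS x.2⟩, map_mem_imageAlong α hQS x⟩ : imageAlong α Q) : Ω') =
      α ⟨((β : MulAut Q) x : Q), hQS ((β : MulAut Q) x).2⟩ := by
  have := quotAutHom_apply F (stronglyClosed_kerAlong F F' α hmor) α (mem_kerAlong α) hQS (map_mem_imageAlong α hQS)
    (restrictHom_imageAlong_surjective α hQS) β x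
  exact congrArg Subtype.val this

theorem autImageHom_mem (hmor : F.IsMorphism F' α) {Q : Subgroup Ω} (hQS : Q ≤ S) (β : F.autGroup Q) :
    autImageHom F F' α hmor hQS β ∈ F'.autGroup (imageAlong α Q) := by
  have hβ : IsIso F ((β : MulAut Q) : Q ≃* Q) := (mem_autGroup_iff F hQS _).1 β.2
  obtain ⟨φ', hφ', hP, hφS, hP', hind⟩ := hmor.2 Q _ hβ
  rw [mem_autGroup_iff F' (imageAlong_le α hmor.1 Q)]
  refine mem_of_eq F' hφ' (fun y' => ?_)
  obtain ⟨x, rfl⟩ := restrictHom_imageAlong_surjective α hQS y'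
  have h1 := autImageHom_apply F F' α hmor hQS β x
  have h2 := hind x
  exact h1.trans h2.symm

/-- The induced homomorphism `Aut_F(Q) → Aut_{F'}(α(Q))`. -/
noncomputable def autImageHom' (hmor : F.IsMorphism F' α) {Q : Subgroup Ω} (hQS : Q ≤ S) :
    F.autGroup Q →* F'.autGroup (imageAlong α Q) :=
  (autImageHom F F' α hmor hQS).codRestrict _ (autImageHom_mem F F' α hmor hQS)

theorem autImageHom'_apply (hmor : F.IsMorphism F' α) {Q : Subgroup Ω} (hQS : Q ≤ S) (β : F.autGroup Q) (x : Q) :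
    ((((autImageHom' F F' α hmor hQS β : F'.autGroup (imageAlong α Q)) : MulAut (imageAlong α Q))
      ⟨α ⟨x, hQS x.2⟩, map_mem_imageAlong α hQS x⟩ : imageAlong α Q) : Ω') =
      α ⟨((β : MulAut Q) x : Q), hQS ((β : MulAut Q) x).2⟩ :=
  autImageHom_apply F F' α hmor hQS β x

/-- Two automorphisms of `α(Q)` agree if they agree on all `α(x)`. -/
theorem mulAut_imageAlong_ext {Q : Subgroup Ω} (hQS : Q ≤ S) {β₁ β₂ : MulAut (imageAlong α Q)}
    (h : ∀ x : Q, ((β₁ ⟨α ⟨x, hQS x.2⟩, map_mem_imageAlong α hQS x⟩ : imageAlong α Q) : Ω') =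
      ((β₂ ⟨α ⟨x, hQS x.2⟩, map_mem_imageAlong α hQS x⟩ : imageAlong α Q) : Ω')) : β₁ = β₂ := by
  ext y'
  obtain ⟨x, rfl⟩ := restrictHom_imageAlong_surjective α hQS y'
  exact h x

/-- For a surjective morphism, the induced map on automorphism groups is surjective (for `Q` containing the kernel). -/
theorem autImageHom'_surjective [Finite S] (hα : F.IsSurjectiveMorphism F' α) {Q : Subgroup Ω} (hQS : Q ≤ S)
    (hKQ : kerAlong α ≤ Q) : Function.Surjective (autImageHom' F F' α hα.1 hQS) := by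
  intro β'
  have hQ'S' : imageAlong α Q ≤ S' := imageAlong_le α hα.1.1 Q
  have hβ' : IsIso F' ((β' : MulAut (imageAlong α Q)) : imageAlong α Q ≃* imageAlong α Q) :=
    (mem_autGroup_iff F' hQ'S' _).1 β'.2
  obtain ⟨φ, hφ, hP, hφS, hP', hind⟩ := hα.2.2 _ hQ'S' _ hβ'
  have hpre : preimageAlong α (imageAlong α Q) = Q := preimageAlong_imageAlong α hQS hKQ
  have hle : Q ≤ preimageAlong α (imageAlong α Q) := hpre.ge
  have hφQ : φ.comp (Subgroup.inclusion hle) ∈ F.Hom Q := restrict_mem F hφ hle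
  have hval : ∀ x : Q, α ⟨φ (Subgroup.inclusion hle x), hφS _⟩ =
      ((β' : MulAut (imageAlong α Q)) ⟨α ⟨x, hQS x.2⟩, map_mem_imageAlong α hQS x⟩ : imageAlong α Q) := by
    intro x
    have := hind (Subgroup.inclusion hle x)
    rw [← this]
    rfl
  have hmem : ∀ x : Q, (φ.comp (Subgroup.inclusion hle)) x ∈ Q := by
    intro x
    have h1 : φ (Subgroup.inclusion hle x) ∈ preimageAlong α (imageAlong α Q) := by
      rw [mem_preimageAlong]
      refine ⟨hφS _, ?_⟩
      rw [hval x]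
      exact Subtype.mem _
    exact hpre.le h1
  have : Finite Q := finite_of_le hQS
  have hinj : Function.Injective ((φ.comp (Subgroup.inclusion hle)).codRestrict Q hmem) := by
    intro a b hab
    have := congrArg Subtype.val hab
    exact F.injective_of_mem hφQ this
  have hbij : Function.Bijective ((φ.comp (Subgroup.inclusion hle)).codRestrict Q hmem) :=
    ⟨hinj, Finite.injective_iff_surjective.1 hinj⟩
  let β : MulAut Q := MulEquiv.ofBijective _ hbij
  have hβx : ∀ x : Q, ((β x : Q) : Ω) = φ (Subgroup.inclusion hle x) := fun x => rfl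
  have hβA : β ∈ F.autGroup Q := by
    rw [mem_autGroup_iff F hQS]
    exact mem_of_eq F hφQ (fun x => rfl)
  refine ⟨⟨β, hβA⟩, ?_⟩
  apply Subtype.ext
  apply mulAut_imageAlong_ext α hQS
  intro x
  rw [autImageHom'_apply, ← hval x]
  rfl

/-- The induced map on automorphism groups carries `Aut_S(Q)` onto `Aut_{S'}(α(Q))`. -/
theorem map_autInducedBy [Finite S] (hα : F.IsSurjectiveMorphism F' α) {Q : Subgroup Ω} (hQS : Q ≤ S)
    (hKQ : kerAlong α ≤ Q) :
    ((autInducedBy S Q).subgroupOf (F.autGroup Q)).map (autImageHom' F F' α hα.1 hQS) =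
      (autInducedBy S' (imageAlong α Q)).subgroupOf (F'.autGroup (imageAlong α Q)) := by
  have hpre : preimageAlong α (imageAlong α Q) = Q := preimageAlong_imageAlong α hQS hKQ
  have : Finite Q := finite_of_le hQS
  ext β'
  rw [Subgroup.mem_map, Subgroup.mem_subgroupOf, mem_autInducedBy_iff]
  constructor
  · rintro ⟨β, hβ, rfl⟩
    rw [Subgroup.mem_subgroupOf, mem_autInducedBy_iff] at hβ
    obtain ⟨g, hg, hgx⟩ := hβ
    refine ⟨α ⟨g, hg⟩, hα.1.1 _, fun y' => ?_⟩
    obtain ⟨x, rfl⟩ := restrictHom_imageAlong_surjective α hQS y'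
    have h1 := autImageHom'_apply F F' α hα.1 hQS β x
    refine h1.trans ?_
    have h2 : (⟨((β : MulAut Q) x : Q), hQS ((β : MulAut Q) x).2⟩ : S) = ⟨g, hg⟩ * ⟨x, hQS x.2⟩ * ⟨g, hg⟩⁻¹ :=
      Subtype.ext (hgx x)
    rw [h2, map_mul, map_mul, map_inv]
    rfl
  · rintro ⟨g', hg', hg'x⟩
    have hg'' : g' ∈ α.range := by rw [hα.2.1]; exact hg'
    obtain ⟨g, rfl⟩ := hg''
    have hconj : ∀ y ∈ Q, (g : Ω) * y * (g : Ω)⁻¹ ∈ Q := by
      intro y hy
      have h1 : (g : Ω) * y * (g : Ω)⁻¹ ∈ preimageAlong α (imageAlong α Q) := by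
        rw [mem_preimageAlong]
        refine ⟨S.mul_mem (S.mul_mem g.2 (hQS hy)) (S.inv_mem g.2), ?_⟩
        have e : (⟨(g : Ω) * y * (g : Ω)⁻¹, S.mul_mem (S.mul_mem g.2 (hQS hy)) (S.inv_mem g.2)⟩ : S) =
            g * ⟨y, hQS hy⟩ * g⁻¹ := Subtype.ext rfl
        rw [e, map_mul, map_mul, map_inv]
        have := hg'x ⟨α ⟨y, hQS hy⟩, map_mem_imageAlong α hQS ⟨y, hy⟩⟩
        have h3 : α g * α ⟨y, hQS hy⟩ * (α g)⁻¹ =
            (((β' : MulAut (imageAlong α Q)) ⟨α ⟨y, hQS hy⟩, map_mem_imageAlong α hQS ⟨y, hy⟩⟩ : imageAlong α Q) : Ω') :=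
          this.symm
        rw [h3]
        exact Subtype.mem _
      rwa [hpre] at h1
    have hgN : (g : Ω) ∈ Subgroup.normalizer (Q : Set Ω) := mem_normalizer_of_finite hconj
    have hβA : conjAut Q g hgN ∈ F.autGroup Q := (mem_autGroup_iff F hQS _).2 (isIso_conjAut F hQS g.2 hgN)
    refine ⟨⟨conjAut Q g hgN, hβA⟩, ?_, ?_⟩
    · rw [Subgroup.mem_subgroupOf, mem_autInducedBy_iff]
      exact ⟨g, g.2, fun x => rfl⟩
    · apply Subtype.ext
      apply mulAut_imageAlong_ext α hQS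
      intro x
      rw [autImageHom'_apply, hg'x]
      have e : (⟨((conjAut Q g hgN) x : Q), hQS ((conjAut Q g hgN) x).2⟩ : S) = g * ⟨x, hQS x.2⟩ * g⁻¹ :=
        Subtype.ext rfl
      show α ⟨((conjAut Q g hgN) x : Q), hQS ((conjAut Q g hgN) x).2⟩ = _
      rw [e, map_mul, map_mul, map_inv]

/-- The image of a fully automized subgroup containing the kernel of a surjective morphism is fully automized. -/
theorem fullyAutomized_imageAlong [Finite S] {p : ℕ} [Fact p.Prime] (hα : F.IsSurjectiveMorphism F' α)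
    {Q : Subgroup Ω} (hQ : F.IsFullyAutomized p Q) (hKQ : kerAlong α ≤ Q) :
    F'.IsFullyAutomized p (imageAlong α Q) := by
  obtain ⟨hQS, R, hR⟩ := hQ
  refine ⟨imageAlong_le α hα.1.1 Q, ?_⟩
  have : Finite (MulAut Q) := finite_mulAut_of_le hQS
  have hsurj := autImageHom'_surjective F F' α hα hQS hKQ
  refine ⟨R.mapSurjective hsurj, ?_⟩
  rw [Sylow.coe_mapSurjective, hR]
  exact map_autInducedBy F F' α hα hQS hKQ

end

end Cfsg.Agent.Helper85
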