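-- Surjective morphisms of fusion systems: images of receptive subgroups; the image of a saturated system is saturated (helper85).
import Cfsg.Agent.Helper85.Morphism2
import Cfsg.Agent.Helper85.GroupFactor

set_option autoImplicit false

namespace Cfsg.Agent.Helper85

open Cfsg Cfsg.FusionSystem Cfsg.Agent.Helper87

variable {Ω : Type*} [Group Ω] {S : Subgroup Ω} {Ω' : Type*} [Group Ω'] {S' : Subgroup Ω'}

/-- Transport of a map of the system along an equality of sources, with its values. -/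
theorem exists_cast_hom (F : FusionSystem S) {P P₂ : Subgroup Ω} (h : P = P₂) {φ : P →* Ω} (hφ : φ ∈ F.Hom P) :
    ∃ ψ ∈ F.Hom P₂, ∀ (y : Ω) (h1 : y ∈ P) (h2 : y ∈ P₂), ψ ⟨y, h2⟩ = φ ⟨y, h1⟩ := by
  subst h
  exact ⟨φ, hφ, fun _ _ _ => rfl⟩

theorem extender_le (S P : Subgroup Ω) (φ : P →* Ω) : extender S P φ ≤ S :=
  fun _ hg => ((mem_extender_iff S P φ _).1 hg).1

/-- Relative form of the transport step of the extension lemma: if the transported copy of `Aut_N(R)` lies in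
`Aut_S(Q) M` for a normal subgroup `M` of `Aut_F(Q)` and `Q` is fully automized, then after composing with an element
of `M` it lies in `Aut_S(Q)`. -/
theorem exists_ker_transport [Finite S] {p : ℕ} [Fact p.Prime] (F : FusionSystem S) {Q R N : Subgroup Ω}
    (hN : IsPGroup p N) (hQ : F.IsFullyAutomized p Q) (e : R ≃* Q) (M : Subgroup (F.autGroup Q)) [M.Normal]
    (h : ∀ β ∈ autInducedBy N R, ∃ hβ : MulAut.congr e β ∈ F.autGroup Q,
      (⟨_, hβ⟩ : F.autGroup Q) ∈ (autInducedBy S Q).subgroupOf (F.autGroup Q) ⊔ M) :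
    ∃ χ ∈ M, ∀ β ∈ autInducedBy N R,
      MulAut.congr (e.trans ((χ : MulAut Q) : Q ≃* Q)) β ∈ autInducedBy S Q := by
  obtain ⟨hQS, T, hT⟩ := hQ
  have : Finite (MulAut Q) := finite_mulAut_of_le hQS
  let U : Subgroup (F.autGroup Q) :=
    ((autInducedBy N R).map (MulAut.congr e).toMonoidHom).subgroupOf (F.autGroup Q)
  have hU : IsPGroup p U := by
    rintro ⟨⟨b, hbA⟩, hb⟩
    obtain ⟨β, hβ, hβb⟩ := hb
    have hβb' : (MulAut.congr e) β = b := hβb
    obtain ⟨k, hk⟩ := isPGroup_autInducedBy (S := N) hN R ⟨β, hβ⟩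
    refine ⟨k, Subtype.ext (Subtype.ext ?_)⟩
    have hk' : β ^ p ^ k = 1 := by simpa using congrArg Subtype.val hk
    show b ^ p ^ k = 1
    rw [← hβb', ← map_pow, hk', map_one]
  have hle : U ≤ (T : Subgroup (F.autGroup Q)) ⊔ M := by
    rintro ⟨b, hbA⟩ ⟨β, hβ, hβb⟩
    obtain ⟨hβA, hmem⟩ := h β hβ
    rw [hT]
    have hβb' : (MulAut.congr e) β = b := hβb
    have e1 : (⟨b, hbA⟩ : F.autGroup Q) = ⟨MulAut.congr e β, hβA⟩ := Subtype.ext hβb'.symm
    rw [e1]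
    exact hmem
  obtain ⟨χ, hχM, hχ⟩ := exists_cj_le_of_le_sup_normal T M hU hle
  refine ⟨χ, hχM, fun β hβ => ?_⟩
  obtain ⟨hβA, -⟩ := h β hβ
  have hbU : (⟨MulAut.congr e β, hβA⟩ : F.autGroup Q) ∈ U := ⟨β, hβ, rfl⟩
  have h2 : χ * ⟨MulAut.congr e β, hβA⟩ * χ⁻¹ ∈ (T : Subgroup (F.autGroup Q)) := hχ (conj_mem_cj hbU)
  rw [hT, Subgroup.mem_subgroupOf] at h2
  have h3 : ((χ * ⟨MulAut.congr e β, hβA⟩ * χ⁻¹ : F.autGroup Q) : MulAut Q) =
      MulAut.congr (e.trans ((χ : MulAut Q) : Q ≃* Q)) β := by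
    ext x
    simp [MulAut.congr, MulAut.mul_apply, MulAut.inv_apply]
  rwa [h3] at h2

section
variable (F : FusionSystem S) (F' : FusionSystem S') (α : S →* Ω')

theorem map_congr_val (a b : Ω) (ha : a ∈ S) (hb : b ∈ S) (hab : a = b) : α ⟨a, ha⟩ = α ⟨b, hb⟩ := by
  subst hab
  rfl

/-- The image of a fully automized receptive subgroup containing the kernel of a surjective morphism is receptive. -/
theorem receptive_imageAlong [Finite S] {p : ℕ} [Fact p.Prime] (hS : IsPGroup p S)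
    (hα : F.IsSurjectiveMorphism F' α) {Q : Subgroup Ω} (hQa : F.IsFullyAutomized p Q) (hQr : F.IsReceptive Q)
    (hKQ : kerAlong α ≤ Q) : F'.IsReceptive (imageAlong α Q) := by
  have hQS : Q ≤ S := hQa.1
  have hmor := hα.1
  have hK : F.StronglyClosed (kerAlong α) := stronglyClosed_kerAlong F F' α hmor
  have hpreQ : preimageAlong α (imageAlong α Q) = Q := preimageAlong_imageAlong α hQS hKQ
  have : Finite Q := finite_of_le hQS
  refine ⟨imageAlong_le α hmor.1 Q, fun R' φ' hφ' hrange => ?_⟩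
  have hR'S' : R' ≤ S' := (F'.le_of_mem hφ').1
  have hR'range : R' ≤ α.range := by rw [hα.2.1]; exact hR'S'
  obtain ⟨φ, hφ, hRS, hφS, hRR', hind⟩ := hα.2.2 R' hR'S' φ' hφ'
  have hKR : kerAlong α ≤ preimageAlong α R' := kerAlong_le_preimageAlong α R'
  have : Finite (preimageAlong α R' : Subgroup Ω) := finite_of_le hRS
  -- `φ` maps `R` onto `Q`
  have hφQ : ∀ x, φ x ∈ Q := by
    intro x
    apply hpreQ.le
    rw [mem_preimageAlong]
    refine ⟨hφS x, ?_⟩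
    rw [← hind x, ← hrange]
    exact ⟨_, rfl⟩
  have hQφ : ∀ y ∈ Q, ∃ x, φ x = y := by
    intro y hy
    have h1 : α ⟨y, hQS hy⟩ ∈ φ'.range := by
      rw [hrange]
      exact map_mem_imageAlong α hQS ⟨y, hy⟩
    obtain ⟨x', hx'⟩ := h1
    obtain ⟨s, hs⟩ := hR'range x'.2
    have hsR : (s : Ω) ∈ preimageAlong α R' := (mem_preimageAlong α R' _).2 ⟨s.2, by rw [hs]; exact x'.2⟩
    have h2 : α ⟨φ ⟨s, hsR⟩, hφS _⟩ = α ⟨y, hQS hy⟩ := by
      rw [← hind ⟨s, hsR⟩, ← hx']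
      congr 1
      exact Subtype.ext hs
    have h3 : α ((⟨φ ⟨s, hsR⟩, hφS _⟩ : S)⁻¹ * ⟨y, hQS hy⟩) = 1 := by
      rw [map_mul, map_inv, h2, inv_mul_cancel]
    have h4 : (φ ⟨s, hsR⟩)⁻¹ * y ∈ kerAlong α := (mem_kerAlong α _).1 h3
    have h5 : kerAlong α ≤ φ.range := stronglyClosed_le_range F hK hφ hKR
    obtain ⟨k, hk⟩ := h5 h4
    refine ⟨⟨s, hsR⟩ * k, ?_⟩
    rw [map_mul, hk]
    group
  have hrangeφ : φ.range = Q := by
    ext y
    constructor
    · rintro ⟨x, rfl⟩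
      exact hφQ x
    · intro hy
      exact hQφ y hy
  let e : ↥(preimageAlong α R') ≃* Q := isoOfRange F hφ hrangeφ
  have he : IsIso F e := isIso_isoOfRange F hφ hrangeφ
  have hex : ∀ x, ((e x : Q) : Ω) = φ x := fun x => rfl
  have hN'S' : extender S' R' φ' ≤ S' := extender_le S' R' φ'
  have hNS : preimageAlong α (extender S' R' φ') ≤ S := preimageAlong_le α _
  have hNp : IsPGroup p (preimageAlong α (extender S' R' φ') : Subgroup Ω) := hS.to_le hNS
  let M : Subgroup (F.autGroup Q) := (autImageHom' F F' α hmor hQS).ker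
  have hMn : M.Normal := MonoidHom.normal_ker _
  have hkey : ∀ β ∈ autInducedBy (preimageAlong α (extender S' R' φ')) (preimageAlong α R'),
      ∃ hβ : MulAut.congr e β ∈ F.autGroup Q,
        (⟨_, hβ⟩ : F.autGroup Q) ∈ (autInducedBy S Q).subgroupOf (F.autGroup Q) ⊔ M := by
    intro β hβ
    obtain ⟨g, hgN, hgx⟩ := (mem_autInducedBy_iff _ _ β).1 hβ
    have hgS : g ∈ S := hNS hgN
    have hβiso : IsIso F (β : ↥(preimageAlong α R') ≃* ↥(preimageAlong α R')) := by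
      rw [eq_conjAut_of_conj_eq β g hgx]
      exact isIso_conjAut F hRS hgS _
    have hβA : MulAut.congr e β ∈ F.autGroup Q :=
      (mem_autGroup_iff F hQS _).2 (he.symm.trans (hβiso.trans he))
    refine ⟨hβA, ?_⟩
    obtain ⟨_, hg'N'⟩ := (mem_preimageAlong α _ g).1 hgN
    obtain ⟨hg'S', hg'norm, h', hh'S', hh'⟩ := (mem_extender_iff S' R' φ' _).1 hg'N'
    have hh'' : h' ∈ α.range := by rw [hα.2.1]; exact hh'S'
    obtain ⟨h, rfl⟩ := hh''
    have hgx' : ∀ x : ↥(preimageAlong α R'), α ⟨g, hgS⟩ * α ⟨x, hRS x.2⟩ * (α ⟨g, hgS⟩)⁻¹ ∈ R' :=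
      fun x => (Subgroup.mem_normalizer_iff.1 hg'norm _).1 (hRR' x)
    -- `α (h φ(x) h⁻¹) = φ' (g' α(x) g'⁻¹)`
    have hcalc : ∀ x : ↥(preimageAlong α R'),
        α h * α ⟨φ x, hφS x⟩ * (α h)⁻¹ = α ⟨φ (β x), hφS _⟩ := by
      intro x
      rw [← hind x, ← hh' ⟨α ⟨x, hRS x.2⟩, hRR' x⟩ (hgx' x), ← hind (β x)]
      congr 1
      apply Subtype.ext
      show α ⟨g, hgS⟩ * α ⟨x, hRS x.2⟩ * (α ⟨g, hgS⟩)⁻¹ = α ⟨((β x : ↥(preimageAlong α R')) : Ω), _⟩
      rw [← map_inv, ← map_mul, ← map_mul]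
      exact map_congr_val α _ _ _ _ (hgx x).symm
    have hconj : ∀ y ∈ Q, (h : Ω) * y * (h : Ω)⁻¹ ∈ Q := by
      intro y hy
      obtain ⟨x, rfl⟩ := hQφ y hy
      apply hpreQ.le
      rw [mem_preimageAlong]
      refine ⟨S.mul_mem (S.mul_mem h.2 (hφS x)) (S.inv_mem h.2), ?_⟩
      have e1 : (⟨(h : Ω) * φ x * (h : Ω)⁻¹, S.mul_mem (S.mul_mem h.2 (hφS x)) (S.inv_mem h.2)⟩ : S) =
          h * ⟨φ x, hφS x⟩ * h⁻¹ := Subtype.ext rfl
      rw [e1, map_mul, map_mul, map_inv, hcalc x]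
      exact map_mem_imageAlong α hQS ⟨φ (β x), hφQ _⟩
    have hhN : (h : Ω) ∈ Subgroup.normalizer (Q : Set Ω) := mem_normalizer_of_finite hconj
    have hsA : conjAut Q h hhN ∈ F.autGroup Q := (mem_autGroup_iff F hQS _).2 (isIso_conjAut F hQS h.2 hhN)
    have hsT : (⟨conjAut Q h hhN, hsA⟩ : F.autGroup Q) ∈ (autInducedBy S Q).subgroupOf (F.autGroup Q) := by
      rw [Subgroup.mem_subgroupOf, mem_autInducedBy_iff]
      exact ⟨h, h.2, fun x => rfl⟩
    have hfeq : autImageHom' F F' α hmor hQS ⟨MulAut.congr e β, hβA⟩ =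
        autImageHom' F F' α hmor hQS ⟨conjAut Q h hhN, hsA⟩ := by
      apply Subtype.ext
      apply mulAut_imageAlong_ext α hQS
      intro y
      rw [autImageHom'_apply, autImageHom'_apply]
      obtain ⟨x, hx⟩ := hQφ y y.2
      have hy : y = e x := Subtype.ext hx.symm
      have h1 : (((MulAut.congr e β) y : Q) : Ω) = φ (β x) := by
        rw [hy]
        show ((e (β (e.symm (e x))) : Q) : Ω) = φ (β x)
        rw [MulEquiv.symm_apply_apply]
        rfl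
      have h2 : (((conjAut Q h hhN) y : Q) : Ω) = (h : Ω) * φ x * (h : Ω)⁻¹ := by
        rw [conjAut_apply, ← hx]
      show α ⟨(((MulAut.congr e β) y : Q) : Ω), _⟩ = α ⟨(((conjAut Q h hhN) y : Q) : Ω), _⟩
      rw [map_congr_val α _ _ _ (hφS (β x)) h1,
        map_congr_val α _ _ _ (S.mul_mem (S.mul_mem h.2 (hφS x)) (S.inv_mem h.2)) h2, ← hcalc x]
      have e1 : (⟨(h : Ω) * φ x * (h : Ω)⁻¹, S.mul_mem (S.mul_mem h.2 (hφS x)) (S.inv_mem h.2)⟩ : S) =
          h * ⟨φ x, hφS x⟩ * h⁻¹ := Subtype.ext rfl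
      rw [e1, map_mul, map_mul, map_inv]
    have hmemM : (⟨conjAut Q h hhN, hsA⟩ : F.autGroup Q)⁻¹ * ⟨MulAut.congr e β, hβA⟩ ∈ M := by
      show autImageHom' F F' α hmor hQS _ = 1
      rw [map_mul, map_inv, hfeq, inv_mul_cancel]
    have e2 : (⟨MulAut.congr e β, hβA⟩ : F.autGroup Q) =
        ⟨conjAut Q h hhN, hsA⟩ * ((⟨conjAut Q h hhN, hsA⟩ : F.autGroup Q)⁻¹ * ⟨MulAut.congr e β, hβA⟩) := by
      group
    rw [e2]
    exact Subgroup.mul_mem_sup hsT hmemM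
  obtain ⟨χ, hχM, hχ⟩ := exists_ker_transport F hNp hQa e M hkey
  have hχiso : IsIso F ((χ : MulAut Q) : Q ≃* Q) := (mem_autGroup_iff F hQS _).1 χ.2
  have hχα : ∀ y : Q, α ⟨(((χ : MulAut Q) y : Q) : Ω), hQS ((χ : MulAut Q) y).2⟩ = α ⟨y, hQS y.2⟩ := by
    intro y
    have h1 : autImageHom' F F' α hmor hQS χ = 1 := hχM
    have h2 := autImageHom'_apply F F' α hmor hQS χ y
    rw [h1] at h2
    exact h2.symm
  let e' : ↥(preimageAlong α R') ≃* Q := e.trans ((χ : MulAut Q) : Q ≃* Q)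
  have he' : IsIso F e' := he.trans hχiso
  have hφ₂ : Q.subtype.comp e'.toMonoidHom ∈ F.Hom (preimageAlong α R') := he'
  have hrange₂ : (Q.subtype.comp e'.toMonoidHom).range = Q := by
    ext y
    constructor
    · rintro ⟨x, rfl⟩
      exact (e' x).2
    · intro hy
      exact ⟨e'.symm ⟨y, hy⟩, by simp⟩
  have hNle : preimageAlong α (extender S' R' φ') ≤
      extender S (preimageAlong α R') (Q.subtype.comp e'.toMonoidHom) := by
    intro g hgN
    have hgS : g ∈ S := hNS hgN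
    obtain ⟨_, hg'N'⟩ := (mem_preimageAlong α _ g).1 hgN
    obtain ⟨hg'S', hg'norm, -⟩ := (mem_extender_iff S' R' φ' _).1 hg'N'
    have hconjR : ∀ y ∈ preimageAlong α R', g * y * g⁻¹ ∈ preimageAlong α R' := by
      intro y hy
      obtain ⟨hyS, hy'⟩ := (mem_preimageAlong α R' y).1 hy
      rw [mem_preimageAlong]
      refine ⟨S.mul_mem (S.mul_mem hgS hyS) (S.inv_mem hgS), ?_⟩
      have e1 : (⟨g * y * g⁻¹, S.mul_mem (S.mul_mem hgS hyS) (S.inv_mem hgS)⟩ : S) =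
          ⟨g, hgS⟩ * ⟨y, hyS⟩ * ⟨g, hgS⟩⁻¹ := Subtype.ext rfl
      rw [e1, map_mul, map_mul, map_inv]
      exact (Subgroup.mem_normalizer_iff.1 hg'norm _).1 hy'
    have hgNR : g ∈ Subgroup.normalizer ((preimageAlong α R' : Subgroup Ω) : Set Ω) :=
      mem_normalizer_of_finite hconjR
    rw [mem_extender_iff]
    refine ⟨hgS, hgNR, ?_⟩
    have hβ : conjAut (preimageAlong α R') g hgNR ∈
        autInducedBy (preimageAlong α (extender S' R' φ')) (preimageAlong α R') :=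
      (mem_autInducedBy_iff _ _ _).2 ⟨g, hgN, fun x => rfl⟩
    obtain ⟨k, hk, hkx⟩ := (mem_autInducedBy_iff S Q _).1 (hχ _ hβ)
    refine ⟨k, hk, fun x hx => ?_⟩
    have := hkx (e' x)
    show ((e' ⟨g * x * g⁻¹, hx⟩ : Q) : Ω) = k * ((e' x : Q) : Ω) * k⁻¹
    rw [← this]
    show ((e' ⟨g * x * g⁻¹, hx⟩ : Q) : Ω) =
      ((e' ((conjAut (preimageAlong α R') g hgNR) (e'.symm (e' x))) : Q) : Ω)
    rw [MulEquiv.symm_apply_apply]
    rfl
  obtain ⟨ψ, hψ, hψx⟩ := hQr.2 _ _ hφ₂ hrange₂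
  have hψN := restrict_mem F hψ hNle
  obtain ⟨ψ', hψ', hN_, hψS, hNN', hindψ⟩ := hmor.2 _ _ hψN
  have hNeq : imageAlong α (preimageAlong α (extender S' R' φ')) = extender S' R' φ' :=
    imageAlong_preimageAlong α (by rw [hα.2.1]; exact hN'S')
  obtain ⟨ψ'', hψ'', hcast⟩ := exists_cast_hom F' hNeq hψ'
  refine ⟨ψ'', hψ'', fun x' hx'R' hx'N' => ?_⟩
  obtain ⟨s, rfl⟩ := hR'range hx'R'
  have hsR : (s : Ω) ∈ preimageAlong α R' := (mem_preimageAlong α R' _).2 ⟨s.2, hx'R'⟩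
  have hsN : (s : Ω) ∈ preimageAlong α (extender S' R' φ') := (mem_preimageAlong α _ _).2 ⟨s.2, hx'N'⟩
  rw [hcast _ ((mem_imageAlong α _ _).2 ⟨s, hsN, rfl⟩) hx'N']
  have h1 := hindψ ⟨s, hsN⟩
  have h2 := hind ⟨s, hsR⟩
  have h3 : ψ ⟨s, hNle hsN⟩ = ((χ : MulAut Q) (e ⟨s, hsR⟩) : Q) := hψx s hsR (hNle hsN)
  refine h1.trans ?_
  refine Eq.trans ?_ h2.symm
  have h4 : (ψ.comp (Subgroup.inclusion hNle)) ⟨s, hsN⟩ = ((χ : MulAut Q) (e ⟨s, hsR⟩) : Q) := h3
  rw [map_congr_val α _ _ _ (hQS ((χ : MulAut Q) (e ⟨s, hsR⟩)).2) h4, hχα]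
  rfl

/-- The image of a saturated fusion system under a surjective morphism is saturated. -/
theorem isSaturated_of_surjectiveMorphism [Finite S] {p : ℕ} [Fact p.Prime] (hS : IsPGroup p S)
    (hF : F.IsSaturated p) (hα : F.IsSurjectiveMorphism F' α) : F'.IsSaturated p := by
  intro P' hP'S'
  have hK : F.StronglyClosed (kerAlong α) := stronglyClosed_kerAlong F F' α hα.1
  have hPS : preimageAlong α P' ≤ S := preimageAlong_le α P'
  obtain ⟨Q, hPQ, hQn⟩ := exists_isConj_fullyNormalized F hPS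
  have hKQ : kerAlong α ≤ Q := by
    obtain ⟨φ, hφ, rfl⟩ := hPQ
    exact stronglyClosed_le_range F hK hφ (kerAlong_le_preimageAlong α P')
  obtain ⟨hQc, hQa⟩ := fullyAutomized_fullyCentralized_of_fullyNormalized hS F hF hQn
  have hQr : F.IsReceptive Q := receptive_of_fullyCentralized hS F hF hQc
  have hconj := isConj_imageAlong F F' α hα.1 hPQ
  rw [imageAlong_preimageAlong α (by rw [hα.2.1]; exact hP'S')] at hconj
  exact ⟨imageAlong α Q, hconj, fullyAutomized_imageAlong F F' α hα hQa hKQ,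
    receptive_imageAlong F F' α hS hα hQa hQr hKQ⟩

end

end Cfsg.Agent.Helper85
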