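-- Transport of fusion systems along an injective homomorphism, function form (helper85).
import Cfsg.Agent.Helper85.Factor
import Cfsg.Agent.Helper85.Morphism3
import Cfsg.Agent.Helper87.FusionBasic
import Cfsg.Agent.Helper87.FusionSeries

set_option autoImplicit false

namespace Cfsg.Agent.Helper85

open Cfsg Cfsg.FusionSystem

variable {Ω : Type*} [Group Ω] {Ω' : Type*} [Group Ω']

/-- The plain function `f`, restricted to the subgroup `T`, is an injective homomorphism. -/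
structure HomOn (f : Ω → Ω') (T : Subgroup Ω) : Prop where
  mul : ∀ x ∈ T, ∀ y ∈ T, f (x * y) = f x * f y
  inj : ∀ x ∈ T, ∀ y ∈ T, f x = f y → x = y

namespace HomOn

variable {f : Ω → Ω'} {T : Subgroup Ω}

theorem one (hf : HomOn f T) : f 1 = 1 := by
  have h := hf.mul 1 T.one_mem 1 T.one_mem
  rw [mul_one] at h
  exact (mul_eq_left.mp h.symm)

theorem inv (hf : HomOn f T) {x : Ω} (hx : x ∈ T) : f x⁻¹ = (f x)⁻¹ := by
  have h := hf.mul x hx x⁻¹ (T.inv_mem hx)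
  rw [mul_inv_cancel, hf.one] at h
  exact (eq_inv_of_mul_eq_one_right h.symm)

theorem mono (hf : HomOn f T) {T₁ : Subgroup Ω} (h : T₁ ≤ T) : HomOn f T₁ :=
  ⟨fun x hx y hy => hf.mul x (h hx) y (h hy), fun x hx y hy => hf.inj x (h hx) y (h hy)⟩

theorem congr (hf : HomOn f T) {g : Ω → Ω'} (hfg : ∀ x ∈ T, g x = f x) : HomOn g T :=
  ⟨fun x hx y hy => by rw [hfg _ (T.mul_mem hx hy), hfg x hx, hfg y hy]; exact hf.mul x hx y hy,
    fun x hx y hy h => by rw [hfg x hx, hfg y hy] at h; exact hf.inj x hx y hy h⟩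

/-- The genuine homomorphism on `T`. -/
def toHom (hf : HomOn f T) : T →* Ω' :=
  MonoidHom.mk' (fun x : T => f x) (fun a b => hf.mul a a.2 b b.2)

theorem toHom_apply (hf : HomOn f T) (x : T) : hf.toHom x = f x := rfl

theorem toHom_injective (hf : HomOn f T) : Function.Injective hf.toHom := by
  intro a b hab
  exact Subtype.ext (hf.inj a a.2 b b.2 hab)

theorem eq_one_iff (hf : HomOn f T) {x : Ω} (hx : x ∈ T) : f x = 1 ↔ x = 1 := by
  constructor
  · intro h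
    apply hf.inj x hx 1 T.one_mem
    rw [h, hf.one]
  · rintro rfl
    exact hf.one

end HomOn

/-- `P'` is the image of `P` under `f`. -/
def IsIm (f : Ω → Ω') (P : Subgroup Ω) (P' : Subgroup Ω') : Prop :=
  ∀ y, y ∈ P' ↔ ∃ x ∈ P, f x = y

namespace IsIm

variable {f : Ω → Ω'}

theorem map_mem {P : Subgroup Ω} {P' : Subgroup Ω'} (h : IsIm f P P') {x : Ω} (hx : x ∈ P) : f x ∈ P' :=
  (h _).mpr ⟨x, hx, rfl⟩

theorem eq_right {P : Subgroup Ω} {P' P'' : Subgroup Ω'} (h : IsIm f P P') (h' : IsIm f P P'') : P' = P'' := by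
  ext y
  rw [h y, h' y]

theorem le_right {P Q : Subgroup Ω} {P' Q' : Subgroup Ω'} (h : IsIm f P P') (h' : IsIm f Q Q') (hPQ : P ≤ Q) :
    P' ≤ Q' := by
  intro y hy
  obtain ⟨x, hx, rfl⟩ := (h y).mp hy
  exact h'.map_mem (hPQ hx)

theorem le_left {S : Subgroup Ω} (hf : HomOn f S) {P Q : Subgroup Ω} {P' Q' : Subgroup Ω'} (hP : P ≤ S) (hQ : Q ≤ S)
    (h : IsIm f P P') (h' : IsIm f Q Q') (hPQ : P' ≤ Q') : P ≤ Q := by
  intro x hx
  obtain ⟨z, hz, hzx⟩ := (h' _).mp (hPQ (h.map_mem hx))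
  have := hf.inj z (hQ hz) x (hP hx) hzx
  rwa [← this]

theorem eq_left {S : Subgroup Ω} (hf : HomOn f S) {P Q : Subgroup Ω} {P' : Subgroup Ω'} (hP : P ≤ S) (hQ : Q ≤ S)
    (h : IsIm f P P') (h' : IsIm f Q P') : P = Q :=
  le_antisymm (le_left hf hP hQ h h' le_rfl) (le_left hf hQ hP h' h le_rfl)

theorem congr {P : Subgroup Ω} {P' : Subgroup Ω'} (h : IsIm f P P') {g : Ω → Ω'} (hfg : ∀ x ∈ P, g x = f x) :
    IsIm g P P' := by
  intro y
  rw [h y]
  constructor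
  · rintro ⟨x, hx, rfl⟩
    exact ⟨x, hx, hfg x hx⟩
  · rintro ⟨x, hx, rfl⟩
    exact ⟨x, hx, (hfg x hx).symm⟩

/-- Membership of `f x` in the image reflects to membership of `x`. -/
theorem mem_of_map_mem {S : Subgroup Ω} (hf : HomOn f S) {P : Subgroup Ω} {P' : Subgroup Ω'} (hP : P ≤ S)
    (h : IsIm f P P') {x : Ω} (hx : x ∈ S) (hfx : f x ∈ P') : x ∈ P := by
  obtain ⟨z, hz, hzx⟩ := (h _).mp hfx
  have := hf.inj z (hP hz) x hx hzx
  rwa [← this]

end IsIm

/-- The image of `P` as a subgroup. -/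
def imS {f : Ω → Ω'} {S : Subgroup Ω} (hf : HomOn f S) (P : Subgroup Ω) : Subgroup Ω' :=
  imageAlong hf.toHom P

theorem isIm_imS {f : Ω → Ω'} {S : Subgroup Ω} (hf : HomOn f S) {P : Subgroup Ω} (hP : P ≤ S) :
    IsIm f P (imS hf P) := by
  intro y
  unfold imS
  rw [mem_imageAlong]
  constructor
  · rintro ⟨s, hsP, rfl⟩
    exact ⟨s, hsP, rfl⟩
  · rintro ⟨x, hx, rfl⟩
    exact ⟨⟨x, hP hx⟩, hx, rfl⟩

/-- The preimage of `P'` in `S` as a subgroup. -/
def preS {f : Ω → Ω'} {S : Subgroup Ω} (hf : HomOn f S) (P' : Subgroup Ω') : Subgroup Ω :=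
  preimageAlong hf.toHom P'

theorem mem_preS {f : Ω → Ω'} {S : Subgroup Ω} (hf : HomOn f S) (P' : Subgroup Ω') (x : Ω) :
    x ∈ preS hf P' ↔ x ∈ S ∧ f x ∈ P' := by
  unfold preS
  rw [mem_preimageAlong]
  constructor
  · rintro ⟨h, hx⟩
    exact ⟨h, hx⟩
  · rintro ⟨h, hx⟩
    exact ⟨h, hx⟩

theorem preS_le {f : Ω → Ω'} {S : Subgroup Ω} (hf : HomOn f S) (P' : Subgroup Ω') : preS hf P' ≤ S :=
  fun _ hx => ((mem_preS hf P' _).mp hx).1

theorem isIm_preS {f : Ω → Ω'} {S : Subgroup Ω} (hf : HomOn f S) {S' P' : Subgroup Ω'} (hS' : IsIm f S S')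
    (hP' : P' ≤ S') : IsIm f (preS hf P') P' := by
  intro y
  constructor
  · intro hy
    obtain ⟨x, hx, rfl⟩ := (hS' y).mp (hP' hy)
    exact ⟨x, (mem_preS hf P' x).mpr ⟨hx, hy⟩, rfl⟩
  · rintro ⟨x, hx, rfl⟩
    exact ((mem_preS hf P' x).mp hx).2

/-- `φ'` is induced by `φ` along `f`. -/
def Ind (f : Ω → Ω') {P : Subgroup Ω} (φ : P →* Ω) {P' : Subgroup Ω'} (φ' : P' →* Ω') : Prop :=
  ∀ (x : P) (h : f x ∈ P'), φ' ⟨f x, h⟩ = f (φ x)

theorem Ind.apply {f : Ω → Ω'} {P : Subgroup Ω} {φ : P →* Ω} {P' : Subgroup Ω'} {φ' : P' →* Ω'} (h : Ind f φ φ')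
    (y : P') (x : Ω) (hx : x ∈ P) (hxy : f x = y) : φ' y = f (φ ⟨x, hx⟩) := by
  have hm : f ((⟨x, hx⟩ : P) : Ω) ∈ P' := by rw [hxy]; exact y.2
  have := h ⟨x, hx⟩ hm
  rw [← this]
  congr 1
  exact Subtype.ext hxy.symm

theorem Ind.congr {f g : Ω → Ω'} {S : Subgroup Ω} {P : Subgroup Ω} {φ : P →* Ω} {P' : Subgroup Ω'} {φ' : P' →* Ω'}
    (h : Ind f φ φ') (hP : P ≤ S) (hφ : ∀ x, φ x ∈ S) (hfg : ∀ x ∈ S, g x = f x) : Ind g φ φ' := by
  intro x hx
  have e1 := hfg x (hP x.2)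
  have hx' : f x ∈ P' := by rw [← e1]; exact hx
  have := h x hx'
  rw [hfg _ (hφ x), ← this]
  congr 1
  exact Subtype.ext e1

theorem ind_unique {f : Ω → Ω'} {P : Subgroup Ω} {φ : P →* Ω} {P' : Subgroup Ω'} {φ' φ'' : P' →* Ω'}
    (him : IsIm f P P') (h : Ind f φ φ') (h' : Ind f φ φ'') : φ' = φ'' := by
  ext y
  obtain ⟨x, hx, hxy⟩ := (him y).mp y.2
  rw [h.apply y x hx hxy, h'.apply y x hx hxy]

/-- Existence of the induced homomorphism. -/
theorem exists_ind {f : Ω → Ω'} {S : Subgroup Ω} (hf : HomOn f S) {P : Subgroup Ω} (hP : P ≤ S) {φ : P →* Ω}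
    (hφ : ∀ x, φ x ∈ S) {P' : Subgroup Ω'} (him : IsIm f P P') : ∃ φ' : P' →* Ω', Ind f φ φ' := by
  classical
  have hch : ∀ y : P', ∃ x : P, f x = y := fun y => by
    obtain ⟨x, hx, hxy⟩ := (him y).mp y.2
    exact ⟨⟨x, hx⟩, hxy⟩
  choose c hc using hch
  have hcmul : ∀ a b : P', c (a * b) = c a * c b := by
    intro a b
    apply Subtype.ext
    apply hf.inj _ (hP (c (a * b)).2) _ (hP (c a * c b).2)
    rw [hc (a * b)]
    show ((a : Ω') * (b : Ω')) = f ((c a : Ω) * (c b : Ω))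
    rw [hf.mul _ (hP (c a).2) _ (hP (c b).2), hc a, hc b]
  refine ⟨MonoidHom.mk' (fun y => f (φ (c y))) (fun a b => ?_), fun x hx => ?_⟩
  · show f (φ (c (a * b))) = f (φ (c a)) * f (φ (c b))
    rw [hcmul, map_mul]
    exact hf.mul _ (hφ _) _ (hφ _)
  · show f (φ (c ⟨f x, hx⟩)) = f (φ x)
    have : c ⟨f x, hx⟩ = x := by
      apply Subtype.ext
      exact hf.inj _ (hP (c ⟨f x, hx⟩).2) _ (hP x.2) (hc ⟨f x, hx⟩)
    rw [this]

/-- The system `E'` over `T'` is the image of the system `E` over `T` under `f`. -/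
structure IsImgF (f : Ω → Ω') {T : Subgroup Ω} (E : FusionSystem T) {T' : Subgroup Ω'} (E' : FusionSystem T') :
    Prop where
  hom : HomOn f T
  im : IsIm f T T'
  iff : ∀ (P' : Subgroup Ω') (φ' : P' →* Ω'), φ' ∈ E'.Hom P' ↔
    ∃ (P : Subgroup Ω) (φ : P →* Ω), φ ∈ E.Hom P ∧ IsIm f P P' ∧ Ind f φ φ'

namespace IsImgF

variable {f : Ω → Ω'} {T : Subgroup Ω} {E : FusionSystem T} {T' : Subgroup Ω'} {E' : FusionSystem T'}

theorem push (h : IsImgF f E E') {P : Subgroup Ω} {φ : P →* Ω} (hφ : φ ∈ E.Hom P) {P' : Subgroup Ω'}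
    (him : IsIm f P P') : ∃ φ' ∈ E'.Hom P', Ind f φ φ' := by
  obtain ⟨φ', hφ'⟩ := exists_ind h.hom (E.le_of_mem hφ).1 (E.le_of_mem hφ).2 him
  exact ⟨φ', (h.iff P' φ').mpr ⟨P, φ, hφ, him, hφ'⟩, hφ'⟩

theorem pull (h : IsImgF f E E') {P' : Subgroup Ω'} {φ' : P' →* Ω'} (hφ' : φ' ∈ E'.Hom P') {P : Subgroup Ω}
    (hP : P ≤ T) (him : IsIm f P P') : ∃ φ ∈ E.Hom P, Ind f φ φ' := by
  obtain ⟨P₀, φ, hφ, him₀, hind⟩ := (h.iff P' φ').mp hφ'
  have : P₀ = P := IsIm.eq_left h.hom (E.le_of_mem hφ).1 hP him₀ him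
  subst this
  exact ⟨φ, hφ, hind⟩

theorem congr (h : IsImgF f E E') {g : Ω → Ω'} (hfg : ∀ x ∈ T, g x = f x) : IsImgF g E E' := by
  refine ⟨h.hom.congr hfg, h.im.congr hfg, fun P' φ' => ?_⟩
  rw [h.iff P' φ']
  constructor
  · rintro ⟨P, φ, hφ, him, hind⟩
    exact ⟨P, φ, hφ, him.congr (fun x hx => hfg x ((E.le_of_mem hφ).1 hx)),
      hind.congr (E.le_of_mem hφ).1 (E.le_of_mem hφ).2 hfg⟩
  · rintro ⟨P, φ, hφ, him, hind⟩
    exact ⟨P, φ, hφ, him.congr (fun x hx => (hfg x ((E.le_of_mem hφ).1 hx)).symm),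
      hind.congr (E.le_of_mem hφ).1 (E.le_of_mem hφ).2 (fun x hx => (hfg x hx).symm)⟩

/-- Two images of the same system along the same function coincide. -/
theorem hom_eq (h : IsImgF f E E') {T'' : Subgroup Ω'} {E'' : FusionSystem T''} (h' : IsImgF f E E'') :
    T' = T'' ∧ ∀ P' : Subgroup Ω', E'.Hom P' = E''.Hom P' := by
  refine ⟨h.im.eq_right h'.im, fun P' => ?_⟩
  ext φ'
  rw [h.iff, h'.iff]

theorem le_of_mem' (h : IsImgF f E E') {P' : Subgroup Ω'} {φ' : P' →* Ω'} (hφ' : φ' ∈ E'.Hom P') :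
    P' ≤ T' := (E'.le_of_mem hφ').1

end IsImgF

/-! ### Boundary with the frozen definitions -/

/-- Extension of a homomorphism on `S` to a plain function on the ambient group. -/
noncomputable def extFun {S : Subgroup Ω} (θ : S →* Ω') (x : Ω) : Ω' :=
  open Classical in if h : x ∈ S then θ ⟨x, h⟩ else 1

theorem extFun_eq {S : Subgroup Ω} (θ : S →* Ω') {x : Ω} (hx : x ∈ S) : extFun θ x = θ ⟨x, hx⟩ := by
  unfold extFun
  exact dif_pos hx

theorem extFun_coe {S : Subgroup Ω} (θ : S →* Ω') (x : S) : extFun θ x = θ x := extFun_eq θ x.2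

theorem homOn_extFun {S : Subgroup Ω} (θ : S →* Ω') (hinj : Function.Injective θ) : HomOn (extFun θ) S := by
  refine ⟨fun x hx y hy => ?_, fun x hx y hy h => ?_⟩
  · rw [extFun_eq θ hx, extFun_eq θ hy, extFun_eq θ (S.mul_mem hx hy), ← map_mul]
    rfl
  · rw [extFun_eq θ hx, extFun_eq θ hy] at h
    exact congrArg Subtype.val (hinj h)

theorem extFun_toHom {f : Ω → Ω'} {S : Subgroup Ω} (hf : HomOn f S) {x : Ω} (hx : x ∈ S) :
    extFun hf.toHom x = f x := by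
  rw [extFun_eq _ hx]
  rfl

theorem injective_of_ker_bot {S : Subgroup Ω} (θ : S →* Ω') (hker : ∀ s : S, θ s = 1 ↔ (s : Ω) ∈ (⊥ : Subgroup Ω)) :
    Function.Injective θ := by
  rw [injective_iff_map_eq_one]
  intro a ha
  have := (hker a).mp ha
  rw [Subgroup.mem_bot] at this
  exact Subtype.ext this

theorem ker_bot_of_injective {S : Subgroup Ω} (θ : S →* Ω') (hinj : Function.Injective θ) (s : S) :
    θ s = 1 ↔ (s : Ω) ∈ (⊥ : Subgroup Ω) := by
  rw [Subgroup.mem_bot]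
  constructor
  · intro h
    have : s = 1 := hinj (by rw [h, map_one])
    rw [this]
    rfl
  · intro h
    have : s = 1 := Subtype.ext h
    rw [this, map_one]

theorem isIm_extFun_range {S : Subgroup Ω} (θ : S →* Ω') : IsIm (extFun θ) S θ.range := by
  intro y
  constructor
  · rintro ⟨s, rfl⟩
    exact ⟨s, s.2, extFun_coe θ s⟩
  · rintro ⟨x, hx, rfl⟩
    rw [extFun_eq θ hx]
    exact ⟨_, rfl⟩

theorem inducedAlong_iff_ind {S : Subgroup Ω} (θ : S →* Ω') {P : Subgroup Ω} (φ : P →* Ω) {P' : Subgroup Ω'}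
    (φ' : P' →* Ω') (hP : P ≤ S) (hφ : ∀ x, φ x ∈ S) (hP' : ∀ x : P, extFun θ x ∈ P') :
    InducedAlong θ φ φ' ↔ Ind (extFun θ) φ φ' := by
  constructor
  · rintro ⟨hP, hφ, hP', hx⟩ x h
    rw [extFun_eq θ (hφ x)]
    rw [← hx x]
    congr 1
    exact Subtype.ext (extFun_eq θ (hP x.2))
  · intro h
    refine ⟨hP, hφ, fun x => ?_, fun x => ?_⟩
    · have := hP' x
      rwa [extFun_eq θ (hP x.2)] at this
    · have hx' := hP' x
      have := h x hx'
      rw [extFun_eq θ (hφ x)] at this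
      rw [← this]
      congr 1
      exact Subtype.ext (extFun_eq θ (hP x.2)).symm

/-- The two descriptions of the maps of the image system agree. -/
theorem factor_iff_img {T : Subgroup Ω} (E : FusionSystem T) {T' : Subgroup Ω'} {θ : T →* Ω'}
    (hf : HomOn (extFun θ) T) (him : IsIm (extFun θ) T T') (P' : Subgroup Ω') (φ' : P' →* Ω') :
    (P' ≤ T' ∧ ∃ φ ∈ E.Hom (preimageAlong θ P'), InducedAlong θ φ φ') ↔
      ∃ (P : Subgroup Ω) (φ : P →* Ω), φ ∈ E.Hom P ∧ IsIm (extFun θ) P P' ∧ Ind (extFun θ) φ φ' := by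
  constructor
  · rintro ⟨hP', φ, hφ, hind⟩
    have himP : IsIm (extFun θ) (preimageAlong θ P') P' := by
      intro y
      constructor
      · intro hy
        obtain ⟨x, hx, rfl⟩ := (him y).mp (hP' hy)
        refine ⟨x, (mem_preimageAlong θ P' x).mpr ⟨hx, ?_⟩, rfl⟩
        rwa [extFun_eq θ hx] at hy
      · rintro ⟨x, hx, rfl⟩
        obtain ⟨hxT, hx'⟩ := (mem_preimageAlong θ P' x).mp hx
        rwa [extFun_eq θ hxT]
    refine ⟨_, φ, hφ, himP, ?_⟩
    exact (inducedAlong_iff_ind θ φ φ' (E.le_of_mem hφ).1 (E.le_of_mem hφ).2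
      (fun x => himP.map_mem x.2)).mp hind
  · rintro ⟨P, φ, hφ, himP, hind⟩
    have hPT : P ≤ T := (E.le_of_mem hφ).1
    have hP' : P' ≤ T' := himP.le_right him hPT
    refine ⟨hP', ?_⟩
    have hEq : P = preimageAlong θ P' := by
      ext x
      rw [mem_preimageAlong]
      constructor
      · intro hx
        refine ⟨hPT hx, ?_⟩
        have := himP.map_mem hx
        rwa [extFun_eq θ (hPT hx)] at this
      · rintro ⟨hxT, hx⟩
        rw [← extFun_eq θ hxT] at hx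
        exact himP.mem_of_map_mem hf hPT hxT hx
    obtain ⟨ψ, hψ, hψx⟩ := exists_cast_hom E hEq hφ
    refine ⟨ψ, hψ, ?_⟩
    have himP2 : IsIm (extFun θ) (preimageAlong θ P') P' := by rw [← hEq]; exact himP
    rw [inducedAlong_iff_ind θ ψ φ' (E.le_of_mem hψ).1 (E.le_of_mem hψ).2 (fun x => himP2.map_mem x.2)]
    intro x hx
    have hxP : (x : Ω) ∈ P := by rw [hEq]; exact x.2
    have e : ψ x = φ ⟨x, hxP⟩ := hψx x hxP x.2
    rw [e]
    exact hind ⟨x, hxP⟩ hx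

/-- A factor system modulo the trivial subgroup is an image. -/
theorem isImgF_of_isFactorSystem {T : Subgroup Ω} {E : FusionSystem T} {T' : Subgroup Ω'} {E' : FusionSystem T'}
    {θ : T →* Ω'} (h : E.IsFactorSystem ⊥ θ E') : IsImgF (extFun θ) E E' := by
  obtain ⟨-, hker, hrange, hhom⟩ := h
  have hinj := injective_of_ker_bot θ hker
  have hf := homOn_extFun θ hinj
  have him : IsIm (extFun θ) T T' := by rw [← hrange]; exact isIm_extFun_range θ
  refine ⟨hf, him, fun P' φ' => ?_⟩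
  rw [hhom]
  exact factor_iff_img E hf him P' φ'

/-- An image along the extension of a homomorphism is a factor system modulo the trivial subgroup. -/
theorem isFactorSystem_of_isImgF_extFun {T : Subgroup Ω} {E : FusionSystem T} {T' : Subgroup Ω'}
    {E' : FusionSystem T'} {θ : T →* Ω'} (h : IsImgF (extFun θ) E E') : E.IsFactorSystem ⊥ θ E' := by
  have hinj : Function.Injective θ := by
    intro a b hab
    apply Subtype.ext
    apply h.hom.inj a a.2 b b.2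
    rw [extFun_coe, extFun_coe, hab]
  refine ⟨bot_le, ker_bot_of_injective θ hinj, (isIm_extFun_range θ).eq_right h.im, fun P' φ' => ?_⟩
  rw [h.iff]
  exact (factor_iff_img E h.hom h.im P' φ').symm

/-- An image is a factor system modulo the trivial subgroup, read through the genuine homomorphism. -/
theorem isFactorSystem_of_isImgF {f : Ω → Ω'} {T : Subgroup Ω} {E : FusionSystem T} {T' : Subgroup Ω'}
    {E' : FusionSystem T'} (h : IsImgF f E E') : E.IsFactorSystem ⊥ h.hom.toHom E' :=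
  isFactorSystem_of_isImgF_extFun (h.congr (fun _ hx => extFun_toHom h.hom hx))

/-- The image system exists. -/
theorem exists_isImgF {f : Ω → Ω'} {T : Subgroup Ω} [Finite T] (hf : HomOn f T) (E : FusionSystem T) :
    ∃ (T' : Subgroup Ω') (E' : FusionSystem T'), IsImgF f E E' := by
  have hker := ker_bot_of_injective hf.toHom hf.toHom_injective
  refine ⟨hf.toHom.range, factorSystem E hf.toHom hf.toHom.range ⊥ hker
    (Cfsg.Agent.Helper87.stronglyClosed_bot E) rfl, ?_⟩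
  have h1 := isImgF_of_isFactorSystem (isFactorSystem_factorSystem E hf.toHom hf.toHom.range ⊥ hker
    (Cfsg.Agent.Helper87.stronglyClosed_bot E) rfl)
  exact h1.congr (fun x hx => (extFun_toHom hf hx).symm)

end Cfsg.Agent.Helper85
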