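-- Transport of normal subsystems along an injective homomorphism (helper85).
import Cfsg.Agent.Helper85.Transport
import Cfsg.Agent.S5134
import Cfsg.Agent.S5119

set_option autoImplicit false

namespace Cfsg.Agent.Helper85

open Cfsg Cfsg.FusionSystem

variable {Ω : Type*} [Group Ω] {Ω' : Type*} [Group Ω'] {f : Ω → Ω'} {S T : Subgroup Ω} {F : FusionSystem S}
  {E : FusionSystem T} {S' T' : Subgroup Ω'} {F' : FusionSystem S'} {E' : FusionSystem T'}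

theorem isSubsystemOf_img (hF : IsImgF f F F') (hE : IsImgF f E E') (h : E.IsSubsystemOf F) :
    E'.IsSubsystemOf F' := by
  intro P' φ' hφ'
  obtain ⟨P, φ, hφ, him, hind⟩ := (hE.iff P' φ').mp hφ'
  exact (hF.iff P' φ').mpr ⟨P, φ, h P hφ, him, hind⟩

theorem stronglyClosed_img (hF : IsImgF f F F') {Q : Subgroup Ω} {Q' : Subgroup Ω'} (hQ' : IsIm f Q Q')
    (h : F.StronglyClosed Q) : F'.StronglyClosed Q' := by
  have hQS : Q ≤ S := h.1
  refine ⟨hQ'.le_right hF.im hQS, fun R' hR' φ' hφ' x' => ?_⟩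
  obtain ⟨R, φ, hφ, him, hind⟩ := (hF.iff R' φ').mp hφ'
  have hRS := (F.le_of_mem hφ).1
  have hRQ : R ≤ Q := IsIm.le_left hF.hom hRS hQS him hQ' hR'
  obtain ⟨x, hx, hxy⟩ := (him x').mp x'.2
  rw [hind.apply x' x hx hxy]
  exact hQ'.map_mem (h.2 R hRQ φ hφ ⟨x, hx⟩)

theorem finite_of_isIm {P : Subgroup Ω} {P' : Subgroup Ω'} [Finite P] (him : IsIm f P P') : Finite P' := by
  refine Finite.of_surjective (fun x : P => (⟨f x, him.map_mem x.2⟩ : P')) ?_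
  rintro ⟨y, hy⟩
  obtain ⟨x, hx, rfl⟩ := (him y).mp hy
  exact ⟨⟨x, hx⟩, rfl⟩

theorem isPGroup_of_isIm {p : ℕ} {P : Subgroup Ω} {P' : Subgroup Ω'} (hf : HomOn f P) (him : IsIm f P P')
    (hP : IsPGroup p P) : IsPGroup p P' := by
  refine hP.of_surjective (hf.toHom.codRestrict P' (fun x => him.map_mem x.2)) ?_
  rintro ⟨y, hy⟩
  obtain ⟨x, hx, rfl⟩ := (him y).mp hy
  exact ⟨⟨x, hx⟩, rfl⟩

theorem isIm_centralizerIn (hf : HomOn f S) (him : IsIm f S S') (hTS : T ≤ S) (himT : IsIm f T T') :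
    IsIm f (centralizerIn S T) (centralizerIn S' T') := by
  intro y
  unfold centralizerIn
  constructor
  · intro hy
    obtain ⟨hyS, hyC⟩ := Subgroup.mem_inf.mp hy
    obtain ⟨x, hx, rfl⟩ := (him y).mp hyS
    refine ⟨x, Subgroup.mem_inf.mpr ⟨hx, ?_⟩, rfl⟩
    rw [Subgroup.mem_centralizer_iff]
    intro t ht
    apply hf.inj _ (S.mul_mem (hTS ht) hx) _ (S.mul_mem hx (hTS ht))
    rw [hf.mul _ (hTS ht) _ hx, hf.mul _ hx _ (hTS ht)]
    exact (Subgroup.mem_centralizer_iff.mp hyC) (f t) (himT.map_mem ht)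
  · rintro ⟨x, hx, rfl⟩
    obtain ⟨hxS, hxC⟩ := Subgroup.mem_inf.mp hx
    refine Subgroup.mem_inf.mpr ⟨him.map_mem hxS, ?_⟩
    rw [Subgroup.mem_centralizer_iff]
    intro t' ht'
    obtain ⟨t, ht, rfl⟩ := (himT t').mp ht'
    rw [← hf.mul _ (hTS ht) _ hxS, ← hf.mul _ hxS _ (hTS ht)]
    exact congrArg f ((Subgroup.mem_centralizer_iff.mp hxC) t ht)

theorem isIm_sup (hf : HomOn f S) {P Q : Subgroup Ω} {P' Q' : Subgroup Ω'} (hP : P ≤ S) (hQ : Q ≤ S)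
    (h1 : IsIm f P P') (h2 : IsIm f Q Q') : IsIm f (P ⊔ Q) (P' ⊔ Q') := by
  have e : P' ⊔ Q' = imS hf (P ⊔ Q) := by
    rw [h1.eq_right (isIm_imS hf hP), h2.eq_right (isIm_imS hf hQ)]
    unfold imS imageAlong
    rw [Subgroup.subgroupOf_sup hP hQ, Subgroup.map_sup]
  rw [e]
  exact isIm_imS hf (sup_le hP hQ)

theorem map_mem_inf_centralizer (hf : HomOn f S) (hTS : T ≤ S) (himT : IsIm f T T') {z : Ω}
    (hz : z ∈ T ⊓ Subgroup.centralizer (T : Set Ω)) : f z ∈ T' ⊓ Subgroup.centralizer (T' : Set Ω') := by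
  obtain ⟨hzT, hzC⟩ := Subgroup.mem_inf.mp hz
  refine Subgroup.mem_inf.mpr ⟨himT.map_mem hzT, ?_⟩
  rw [Subgroup.mem_centralizer_iff]
  intro t' ht'
  obtain ⟨t, ht, rfl⟩ := (himT t').mp ht'
  rw [← hf.mul _ (hTS ht) _ (hTS hzT), ← hf.mul _ (hTS hzT) _ (hTS ht)]
  exact congrArg f ((Subgroup.mem_centralizer_iff.mp hzC) t ht)

open Cfsg.Agent.Helper88.FS in
/-- Strong invariance is carried to the image. -/
theorem strongInv_img (hF : IsImgF f F F') (hE : IsImgF f E E') (hTS : T ≤ S) (hSI : StrongInv E F) :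
    StrongInv E' F' := by
  intro P' Q' hPQ' hQ'T' φ' hφ' hφQ' ψ' hψ'
  have him_Q : IsIm f (preS hE.hom Q') Q' := isIm_preS hE.hom hE.im hQ'T'
  have him_P : IsIm f (preS hE.hom P') P' := isIm_preS hE.hom hE.im (hPQ'.trans hQ'T')
  have hQT : preS hE.hom Q' ≤ T := preS_le _ _
  have hPT : preS hE.hom P' ≤ T := preS_le _ _
  have hPQ : preS hE.hom P' ≤ preS hE.hom Q' := IsIm.le_left hE.hom hPT hQT him_P him_Q hPQ'
  obtain ⟨φ, hφ, hindφ⟩ := hE.pull hφ' hPT him_P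
  obtain ⟨ψ, hψ, hindψ⟩ := hF.pull hψ' (hQT.trans hTS) him_Q
  have hφQ : ∀ x : ↥(preS hE.hom P'), φ x ∈ preS hE.hom Q' := by
    intro x
    rw [mem_preS]
    refine ⟨(E.le_of_mem hφ).2 x, ?_⟩
    have hx' : f x ∈ P' := him_P.map_mem x.2
    rw [← hindφ x hx']
    exact hφQ' _
  obtain ⟨χ, hχ, hχx⟩ := hSI _ _ hPQ hQT φ hφ hφQ ψ hψ
  have himR : IsIm f (((preS hE.hom P').subgroupOf (preS hE.hom Q')).map ψ) ((P'.subgroupOf Q').map ψ') := by
    intro y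
    constructor
    · rintro ⟨z', hz', rfl⟩
      obtain ⟨x, hx, hxz⟩ := (him_P _).mp (Subgroup.mem_subgroupOf.mp hz')
      refine ⟨ψ ⟨x, hPQ hx⟩, ⟨⟨x, hPQ hx⟩, Subgroup.mem_subgroupOf.mpr hx, rfl⟩, ?_⟩
      exact (hindψ.apply z' x (hPQ hx) hxz).symm
    · rintro ⟨_, ⟨z, hz, rfl⟩, rfl⟩
      have hzP : (z : Ω) ∈ preS hE.hom P' := Subgroup.mem_subgroupOf.mp hz
      refine ⟨⟨f z, him_Q.map_mem z.2⟩, Subgroup.mem_subgroupOf.mpr (him_P.map_mem hzP), ?_⟩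
      exact hindψ z (him_Q.map_mem z.2)
  obtain ⟨χ', hχ', hindχ⟩ := hE.push hχ himR
  refine ⟨χ', hχ', fun x' hx' => ?_⟩
  obtain ⟨x, hx, hxx'⟩ := (him_P x').mp x'.2
  have e1 : ψ' (Subgroup.inclusion hPQ' x') = f (ψ ⟨x, hPQ hx⟩) := hindψ.apply _ x (hPQ hx) hxx'
  have hmem : ψ ⟨x, hPQ hx⟩ ∈ ((preS hE.hom P').subgroupOf (preS hE.hom Q')).map ψ :=
    ⟨⟨x, hPQ hx⟩, Subgroup.mem_subgroupOf.mpr hx, rfl⟩
  rw [hindχ.apply ⟨_, hx'⟩ (ψ ⟨x, hPQ hx⟩) hmem e1.symm]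
  have e2 : χ ⟨ψ ⟨x, hPQ hx⟩, hmem⟩ = ψ ⟨φ ⟨x, hx⟩, hφQ ⟨x, hx⟩⟩ := hχx ⟨x, hx⟩ hmem
  rw [e2]
  have e3 : φ' x' = f (φ ⟨x, hx⟩) := hindφ.apply x' x hx hxx'
  exact (hindψ.apply ⟨φ' x', hφQ' x'⟩ (φ ⟨x, hx⟩) (hφQ ⟨x, hx⟩) e3.symm).symm

/-- Saturation is carried to the image. -/
theorem isSaturated_img [Finite S] {p : ℕ} [Fact p.Prime] (hS : IsPGroup p S) (hF : IsImgF f F F')
    (hsat : F.IsSaturated p) : F'.IsSaturated p := by
  have hfs := isFactorSystem_of_isImgF hF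
  have hsm := Cfsg.Agent.S5134.result p hS F hsat ⊥ (Cfsg.Agent.Helper87.stronglyClosed_bot F) hF.hom.toHom F' hfs
  exact isSaturated_of_surjectiveMorphism F F' _ hS hsat hsm

open Cfsg.Agent.Helper87 in
/-- The extension condition is carried to the image. -/
theorem extension_img [Finite S] (hF : IsImgF f F F') (hE : IsImgF f E E') (hTS : T ≤ S)
    (hext : ∀ α ∈ E.autGroup T, ∃ β ∈ F.autGroup (T ⊔ centralizerIn S T),
      (∀ x : T, ((β (Subgroup.inclusion le_sup_left x) : ↥(T ⊔ centralizerIn S T)) : Ω) = ((α x : T) : Ω)) ∧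
      ∀ c : ↥(T ⊔ centralizerIn S T), (c : Ω) ∈ centralizerIn S T →
        (c : Ω)⁻¹ * ((β c : ↥(T ⊔ centralizerIn S T)) : Ω) ∈ T ⊓ Subgroup.centralizer (T : Set Ω)) :
    ∀ α' ∈ E'.autGroup T', ∃ β' ∈ F'.autGroup (T' ⊔ centralizerIn S' T'),
      (∀ x : T', ((β' (Subgroup.inclusion le_sup_left x) : ↥(T' ⊔ centralizerIn S' T')) : Ω') = ((α' x : T') : Ω')) ∧
      ∀ c : ↥(T' ⊔ centralizerIn S' T'), (c : Ω') ∈ centralizerIn S' T' →
        (c : Ω')⁻¹ * ((β' c : ↥(T' ⊔ centralizerIn S' T')) : Ω') ∈ T' ⊓ Subgroup.centralizer (T' : Set Ω') := by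
  intro α' hα'
  have hfinT : Finite T := finite_of_le hTS
  have ha' : T'.subtype.comp (α' : T' ≃* T').toMonoidHom ∈ E'.Hom T' := (mem_autGroup_iff E' le_rfl α').mp hα'
  obtain ⟨a, ha, hinda⟩ := hE.pull ha' le_rfl hE.im
  have hrange : a.range = T := by
    apply Subgroup.eq_of_le_of_card_ge
    · rintro _ ⟨x, rfl⟩
      exact (E.le_of_mem ha).2 x
    · rw [Cfsg.Agent.Helper88.FS.card_range_eq_of_mem E ha]
  have hα : isoOfRange E ha hrange ∈ E.autGroup T :=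
    (mem_autGroup_iff E le_rfl _).mpr (isIso_isoOfRange E ha hrange)
  obtain ⟨β, hβ, hβT, hβC⟩ := hext _ hα
  have hCS : centralizerIn S T ≤ S := inf_le_left
  have hBS : T ⊔ centralizerIn S T ≤ S := sup_le hTS hCS
  have hT'S' : T' ≤ S' := hE.im.le_right hF.im hTS
  have hB'S' : T' ⊔ centralizerIn S' T' ≤ S' := sup_le hT'S' inf_le_left
  have hb : (T ⊔ centralizerIn S T).subtype.comp
      (β : ↥(T ⊔ centralizerIn S T) ≃* ↥(T ⊔ centralizerIn S T)).toMonoidHom ∈ F.Hom (T ⊔ centralizerIn S T) :=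
    (mem_autGroup_iff F hBS β).mp hβ
  have himC : IsIm f (centralizerIn S T) (centralizerIn S' T') := isIm_centralizerIn hF.hom hF.im hTS hE.im
  have himB : IsIm f (T ⊔ centralizerIn S T) (T' ⊔ centralizerIn S' T') := isIm_sup hF.hom hTS hCS hE.im himC
  obtain ⟨b', hb', hindb⟩ := hF.push hb himB
  have hrange' : b'.range = T' ⊔ centralizerIn S' T' := by
    ext y
    constructor
    · rintro ⟨y', rfl⟩
      obtain ⟨z, hz, hzy⟩ := (himB y').mp y'.2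
      rw [hindb.apply y' z hz hzy]
      exact himB.map_mem (β ⟨z, hz⟩).2
    · intro hy
      obtain ⟨z, hz, rfl⟩ := (himB y).mp hy
      refine ⟨⟨f ((β.symm ⟨z, hz⟩ : ↥(T ⊔ centralizerIn S T)) : Ω), himB.map_mem (β.symm ⟨z, hz⟩).2⟩, ?_⟩
      rw [hindb.apply _ _ (β.symm ⟨z, hz⟩).2 rfl]
      show f ((β ⟨_, (β.symm ⟨z, hz⟩).2⟩ : ↥(T ⊔ centralizerIn S T)) : Ω) = f z
      rw [Subtype.coe_eta, MulEquiv.apply_symm_apply]
  have hβ' : isoOfRange F' hb' hrange' ∈ F'.autGroup (T' ⊔ centralizerIn S' T') :=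
    (mem_autGroup_iff F' hB'S' _).mpr (isIso_isoOfRange F' hb' hrange')
  refine ⟨_, hβ', fun x' => ?_, fun c' hc' => ?_⟩
  · obtain ⟨x, hx, hxx'⟩ := (hE.im x').mp x'.2
    rw [isoOfRange_apply]
    rw [hindb.apply (Subgroup.inclusion le_sup_left x') x ((le_sup_left : T ≤ T ⊔ centralizerIn S T) hx) hxx']
    have e1 : ((α' x' : T') : Ω') = f (a ⟨x, hx⟩) := hinda.apply x' x hx hxx'
    rw [e1]
    have e2 := hβT ⟨x, hx⟩
    rw [isoOfRange_apply] at e2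
    rw [← e2]
    rfl
  · obtain ⟨c, hc, hcc'⟩ := (himC c').mp hc'
    have hcB : c ∈ T ⊔ centralizerIn S T := (le_sup_right : centralizerIn S T ≤ T ⊔ centralizerIn S T) hc
    have h1 := hβC ⟨c, hcB⟩ hc
    rw [isoOfRange_apply, hindb.apply c' c hcB hcc', ← hcc', ← hF.hom.inv (hBS hcB)]
    have h2 : f c⁻¹ * f ((T ⊔ centralizerIn S T).subtype.comp
        (β : ↥(T ⊔ centralizerIn S T) ≃* ↥(T ⊔ centralizerIn S T)).toMonoidHom ⟨c, hcB⟩) =
        f (c⁻¹ * ((β ⟨c, hcB⟩ : ↥(T ⊔ centralizerIn S T)) : Ω)) :=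
      (hF.hom.mul _ (S.inv_mem (hBS hcB)) _ (hBS (β ⟨c, hcB⟩).2)).symm
    rw [h2]
    exact map_mem_inf_centralizer hF.hom hTS hE.im h1

/-- Normal subsystems are carried to normal subsystems of the image. -/
theorem isNormalIn_img [Finite S] {p : ℕ} [Fact p.Prime] (hS : IsPGroup p S) (hF : IsImgF f F F')
    (hE : IsImgF f E E') (h : E.IsNormalIn F p) : E'.IsNormalIn F' p := by
  obtain ⟨⟨hEsat, hFsat, hinv⟩, hext⟩ := h
  have hTS : T ≤ S := hinv.2.1.1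
  have hfinT : Finite T := Cfsg.Agent.Helper87.finite_of_le hTS
  have hT : IsPGroup p T := hS.to_le hTS
  have hfinS' : Finite S' := finite_of_isIm hF.im
  have hS' : IsPGroup p S' := isPGroup_of_isIm hF.hom hF.im hS
  have hF'sat := isSaturated_img hS hF hFsat
  have hE'sat := isSaturated_img hT hE hEsat
  have hsub' := isSubsystemOf_img hF hE hinv.1
  have hsc' := stronglyClosed_img hF hE.im hinv.2.1
  have hSI : Cfsg.Agent.Helper88.FS.StrongInv E F :=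
    (Cfsg.Agent.S5119.result p hS F hFsat E hinv.1 hinv.2.1).mp hinv
  have hSI' := strongInv_img hF hE hTS hSI
  have hinv' : E'.IsInvariantIn F' := (Cfsg.Agent.S5119.result p hS' F' hF'sat E' hsub' hsc').mpr hSI'
  exact ⟨⟨hE'sat, hF'sat, hinv'⟩, extension_img hF hE hTS hext⟩

end Cfsg.Agent.Helper85
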