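-- Uniqueness of saturated subsystems of p-power index over a given subgroup (helper85).
import Cfsg.Agent.Helper87.FusionInduct
import Cfsg.Agent.Helper87.FusionRS
import Cfsg.Agent.Helper87.FusionExtend
import Cfsg.Agent.Lib.Cores

set_option autoImplicit false

namespace Cfsg.Agent.Helper85

open Cfsg Cfsg.FusionSystem Cfsg.Agent.Helper87

/-- In a finite group `A` with a normal subgroup `N` such that `A/N` is a `p`-group, every element is the product of an element of
a given Sylow `p`-subgroup and an element of `N`. -/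
theorem exists_mul_of_sylow_of_isPGroup_quotient {A : Type*} [Group A] [Finite A] {p : ℕ} [Fact p.Prime]
    (N : Subgroup A) [N.Normal] (hq : IsPGroup p (A ⧸ N)) (P : Sylow p A) (a : A) :
    ∃ t ∈ (P : Subgroup A), ∃ n ∈ N, a = t * n := by
  have hsurj : Function.Surjective (QuotientGroup.mk' N) := QuotientGroup.mk'_surjective N
  have htop : (⊤ : Subgroup (A ⧸ N)) = (P.mapSurjective hsurj : Subgroup (A ⧸ N)) :=
    (P.mapSurjective hsurj).is_maximal' (hq.to_subgroup ⊤) le_top
  have hmem : QuotientGroup.mk' N a ∈ (P.mapSurjective hsurj : Subgroup (A ⧸ N)) := by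
    rw [← htop]
    exact Subgroup.mem_top _
  rw [Sylow.coe_mapSurjective] at hmem
  obtain ⟨t, ht, hta⟩ := hmem
  refine ⟨t, ht, t⁻¹ * a, ?_, by group⟩
  exact QuotientGroup.eq.1 hta

variable {Ω : Type*} [Group Ω] {S : Subgroup Ω}

theorem le_of_isSubsystemOf (F : FusionSystem S) {T : Subgroup Ω} (E : FusionSystem T) (h : E.IsSubsystemOf F) :
    T ≤ S :=
  (F.le_of_mem (h T (subtype_mem E le_rfl))).1

theorem autGroup_le_of_isSubsystemOf (F : FusionSystem S) {T : Subgroup Ω} (E : FusionSystem T)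
    (h : E.IsSubsystemOf F) {R : Subgroup Ω} (hRT : R ≤ T) : E.autGroup R ≤ F.autGroup R := by
  intro α hα
  rw [mem_autGroup_iff F (hRT.trans (le_of_isSubsystemOf F E h))]
  exact h R ((mem_autGroup_iff E hRT α).1 hα)

/-- Automorphisms induced by `T` belong to every fusion system over `T`. -/
theorem autInducedBy_le_autGroup {T : Subgroup Ω} (E : FusionSystem T) {R : Subgroup Ω} (hRT : R ≤ T) :
    autInducedBy T R ≤ E.autGroup R := by
  intro α hα
  obtain ⟨g, hg, hgx⟩ := (mem_autInducedBy_iff T R α).1 hα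
  rw [mem_autGroup_iff E hRT, eq_conjAut_of_conj_eq α g hgx]
  exact isIso_conjAut E hRT hg _

/-- If `E` has `p`-power index in `F` and `R` is fully automized in `E`, then `Aut_E(R) = O^p(Aut_F(R)) Aut_T(R)`; in particular
`Aut_E(R)` lies in `Aut_{E'}(R)` for every other subsystem `E'` over `T` of `p`-power index. -/
theorem autGroup_le_of_pPowerIndex [Finite S] {p : ℕ} [Fact p.Prime] (F : FusionSystem S) {T : Subgroup Ω}
    (E E' : FusionSystem T) (hE : E.HasPPowerIndexIn F p) (hE' : E'.HasPPowerIndexIn F p) {R : Subgroup Ω}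
    (hRa : E.IsFullyAutomized p R) : E.autGroup R ≤ E'.autGroup R := by
  obtain ⟨hRT, P, hP⟩ := hRa
  have hTS : T ≤ S := le_of_isSubsystemOf F E hE.1
  have hRS : R ≤ S := hRT.trans hTS
  have : Finite (MulAut R) := finite_mulAut_of_le hRS
  have hAF : E.autGroup R ≤ F.autGroup R := autGroup_le_of_isSubsystemOf F E hE.1 hRT
  have hN₀E : (pResidual p (F.autGroup R)).map (F.autGroup R).subtype ≤ E.autGroup R := hE.2.2 R hRT
  have hN₀E' : (pResidual p (F.autGroup R)).map (F.autGroup R).subtype ≤ E'.autGroup R := hE'.2.2 R hRT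
  let N : Subgroup (E.autGroup R) :=
    ((pResidual p (F.autGroup R)).map (F.autGroup R).subtype).subgroupOf (E.autGroup R)
  have hNmem : ∀ a : E.autGroup R, a ∈ N ↔ (⟨(a : MulAut R), hAF a.2⟩ : F.autGroup R) ∈ pResidual p (F.autGroup R) := by
    intro a
    constructor
    · rintro ⟨b, hb, hba⟩
      have : b = ⟨(a : MulAut R), hAF a.2⟩ := Subtype.ext hba
      rwa [← this]
    · intro h
      exact ⟨_, h, rfl⟩
  have hNn : N.Normal := by
    constructor
    intro n hn a
    rw [hNmem] at hn ⊢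
    have := (Cfsg.Agent.Lib.pResidual_normal (G := F.autGroup R) p).conj_mem _ hn ⟨(a : MulAut R), hAF a.2⟩
    exact this
  have hq : IsPGroup p (E.autGroup R ⧸ N) := by
    intro x
    obtain ⟨a, rfl⟩ := QuotientGroup.mk_surjective x
    obtain ⟨k, hk⟩ := Cfsg.Agent.Lib.isPGroup_quotient_pResidual (G := F.autGroup R) p
      (QuotientGroup.mk (⟨(a : MulAut R), hAF a.2⟩ : F.autGroup R))
    refine ⟨k, ?_⟩
    rw [← QuotientGroup.mk_pow, QuotientGroup.eq_one_iff] at hk ⊢
    rw [hNmem]
    exact hk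
  intro a ha
  obtain ⟨t, ht, n, hn, hatn⟩ := exists_mul_of_sylow_of_isPGroup_quotient N hq P ⟨a, ha⟩
  have hat : a = (t : MulAut R) * (n : MulAut R) := congrArg Subtype.val hatn
  rw [hat]
  apply Subgroup.mul_mem
  · rw [hP, Subgroup.mem_subgroupOf] at ht
    exact autInducedBy_le_autGroup E' hRT ht
  · apply hN₀E'
    exact hn

/-- Two saturated subsystems of `p`-power index over the same subgroup have the same maps. -/
theorem hom_eq_of_pPowerIndex [Finite S] {p : ℕ} [Fact p.Prime] (hS : IsPGroup p S) (F : FusionSystem S)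
    {T : Subgroup Ω} (E E' : FusionSystem T) (hEs : E.IsSaturated p) (hE's : E'.IsSaturated p)
    (hE : E.HasPPowerIndexIn F p) (hE' : E'.HasPPowerIndexIn F p) (P : Subgroup Ω) : E.Hom P = E'.Hom P := by
  have hTS : T ≤ S := le_of_isSubsystemOf F E hE.1
  have : Finite T := finite_of_le hTS
  have hT : IsPGroup p T := hS.to_le hTS
  apply Set.Subset.antisymm
  · exact hom_subset_of_autGroup_le hT E E' hEs
      (fun R hRa _ _ => autGroup_le_of_pPowerIndex F E E' hE hE' hRa) P
  · exact hom_subset_of_autGroup_le hT E' E hE's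
      (fun R hRa _ _ => autGroup_le_of_pPowerIndex F E' E hE' hE hRa) P

/-- The same over two equal subgroups. -/
theorem hom_eq_of_pPowerIndex' [Finite S] {p : ℕ} [Fact p.Prime] (hS : IsPGroup p S) (F : FusionSystem S)
    {T T' : Subgroup Ω} (h : T = T') (E : FusionSystem T) (E' : FusionSystem T') (hEs : E.IsSaturated p)
    (hE's : E'.IsSaturated p) (hE : E.HasPPowerIndexIn F p) (hE' : E'.HasPPowerIndexIn F p) (P : Subgroup Ω) :
    E.Hom P = E'.Hom P := by
  subst h
  exact hom_eq_of_pPowerIndex hS F E E' hEs hE's hE hE' P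

end Cfsg.Agent.Helper85
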