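import Cfsg.Agent.Helper85.DirectFactor2
import Cfsg.Agent.Helper87.InducedAut
set_option autoImplicit false

namespace Cfsg.Agent.Helper85

open Cfsg Cfsg.FusionSystem Cfsg.Agent.Helper87 Cfsg.Agent.Helper88.FS

/-- An automorphism `γ` of order prime to the orders of the elements of `P`, preserving a normal subgroup `N`, and such
that `γ` fixes `x⁻¹ γ(x)` modulo `N`, fixes `x` modulo `N`. -/
theorem mem_of_apply_eq_mul_of_coprime {P : Type*} [Group P] (γ : MulAut P) (N : Subgroup P) [N.Normal]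
    (hN : ∀ n ∈ N, γ n ∈ N) (hN' : ∀ n ∈ N, γ⁻¹ n ∈ N) (m : ℕ) (hm : γ ^ m = 1)
    (hcop : ∀ y : P, Nat.Coprime m (orderOf y))
    (x t : P) (hxt : γ x = x * t) (ht : t⁻¹ * γ t ∈ N) : t ∈ N := by
  have hf : Function.Surjective (QuotientGroup.mk' N) := QuotientGroup.mk'_surjective N
  have hker : ∀ y : P, QuotientGroup.mk' N y = 1 ↔ y ∈ N := fun y => QuotientGroup.eq_one_iff y
  let γ' : MulAut (P ⧸ N) := inducedAut (QuotientGroup.mk' N) hf γ
    (fun y hy => (hker _).mpr (hN y ((hker y).mp hy))) (fun y hy => (hker _).mpr (hN' y ((hker y).mp hy)))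
  have hγ' : ∀ y : P, γ' (QuotientGroup.mk' N y) = QuotientGroup.mk' N (γ y) := fun y =>
    inducedAut_apply (QuotientGroup.mk' N) hf γ _ _ y
  have ht' : γ' (QuotientGroup.mk' N t) = QuotientGroup.mk' N t := by
    rw [hγ']
    have e : γ t = t * (t⁻¹ * γ t) := by group
    rw [e, map_mul, (hker _).mpr ht, mul_one]
  have htk : ∀ k : ℕ, (γ' ^ k) (QuotientGroup.mk' N t) = QuotientGroup.mk' N t := by
    intro k
    induction k with
    | zero => simp
    | succ k ih => rw [pow_succ, MulAut.mul_apply, ht', ih]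
  have hxk : ∀ k : ℕ, (γ' ^ k) (QuotientGroup.mk' N x) =
      QuotientGroup.mk' N x * (QuotientGroup.mk' N t) ^ k := by
    intro k
    induction k with
    | zero => simp
    | succ k ih =>
      rw [pow_succ, MulAut.mul_apply, hγ', hxt, map_mul, map_mul, ih, htk, pow_succ, mul_assoc]
  have hpow : ∀ (k : ℕ) (y : P), (γ' ^ k) (QuotientGroup.mk' N y) = QuotientGroup.mk' N ((γ ^ k) y) := by
    intro k
    induction k with
    | zero => intro y; simp
    | succ k ih =>
      intro y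
      rw [pow_succ, MulAut.mul_apply, hγ', ih, pow_succ, MulAut.mul_apply]
  have h1 := hxk m
  rw [hpow m x, hm, MulAut.one_apply] at h1
  have h2 : (QuotientGroup.mk' N t) ^ m = 1 := by
    have := h1.symm
    rwa [mul_eq_left] at this
  rw [← map_pow, hker] at h2
  obtain ⟨u, hu⟩ := exists_pow_eq_self_of_coprime (hcop t)
  rw [← hu]
  exact N.pow_mem h2 u

variable {Ω : Type*} [Group Ω] {S : Subgroup Ω}

/-- The invariance clause of `IsInvariantIn`, in the `AutInv` form. -/
theorem autInv_of_isInvariantIn {T : Subgroup Ω} {E : FusionSystem T} {F : FusionSystem S}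
    (h : E.IsInvariantIn F) : AutInv E (F.autGroup T) := by
  intro P hPT θ hθ α hα P' hP'
  have hP'eq : P' = (P.subgroupOf T).map (T.subtype.comp α.toMonoidHom) := by
    ext y
    rw [hP' y]
    exact ((imgT_spec α hPT) y).symm
  subst hP'eq
  obtain ⟨χ, hχ, hχx⟩ := h.2.2.1 P hPT θ hθ α hα
  exact ⟨χ, hχ, fun x hx hθx => hχx x hθx hx⟩

/-- Transport of automorphisms of an invariant system along an automorphism of the underlying group. -/
theorem congr_mem_autGroup_of_autInv {T : Subgroup Ω} {E : FusionSystem T} {A : Subgroup (MulAut T)}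
    (hAI : AutInv E A) {α : MulAut T} (hα : α ∈ A) {P : Subgroup Ω} (hPT : P ≤ T) {γ : MulAut P}
    (hγ : γ ∈ E.autGroup P) :
    MulAut.congr (restrictIso (α : T ≃* T) hPT) γ ∈ E.autGroup (imageSub (α : T ≃* T) P) := by
  have hP'T := imageSub_le (α : T ≃* T) P
  rw [mem_autGroup_iff E hP'T]
  have hγ' := (mem_autGroup_iff E hPT γ).mp hγ
  unfold IsIso at *
  obtain ⟨χ, hχ, hχx⟩ := hAI hPT hγ' hα (imageSub (α : T ≃* T) P) (imgT_spec α hPT)
  refine mem_of_eq E hχ (fun y => ?_)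
  obtain ⟨x, rfl⟩ := (restrictIso (α : T ≃* T) hPT).surjective y
  have h1 := hχx x (restrictIso (α : T ≃* T) hPT x).2 (hPT (γ x).2)
  show ((restrictIso (α : T ≃* T) hPT (γ ((restrictIso (α : T ≃* T) hPT).symm
    (restrictIso (α : T ≃* T) hPT x))) : imageSub (α : T ≃* T) P) : Ω) = χ (restrictIso (α : T ≃* T) hPT x)
  rw [MulEquiv.symm_apply_apply]
  exact h1.symm

/-- The homomorphism `Aut_E(P) → Aut_E(α P)` given by transport along `α`. -/
noncomputable def autTransportInv {T : Subgroup Ω} {E : FusionSystem T} {A : Subgroup (MulAut T)}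
    (hAI : AutInv E A) {α : MulAut T} (hα : α ∈ A) {P : Subgroup Ω} (hPT : P ≤ T) :
    E.autGroup P →* E.autGroup (imageSub (α : T ≃* T) P) :=
  ((MulAut.congr (restrictIso (α : T ≃* T) hPT)).toMonoidHom.comp (E.autGroup P).subtype).codRestrict _
    (fun γ => congr_mem_autGroup_of_autInv hAI hα hPT γ.2)

/-- The hyperfocal subgroup of an invariant system is invariant. -/
theorem apply_mem_hyperfocalSubgroup_of_autInv {T : Subgroup Ω} (E : FusionSystem T) (p : ℕ)
    {A : Subgroup (MulAut T)} (hAI : AutInv E A) {α : MulAut T} (hα : α ∈ A) {y : Ω}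
    (hy : y ∈ E.hyperfocalSubgroup p) (hyT : y ∈ T) : ((α ⟨y, hyT⟩ : T) : Ω) ∈ E.hyperfocalSubgroup p := by
  have hle : E.hyperfocalSubgroup p ≤
      ((((E.hyperfocalSubgroup p).subgroupOf T).comap α.toMonoidHom).map T.subtype) := by
    conv_lhs => unfold hyperfocalSubgroup
    rw [Subgroup.closure_le]
    rintro _ ⟨P, γ, x, hPT, hγ, rfl⟩
    have hmemT : (x : Ω)⁻¹ * ((γ : MulAut P) x : P) ∈ T := T.mul_mem (T.inv_mem (hPT x.2)) (hPT ((γ : MulAut P) x).2)
    refine ⟨⟨_, hmemT⟩, ?_, rfl⟩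
    show ((α ⟨(x : Ω)⁻¹ * ((γ : MulAut P) x : P), hmemT⟩ : T) : Ω) ∈ E.hyperfocalSubgroup p
    have hγ' : autTransportInv hAI hα hPT γ ∈ pResidual p (E.autGroup (imageSub (α : T ≃* T) P)) :=
      pResidual_map_le (autTransportInv hAI hα hPT) (Subgroup.mem_map_of_mem _ hγ)
    have h1 := mem_hyperfocalSubgroup E p (imageSub_le (α : T ≃* T) P) _ hγ' (restrictIso (α : T ≃* T) hPT x)
    have e1 : (⟨(x : Ω)⁻¹ * ((γ : MulAut P) x : P), hmemT⟩ : T) =
        (⟨x, hPT x.2⟩ : T)⁻¹ * ⟨((γ : MulAut P) x : P), hPT ((γ : MulAut P) x).2⟩ := Subtype.ext rfl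
    rw [e1, map_mul, map_inv]
    have e2 : (((autTransportInv hAI hα hPT γ : E.autGroup (imageSub (α : T ≃* T) P)) :
        MulAut ↥(imageSub (α : T ≃* T) P)) (restrictIso (α : T ≃* T) hPT x)) =
        restrictIso (α : T ≃* T) hPT ((γ : MulAut P) x) := by
      show restrictIso (α : T ≃* T) hPT ((γ : MulAut P) ((restrictIso (α : T ≃* T) hPT).symm
        (restrictIso (α : T ≃* T) hPT x))) = _
      rw [MulEquiv.symm_apply_apply]
    rw [e2] at h1
    exact h1
  obtain ⟨z, hz, hzy⟩ := hle hy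
  have : z = ⟨y, hyT⟩ := Subtype.ext hzy
  rw [← this]
  exact hz

/-- The hyperfocal subgroup of a saturated invariant subsystem is strongly closed in the big system. -/
theorem stronglyClosed_hyperfocalSubgroup_of_isInvariantIn [Finite S] {p : ℕ} [Fact p.Prime] (hS : IsPGroup p S)
    (F : FusionSystem S) {T : Subgroup Ω} (E : FusionSystem T) (hEs : E.IsSaturated p)
    (hEF : E.IsInvariantIn F) : F.StronglyClosed (E.hyperfocalSubgroup p) := by
  have hTS : T ≤ S := hEF.2.1.1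
  have : Finite T := finite_of_le hTS
  have hTp : IsPGroup p T := hS.to_le hTS
  have hU := stronglyClosed_hyperfocalSubgroup hTp E hEs
  have hAI : AutInv E (F.autGroup T) := autInv_of_isInvariantIn hEF
  refine ⟨hU.1.trans hTS, fun R hR φ hφ x => ?_⟩
  obtain ⟨α, hα, φ₀, hφ₀, hx⟩ := hEF.2.2.2 R (hR.trans hU.1) φ hφ
  have h1 : φ₀ x ∈ E.hyperfocalSubgroup p := hU.2 R hR φ₀ hφ₀ x
  have h2 := apply_mem_hyperfocalSubgroup_of_autInv E p hAI hα h1 (hU.1 h1)
  rw [hx x (hU.1 h1)]
  exact h2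

/-- For a saturated invariant subsystem `E` of `p`-power index in `F`, the hyperfocal subgroup of `F` lies in that of `E`. -/
theorem hyperfocalSubgroup_le_of_isInvariantIn [Finite S] {p : ℕ} [Fact p.Prime] (hS : IsPGroup p S)
    (F : FusionSystem S) {T : Subgroup Ω} (E : FusionSystem T) (hEs : E.IsSaturated p)
    (hEF : E.IsInvariantIn F) (hEi : E.HasPPowerIndexIn F p) :
    F.hyperfocalSubgroup p ≤ E.hyperfocalSubgroup p := by
  have hT : F.StronglyClosed T := hEF.2.1
  have hTS : T ≤ S := hT.1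
  have hU : F.StronglyClosed (E.hyperfocalSubgroup p) :=
    stronglyClosed_hyperfocalSubgroup_of_isInvariantIn hS F E hEs hEF
  conv_lhs => unfold hyperfocalSubgroup
  rw [Subgroup.closure_le]
  rintro _ ⟨P, γ, x, hPS, hγ, rfl⟩
  have hle : pResidual p (F.autGroup P) ≤ modStab F hU hPS := by
    unfold pResidual
    rw [Subgroup.closure_le]
    intro γ hγ
    have hγc : Nat.Coprime (orderOf γ) p := hγ
    have hγres : γ ∈ pResidual p (F.autGroup P) := Subgroup.subset_closure hγ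
    rw [SetLike.mem_coe, mem_modStab_iff]
    intro x
    have hPp : IsPGroup p P := hS.to_le hPS
    -- the normal subgroup `N = U ∩ P` of `P`
    have hNn : ((E.hyperfocalSubgroup p).subgroupOf P).Normal := by
      refine ⟨fun n hn g => ?_⟩
      rw [Subgroup.mem_subgroupOf] at hn ⊢
      exact conj_mem_of_stronglyClosed F hU (hPS g.2) hn
    have hN : ∀ n ∈ (E.hyperfocalSubgroup p).subgroupOf P,
        (γ : MulAut P) n ∈ (E.hyperfocalSubgroup p).subgroupOf P := by
      intro n hn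
      rw [Subgroup.mem_subgroupOf] at hn ⊢
      exact aut_mem_of_stronglyClosed F hU hPS γ.2 n hn
    have hN' : ∀ n ∈ (E.hyperfocalSubgroup p).subgroupOf P,
        (γ : MulAut P)⁻¹ n ∈ (E.hyperfocalSubgroup p).subgroupOf P := by
      intro n hn
      rw [Subgroup.mem_subgroupOf] at hn ⊢
      exact aut_mem_of_stronglyClosed F hU hPS ((F.autGroup P).inv_mem γ.2) n hn
    have hm : (γ : MulAut P) ^ (orderOf γ) = 1 := by
      rw [← Subgroup.coe_pow, pow_orderOf_eq_one]
      rfl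
    have hcop : ∀ y : P, Nat.Coprime (orderOf γ) (orderOf y) := by
      intro y
      obtain ⟨k, hk⟩ := (IsPGroup.iff_orderOf.mp hPp) y
      rw [hk]
      exact Nat.Coprime.pow_right k hγc
    -- `t = x⁻¹ γ(x)` lies in `P ∩ T`
    have htT : (x : Ω)⁻¹ * (((γ : MulAut P) x : P) : Ω) ∈ T :=
      hEi.2.1 (mem_hyperfocalSubgroup F p hPS γ hγres x)
    have hinv : ∀ δ ∈ F.autGroup P, ∀ y : P, ((δ y : P) : Ω) ∈ P ⊓ T ↔ (y : Ω) ∈ P ⊓ T := by
      intro δ hδ y
      constructor
      · intro h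
        exact ⟨y.2, (aut_mem_iff_of_stronglyClosed F hT hPS hδ y).mp h.2⟩
      · intro h
        exact ⟨(δ y).2, (aut_mem_iff_of_stronglyClosed F hT hPS hδ y).mpr h.2⟩
    have hγ₀c : Nat.Coprime (orderOf (resAutHom F hPS inf_le_left hinv γ)) p :=
      Nat.Coprime.coprime_dvd_left (orderOf_map_dvd _ γ) hγc
    have hγ₀res : resAutHom F hPS inf_le_left hinv γ ∈ pResidual p (F.autGroup (P ⊓ T)) :=
      Subgroup.subset_closure hγ₀c
    have hγ₀E : ((resAutHom F hPS inf_le_left hinv γ : F.autGroup (P ⊓ T)) : MulAut ↥(P ⊓ T)) ∈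
        E.autGroup (P ⊓ T) := hEi.2.2 _ inf_le_right (Subgroup.mem_map_of_mem _ hγ₀res)
    have hγ₁c : Nat.Coprime (orderOf (⟨_, hγ₀E⟩ : E.autGroup (P ⊓ T))) p := by
      rw [Subgroup.orderOf_mk, Subgroup.orderOf_coe]
      exact hγ₀c
    have hγ₁res : (⟨_, hγ₀E⟩ : E.autGroup (P ⊓ T)) ∈ pResidual p (E.autGroup (P ⊓ T)) :=
      Subgroup.subset_closure hγ₁c
    have h1 := mem_hyperfocalSubgroup E p inf_le_right _ hγ₁res
      ⟨(x : Ω)⁻¹ * (((γ : MulAut P) x : P) : Ω), ⟨P.mul_mem (P.inv_mem x.2) ((γ : MulAut P) x).2, htT⟩⟩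
    have key := mem_of_apply_eq_mul_of_coprime (γ : MulAut P) ((E.hyperfocalSubgroup p).subgroupOf P)
      hN hN' (orderOf γ) hm hcop x (x⁻¹ * (γ : MulAut P) x) (by group) (by
        rw [Subgroup.mem_subgroupOf]
        exact h1)
    rw [Subgroup.mem_subgroupOf] at key
    exact key
  exact (mem_modStab_iff F hU hPS γ).mp (hle hγ) x

end Cfsg.Agent.Helper85
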