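import Cfsg.Agent.Helper87.FusionSolv2
import Cfsg.Agent.Helper85.HyperfocalNormal
import Cfsg.Agent.S5157
set_option autoImplicit false

/-!
Solvable fusion systems and normal subsystems: `F` is solvable iff a normal subsystem `E` over `T` and the factor system
`F/T` are solvable.
-/

namespace Cfsg.Agent.Helper85

open Cfsg Cfsg.FusionSystem Cfsg.Agent.Helper87 Cfsg.Agent.Helper88.FS
open scoped commutatorElement

variable {Ω : Type*} [Group Ω] {S : Subgroup Ω} {Ω' : Type*} [Group Ω']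

/-- Above every proper strongly closed subgroup there is a strictly larger one with abelian quotient. -/
def StepProp (F : FusionSystem S) : Prop :=
  ∀ T : Subgroup Ω, F.StronglyClosed T → T ≠ S →
    ∃ T' : Subgroup Ω, F.StronglyClosed T' ∧ T < T' ∧ ⁅T', T'⁆ ≤ T

theorem isSolvableSystem_iff_stepProp [Finite S] {p : ℕ} [Fact p.Prime] (hS : IsPGroup p S) (F : FusionSystem S)
    (hF : F.IsSaturated p) : F.IsSolvableSystem ↔ StepProp F := by
  constructor
  · intro h T hT hTS
    exact exists_stronglyClosed_gt_of_solvable hS F hF h hT hTS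
  · intro h
    obtain ⟨n, T, h0, hlast, -, hsc, hcomm⟩ := exists_chain_of_step F h
    exact isSolvableSystem_of_chain hS F hF T h0 hlast hsc hcomm

/-- The step property passes to factor systems. -/
theorem stepProp_factor [Finite S] {p : ℕ} [Fact p.Prime] (hS : IsPGroup p S) (F : FusionSystem S)
    (hF : F.IsSaturated p) {R : Subgroup Ω} (hR : F.StronglyClosed R) {S' : Subgroup Ω'} (θ : S →* Ω')
    (D : FusionSystem S') (hD : F.IsFactorSystem R θ D) (h : StepProp F) : StepProp D := by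
  intro A' hA' hA'S'
  have hrange : θ.range = S' := hD.2.2.1
  have hA : F.StronglyClosed (preimageAlong θ A') := stronglyClosed_preimageAlong hS F hF hR θ D hD hA'
  have hA'le : A' ≤ θ.range := by rw [hrange]; exact hA'.1
  have himg : imageAlong θ (preimageAlong θ A') = A' := imageAlong_preimageAlong θ hA'le
  have hAS : preimageAlong θ A' ≠ S := by
    intro hEq
    apply hA'S'
    apply le_antisymm hA'.1
    intro s' hs'
    rw [← hrange] at hs'
    obtain ⟨s, rfl⟩ := hs'
    have hs : (s : Ω) ∈ preimageAlong θ A' := by rw [hEq]; exact s.2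
    obtain ⟨_, h2⟩ := (mem_preimageAlong θ A' _).mp hs
    exact h2
  obtain ⟨A₁, hA₁, hlt, hcomm⟩ := h _ hA hAS
  refine ⟨imageAlong θ A₁, stronglyClosed_imageAlong hS F hF hR θ D hD hA₁, ?_, ?_⟩
  · rw [← himg]
    refine lt_of_le_of_ne (imageAlong_mono θ hlt.le) ?_
    intro hEq
    apply not_le_of_gt hlt
    intro x hx
    have hxS : x ∈ S := hA₁.1 hx
    rw [mem_preimageAlong]
    refine ⟨hxS, ?_⟩
    have h1 : θ ⟨x, hxS⟩ ∈ imageAlong θ A₁ := (mem_imageAlong θ A₁ _).mpr ⟨⟨x, hxS⟩, hx, rfl⟩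
    rw [← hEq, himg] at h1
    exact h1
  · rw [Subgroup.commutator_le]
    intro a ha b hb
    obtain ⟨s, hs, rfl⟩ := (mem_imageAlong θ A₁ a).mp ha
    obtain ⟨t, ht, rfl⟩ := (mem_imageAlong θ A₁ b).mp hb
    have h1 : ⁅(s : Ω), (t : Ω)⁆ ∈ preimageAlong θ A' := hcomm (Subgroup.commutator_mem_commutator hs ht)
    rw [← map_commutatorElement]
    obtain ⟨h3, h4⟩ := (mem_preimageAlong θ A' _).mp h1
    have h5 : (⟨⁅(s : Ω), (t : Ω)⁆, h3⟩ : S) = ⁅s, t⁆ := Subtype.ext rfl
    rw [← h5]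
    exact h4

/-- A saturated subsystem of a solvable system is solvable. -/
theorem isSolvableSystem_of_subsystem [Finite S] {p : ℕ} [Fact p.Prime] (hS : IsPGroup p S) (F : FusionSystem S)
    (hF : F.IsSaturated p) (hsolv : F.IsSolvableSystem) {T : Subgroup Ω} (E : FusionSystem T)
    (hEs : E.IsSaturated p) (hEF : E.IsSubsystemOf F) : E.IsSolvableSystem := by
  obtain ⟨n, Tch, h0, hlast, -, hsc, hcomm⟩ := (Cfsg.Agent.S5157.result p hS F hF).mp hsolv
  have hTS : T ≤ S := le_of_isSubsystemOf F E hEF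
  have hfin : Finite T := finite_of_le hTS
  refine isSolvableSystem_of_chain (hS.to_le hTS) E hEs (fun i => Tch i ⊓ T) ?_ ?_ ?_ ?_
  · show Tch 0 ⊓ T = ⊥
    rw [h0, bot_inf_eq]
  · show Tch (Fin.last n) ⊓ T = T
    rw [hlast]
    exact inf_eq_right.mpr hTS
  · intro i
    exact ⟨inf_le_right, fun R hR φ hφ x =>
      ⟨(hsc i).2 R (hR.trans inf_le_left) φ (hEF R hφ) x, (E.le_of_mem hφ).2 x⟩⟩
  · intro i
    show ⁅Tch i.succ ⊓ T, Tch i.succ ⊓ T⁆ ≤ Tch (Fin.castSucc i) ⊓ T
    refine le_inf ((Subgroup.commutator_mono inf_le_left inf_le_left).trans (hcomm i)) ?_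
    rw [Subgroup.commutator_le]
    intro a ha b hb
    rw [commutatorElement_def]
    exact T.mul_mem (T.mul_mem (T.mul_mem ha.2 hb.2) (T.inv_mem ha.2)) (T.inv_mem hb.2)

section Canonical

variable {T : Subgroup Ω}

theorem commutator_self_le (X : Subgroup Ω) : ⁅X, X⁆ ≤ X := by
  rw [Subgroup.commutator_le]
  intro a ha b hb
  rw [commutatorElement_def]
  exact X.mul_mem (X.mul_mem (X.mul_mem ha hb) (X.inv_mem ha)) (X.inv_mem hb)

/-- The canonical descending series of strongly closed subgroups with abelian quotients. -/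
def dser (E : FusionSystem T) : ℕ → Subgroup Ω
  | 0 => T
  | (i + 1) => sInf {R | E.StronglyClosed R ∧ ⁅dser E i, dser E i⁆ ≤ R}

theorem stronglyClosed_sInf (E : FusionSystem T) {𝓡 : Set (Subgroup Ω)} (h : ∀ R ∈ 𝓡, E.StronglyClosed R)
    (hne : 𝓡.Nonempty) : E.StronglyClosed (sInf 𝓡) := by
  obtain ⟨R₀, hR₀⟩ := hne
  refine ⟨(sInf_le hR₀).trans (h R₀ hR₀).1, fun R hR φ hφ x => ?_⟩
  rw [Subgroup.mem_sInf]
  intro Y hY
  exact (h Y hY).2 R (hR.trans (sInf_le hY)) φ hφ x

theorem stronglyClosed_dser (E : FusionSystem T) (i : ℕ) : E.StronglyClosed (dser E i) := by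
  induction i with
  | zero => exact stronglyClosed_self E
  | succ i ih =>
    refine stronglyClosed_sInf E (fun R hR => hR.1) ⟨T, stronglyClosed_self E, ?_⟩
    exact (commutator_self_le _).trans ih.1

theorem dser_le (E : FusionSystem T) (i : ℕ) : dser E i ≤ T := (stronglyClosed_dser E i).1

theorem commutator_dser_le (E : FusionSystem T) (i : ℕ) : ⁅dser E i, dser E i⁆ ≤ dser E (i + 1) :=
  le_sInf (fun _ hR => hR.2)

theorem dser_succ_le (E : FusionSystem T) (i : ℕ) : dser E (i + 1) ≤ dser E i :=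
  sInf_le ⟨stronglyClosed_dser E i, commutator_self_le _⟩

theorem dser_succ_le_of (E : FusionSystem T) (i : ℕ) {R : Subgroup Ω} (hR : E.StronglyClosed R)
    (h : ⁅dser E i, dser E i⁆ ≤ R) : dser E (i + 1) ≤ R := sInf_le ⟨hR, h⟩

/-- `X` is stable under the group `A` of automorphisms of `T`. -/
def AutStable (A : Subgroup (MulAut T)) (X : Subgroup Ω) : Prop :=
  ∀ α ∈ A, ∀ x : T, (x : Ω) ∈ X → ((α x : T) : Ω) ∈ X

theorem stronglyClosed_imgT (E : FusionSystem T) (A : Subgroup (MulAut T)) (hinv : AutInv E A) {α : MulAut T}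
    (hα : α ∈ A) {R : Subgroup Ω} (hR : E.StronglyClosed R) : E.StronglyClosed (imgT α R) := by
  refine ⟨imgT_le α R, fun P' hP' ψ hψ y => ?_⟩
  have hP'T : P' ≤ T := hP'.trans (imgT_le α R)
  have htr : Transportable E α⁻¹ hP'T ψ := hinv hP'T hψ (A.inv_mem hα)
  obtain ⟨χ, hχ, hχx⟩ := htr (imgT α⁻¹ P') (imgT_spec α⁻¹ hP'T)
  have hP''R : imgT α⁻¹ P' ≤ R := by
    intro z hz
    obtain ⟨x, hx, rfl⟩ := (mem_imgT_iff α⁻¹ P' z).mp hz
    obtain ⟨r, hr, hrx⟩ := (mem_imgT_iff α R _).mp (hP' hx)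
    have : x = α r := Subtype.ext hrx.symm
    rw [this, MulAut.inv_apply_self]
    exact hr
  have hψT : ψ y ∈ T := (E.le_of_mem hψ).2 y
  have hy' : ((α⁻¹ ⟨(y : Ω), hP'T y.2⟩ : T) : Ω) ∈ imgT α⁻¹ P' := apply_mem_imgT α⁻¹ ⟨(y : Ω), hP'T y.2⟩ y.2
  have h1 := hχx y hy' hψT
  have h2 : χ ⟨((α⁻¹ ⟨(y : Ω), hP'T y.2⟩ : T) : Ω), hy'⟩ ∈ R := hR.2 _ hP''R χ hχ _
  rw [h1] at h2
  rw [mem_imgT_iff]
  refine ⟨α⁻¹ ⟨ψ y, hψT⟩, h2, ?_⟩
  rw [MulAut.apply_inv_self]

theorem autStable_dser (E : FusionSystem T) (A : Subgroup (MulAut T)) (hinv : AutInv E A) (i : ℕ) :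
    AutStable A (dser E i) := by
  induction i with
  | zero =>
    intro α _ x _
    exact (α x).2
  | succ i ih =>
    intro α hα x hx
    show ((α x : T) : Ω) ∈ sInf {R | E.StronglyClosed R ∧ ⁅dser E i, dser E i⁆ ≤ R}
    rw [Subgroup.mem_sInf]
    rintro R ⟨hRsc, hRc⟩
    have hR' : dser E (i + 1) ≤ imgT α⁻¹ R := by
      refine dser_succ_le_of E i (stronglyClosed_imgT E A hinv (A.inv_mem hα) hRsc) ?_
      rw [Subgroup.commutator_le]
      intro a ha b hb
      have haT : a ∈ T := dser_le E i ha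
      have hbT : b ∈ T := dser_le E i hb
      rw [mem_imgT_iff]
      refine ⟨α ⁅(⟨a, haT⟩ : T), ⟨b, hbT⟩⁆, ?_, ?_⟩
      · rw [map_commutatorElement]
        have h1 : ((α ⟨a, haT⟩ : T) : Ω) ∈ dser E i := ih α hα ⟨a, haT⟩ ha
        have h2 : ((α ⟨b, hbT⟩ : T) : Ω) ∈ dser E i := ih α hα ⟨b, hbT⟩ hb
        exact hRc (Subgroup.commutator_mem_commutator h1 h2)
      · rw [MulAut.inv_apply_self]
        rfl
    obtain ⟨r, hr, hrx⟩ := (mem_imgT_iff α⁻¹ R _).mp (hR' hx)
    have : x = α⁻¹ r := Subtype.ext hrx.symm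
    rw [this, MulAut.apply_inv_self]
    exact hr

theorem stronglyClosed_of_autStable {F : FusionSystem S} {E : FusionSystem T} (hEF : E.IsInvariantIn F)
    {X : Subgroup Ω} (hX : E.StronglyClosed X) (hst : AutStable (F.autGroup T) X) : F.StronglyClosed X := by
  refine ⟨hX.1.trans hEF.2.1.1, fun R hR φ hφ x => ?_⟩
  obtain ⟨α, hα, φ₀, hφ₀, h⟩ := hEF.2.2.2 R (hR.trans hX.1) φ hφ
  have hφ₀T := (E.le_of_mem hφ₀).2 x
  rw [h x hφ₀T]
  exact hst α hα ⟨φ₀ x, hφ₀T⟩ (hX.2 R hR φ₀ hφ₀ x)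

theorem exists_dser_eq_bot [Finite T] (E : FusionSystem T) (hstep : StepProp E) : ∃ n, dser E n = ⊥ := by
  -- the series stabilizes
  have hstab : ∃ i, dser E (i + 1) = dser E i := by
    by_contra hno
    push Not at hno
    have hlt : ∀ i, dser E (i + 1) < dser E i := fun i => lt_of_le_of_ne (dser_succ_le E i) (hno i)
    have hcard : ∀ i, Nat.card (dser E i) + i ≤ Nat.card T := by
      intro i
      induction i with
      | zero => exact le_of_eq rfl
      | succ i ih =>
        have : Finite (dser E i) := finite_of_le (dser_le E i)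
        have := card_lt_card_of_lt (hlt i)
        omega
    have h1 := hcard (Nat.card T + 1)
    omega
  obtain ⟨i, hi⟩ := hstab
  refine ⟨i, ?_⟩
  by_contra hY
  have key : ∀ k : ℕ, ∀ R : Subgroup Ω, E.StronglyClosed R → ¬ dser E i ≤ R → Nat.card T - Nat.card R ≤ k →
      False := by
    intro k
    induction k with
    | zero =>
      intro R hR hYR hk
      have hRT : R ≠ T := fun h => hYR (h ▸ dser_le E i)
      obtain ⟨R', hR', hlt, -⟩ := hstep R hR hRT
      have : Finite R' := finite_of_le hR'.1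
      have h1 := card_lt_card_of_lt hlt
      have h2 : Nat.card R' ≤ Nat.card T := Subgroup.card_le_of_le hR'.1
      omega
    | succ k ih =>
      intro R hR hYR hk
      have hRT : R ≠ T := fun h => hYR (h ▸ dser_le E i)
      obtain ⟨R', hR', hlt, hcomm⟩ := hstep R hR hRT
      have : Finite R' := finite_of_le hR'.1
      have h1 := card_lt_card_of_lt hlt
      have h2 : Nat.card R' ≤ Nat.card T := Subgroup.card_le_of_le hR'.1
      by_cases hYR' : dser E i ≤ R'
      · apply hYR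
        rw [← hi]
        exact dser_succ_le_of E i hR ((Subgroup.commutator_mono hYR' hYR').trans hcomm)
      · exact ih R' hR' hYR' (by omega)
  refine key (Nat.card T) ⊥ (stronglyClosed_bot E) ?_ (Nat.sub_le _ _)
  intro h
  exact hY (le_bot_iff.mp h)

end Canonical

theorem commutator_sup_self_le {A X Sg : Subgroup Ω} (hAn : Sg ≤ Subgroup.normalizer (A : Set Ω)) (hA : A ≤ Sg)
    (hX : X ≤ Sg) (hXX : ⁅X, X⁆ ≤ A) : ⁅A ⊔ X, A ⊔ X⁆ ≤ A := by
  have hAA : ⁅A, A⁆ ≤ A := commutator_self_le A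
  have hXA : ⁅X, A⁆ ≤ A := commutator_le_of_le_normalizer (hX.trans hAn)
  have hAX : ⁅A, X⁆ ≤ A := by rw [Subgroup.commutator_comm]; exact hXA
  have h1 : ⁅A ⊔ X, A⁆ ≤ A := commutator_sup_le hAA hXA (hA.trans hAn) (hX.trans hAn)
  have h2 : ⁅A ⊔ X, X⁆ ≤ A := commutator_sup_le hAX hXX (hA.trans hAn) (hX.trans hAn)
  have h1' : ⁅A, A ⊔ X⁆ ≤ A := by rw [Subgroup.commutator_comm]; exact h1
  have h2' : ⁅X, A ⊔ X⁆ ≤ A := by rw [Subgroup.commutator_comm]; exact h2
  exact commutator_sup_le h1' h2' (hA.trans hAn) (hX.trans hAn)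

/-- The step property for a system with an invariant subsystem `E` over `T`, from `E` and the factor system modulo `T`. -/
theorem stepProp_of_normal [Finite S] {p : ℕ} [Fact p.Prime] (hS : IsPGroup p S) (F : FusionSystem S)
    (hF : F.IsSaturated p) {T : Subgroup Ω} (E : FusionSystem T) (hE : E.IsInvariantIn F) {S' : Subgroup Ω'}
    (θ : S →* Ω') (D : FusionSystem S') (hD : F.IsFactorSystem T θ D) (hEstep : StepProp E)
    (hDstep : StepProp D) : StepProp F := by
  intro A hA hAS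
  have hT : F.StronglyClosed T := hE.2.1
  have hTS : T ≤ S := hT.1
  have hker := hD.2.1
  have hrange : θ.range = S' := hD.2.2.1
  by_cases hTA : T ≤ A
  · have hA' : D.StronglyClosed (imageAlong θ A) := stronglyClosed_imageAlong hS F hF hT θ D hD hA
    have hkerA : kerAlong θ ≤ A := by
      intro x hx
      have hxS := kerAlong_le θ hx
      have h1 := (mem_kerAlong θ ⟨x, hxS⟩).mpr hx
      exact hTA ((hker ⟨x, hxS⟩).mp h1)
    have hpre : preimageAlong θ (imageAlong θ A) = A := preimageAlong_imageAlong θ hA.1 hkerA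
    have hA'S' : imageAlong θ A ≠ S' := by
      intro hEq
      apply hAS
      apply le_antisymm hA.1
      intro s hs
      rw [← hpre, mem_preimageAlong]
      refine ⟨hs, ?_⟩
      rw [hEq, ← hrange]
      exact ⟨⟨s, hs⟩, rfl⟩
    obtain ⟨A₁', hA₁', hlt, hcomm⟩ := hDstep _ hA' hA'S'
    have hA₁'le : A₁' ≤ θ.range := by rw [hrange]; exact hA₁'.1
    have hle : A ≤ preimageAlong θ A₁' := by
      calc A = preimageAlong θ (imageAlong θ A) := hpre.symm
        _ ≤ preimageAlong θ A₁' := preimageAlong_mono θ hlt.le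
    have hne : A ≠ preimageAlong θ A₁' := by
      intro hEq
      apply hlt.ne
      calc imageAlong θ A = imageAlong θ (preimageAlong θ A₁') := by rw [← hEq]
        _ = A₁' := imageAlong_preimageAlong θ hA₁'le
    refine ⟨preimageAlong θ A₁', stronglyClosed_preimageAlong hS F hF hT θ D hD hA₁', lt_of_le_of_ne hle hne, ?_⟩
    rw [Subgroup.commutator_le]
    intro a ha b hb
    obtain ⟨haS, haA⟩ := (mem_preimageAlong θ A₁' a).mp ha
    obtain ⟨hbS, hbA⟩ := (mem_preimageAlong θ A₁' b).mp hb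
    rw [← hpre, mem_preimageAlong]
    have habS : ⁅a, b⁆ ∈ S := by
      rw [commutatorElement_def]
      exact S.mul_mem (S.mul_mem (S.mul_mem haS hbS) (S.inv_mem haS)) (S.inv_mem hbS)
    refine ⟨habS, ?_⟩
    have h5 : (⟨⁅a, b⁆, habS⟩ : S) = ⁅(⟨a, haS⟩ : S), ⟨b, hbS⟩⁆ := Subtype.ext rfl
    rw [h5, map_commutatorElement]
    exact hcomm (Subgroup.commutator_mem_commutator haA hbA)
  · have hfinT : Finite T := finite_of_le hTS
    obtain ⟨n, hn⟩ := exists_dser_eq_bot E hEstep
    have hex : ∃ i, dser E i ≤ A := ⟨n, by rw [hn]; exact bot_le⟩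
    classical
    have hi : dser E (Nat.find hex) ≤ A := Nat.find_spec hex
    have hi0 : Nat.find hex ≠ 0 := by
      intro h0
      apply hTA
      have h1 := hi
      rw [h0] at h1
      exact h1
    obtain ⟨j, hj⟩ := Nat.exists_eq_succ_of_ne_zero hi0
    have hjA : ¬ dser E j ≤ A := Nat.find_min hex (by omega)
    have hXsc : F.StronglyClosed (dser E j) :=
      stronglyClosed_of_autStable hE (stronglyClosed_dser E j)
        (autStable_dser E _ (autInv_of_isInvariantIn hE) j)
    have hXX : ⁅dser E j, dser E j⁆ ≤ A := by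
      refine (commutator_dser_le E j).trans ?_
      have h1 := hi
      rw [hj] at h1
      exact h1
    refine ⟨A ⊔ dser E j, Cfsg.Agent.S5128.result p hS F hF A (dser E j) hA hXsc, ?_, ?_⟩
    · exact lt_of_le_of_ne le_sup_left (fun h => hjA (by rw [h]; exact le_sup_right))
    · exact commutator_sup_self_le (le_normalizer_of_stronglyClosed F hA) hA.1 hXsc.1 hXX

/-- For `E` normal in `F` over `T` and `D` the factor system of `F` modulo `T`: `F` is solvable iff `E` and `D` are. -/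
theorem isSolvableSystem_iff_of_normal [Finite S] {p : ℕ} [Fact p.Prime] (hS : IsPGroup p S) (F : FusionSystem S)
    (hF : F.IsSaturated p) {T : Subgroup Ω} (E : FusionSystem T) (hE : E.IsNormalIn F p) {S' : Subgroup Ω'}
    (θ : S →* Ω') (D : FusionSystem S') (hD : F.IsFactorSystem T θ D) :
    F.IsSolvableSystem ↔ (E.IsSolvableSystem ∧ D.IsSolvableSystem) := by
  have hEs : E.IsSaturated p := hE.1.1
  have hinv : E.IsInvariantIn F := hE.1.2.2
  have hT : F.StronglyClosed T := hinv.2.1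
  have hTS : T ≤ S := hT.1
  have hfinT : Finite T := finite_of_le hTS
  have hTp : IsPGroup p T := hS.to_le hTS
  have hsurj := Cfsg.Agent.S5134.result p hS F hF T hT θ D hD
  have hDs : D.IsSaturated p := Cfsg.Agent.S5133.result p hS F hF D θ hsurj
  have hrange : θ.range = S' := hD.2.2.1
  subst hrange
  have hfinS' : Finite θ.range := Finite.of_surjective θ.rangeRestrict θ.rangeRestrict_surjective
  have hS'p : IsPGroup p θ.range := hS.of_surjective θ.rangeRestrict θ.rangeRestrict_surjective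
  constructor
  · intro h
    refine ⟨isSolvableSystem_of_subsystem hS F hF h E hEs hinv.1, ?_⟩
    rw [isSolvableSystem_iff_stepProp hS'p D hDs]
    exact stepProp_factor hS F hF hT θ D hD ((isSolvableSystem_iff_stepProp hS F hF).mp h)
  · rintro ⟨h1, h2⟩
    rw [isSolvableSystem_iff_stepProp hS F hF]
    exact stepProp_of_normal hS F hF E hinv θ D hD ((isSolvableSystem_iff_stepProp hTp E hEs).mp h1)
      ((isSolvableSystem_iff_stepProp hS'p D hDs).mp h2)

end Cfsg.Agent.Helper85
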