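-- Transport of subnormal subsystems; images of subnormal subsystems under maps of the system (helper85).
import Cfsg.Agent.Helper85.TransportNormal
import Cfsg.Agent.Helper88.FusionInvariant
import Cfsg.Agent.S5153

set_option autoImplicit false

namespace Cfsg.Agent.Helper85

open Cfsg Cfsg.FusionSystem

variable {Ω : Type*} [Group Ω]

theorem isSubnormalIn_of_eq {T S : Subgroup Ω} (E : FusionSystem T) (F : FusionSystem S) (p : ℕ) (h : T = S)
    (hHom : ∀ P : Subgroup Ω, E.Hom P = F.Hom P) : E.IsSubnormalIn F p := by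
  subst h
  have : E = F := Cfsg.Agent.Helper87.fusionSystem_ext hHom
  subst this
  exact IsSubnormalIn.refl E p

/-- Subnormal subsystems are carried to subnormal subsystems of the image. -/
theorem isSubnormalIn_img {T S : Subgroup Ω} {E : FusionSystem T} {F : FusionSystem S} {p : ℕ}
    (h : E.IsSubnormalIn F p) : ∀ [Fact p.Prime], Finite S → IsPGroup p S →
      ∀ {Ω' : Type*} [Group Ω'] (f : Ω → Ω') {S' T' : Subgroup Ω'} (F' : FusionSystem S') (E' : FusionSystem T'),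
        IsImgF f F F' → IsImgF f E E' → E'.IsSubnormalIn F' p := by
  induction h with
  | refl F p =>
    intro _ _ _ Ω' _ f S' T' F' E' hF hE
    obtain ⟨hTS, hHom⟩ := hE.hom_eq hF
    exact isSubnormalIn_of_eq E' F' p hTS hHom
  | step hED hDF ih =>
    intro _ hfin hS Ω' _ f S' T' F' E' hF hE
    have hUS := hDF.1.2.2.2.1.1
    have hfinU := Cfsg.Agent.Helper87.finite_of_le hUS
    have hU := hS.to_le hUS
    obtain ⟨U', D', hD'⟩ := exists_isImgF (hF.hom.mono hUS) _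
    have hD'F' := isNormalIn_img hS hF hD' hDF
    have hE'D' := ih hfinU hU f D' E' hD' hE
    exact IsSubnormalIn.step hE'D' hD'F'

open Cfsg.Agent.Helper87 Cfsg.Agent.Helper88.FS in
/-- An automorphism of `T` in the big system carries an invariant subsystem over `T` onto itself. -/
theorem isImgF_aut {S T : Subgroup Ω} {E : FusionSystem T} {F : FusionSystem S} (hEF : E.IsInvariantIn F)
    {α : MulAut T} (hα : α ∈ F.autGroup T) {g : Ω → Ω} (hg : ∀ x : T, g x = ((α x : T) : Ω)) :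
    IsImgF g E E := by
  have hgT : ∀ x (hx : x ∈ T), g x = ((α ⟨x, hx⟩ : T) : Ω) := fun x hx => hg ⟨x, hx⟩
  have hhom : HomOn g T := by
    refine ⟨fun x hx y hy => ?_, fun x hx y hy h => ?_⟩
    · rw [hgT x hx, hgT y hy, hgT _ (T.mul_mem hx hy)]
      show ((α (⟨x, hx⟩ * ⟨y, hy⟩) : T) : Ω) = _
      rw [map_mul]
      rfl
    · rw [hgT x hx, hgT y hy] at h
      exact congrArg Subtype.val (α.injective (Subtype.ext h))
  have him : ∀ P, P ≤ T → IsIm g P (imgT α P) := by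
    intro P hPT y
    rw [mem_imgT_iff]
    constructor
    · rintro ⟨x, hx, rfl⟩
      exact ⟨x, hx, hg x⟩
    · rintro ⟨x, hx, rfl⟩
      exact ⟨⟨x, hPT hx⟩, hx, (hgT x (hPT hx)).symm⟩
  have himT : IsIm g T T := by
    intro y
    constructor
    · intro hy
      refine ⟨(α.symm ⟨y, hy⟩ : T), (α.symm ⟨y, hy⟩).2, ?_⟩
      rw [hg, MulEquiv.apply_symm_apply]
    · rintro ⟨x, hx, rfl⟩
      rw [hgT x hx]
      exact (α _).2
  refine ⟨hhom, himT, fun P' φ' => ⟨fun hφ' => ?_, ?_⟩⟩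
  · have hP'T : P' ≤ T := (E.le_of_mem hφ').1
    have hαinv : α⁻¹ ∈ F.autGroup T := (F.autGroup T).inv_mem hα
    obtain ⟨χ, hχ, hχx⟩ := exists_transport hEF hP'T hφ' hαinv
    have hcancel : ∀ z : T, g ((α⁻¹ z : T) : Ω) = z := by
      intro z
      rw [hg]
      show ((α (α⁻¹ z) : T) : Ω) = z
      rw [MulAut.apply_inv_self]
    refine ⟨imgT α⁻¹ P', χ, hχ, ?_, ?_⟩
    · intro y
      constructor
      · intro hy
        exact ⟨((α⁻¹ ⟨y, hP'T hy⟩ : T) : Ω), apply_mem_imgT α⁻¹ ⟨y, hP'T hy⟩ hy, hcancel _⟩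
      · rintro ⟨x, hx, rfl⟩
        obtain ⟨z, hz, rfl⟩ := (mem_imgT_iff α⁻¹ P' x).mp hx
        rw [hcancel]
        exact hz
    · intro x h
      obtain ⟨z, hz, hzx⟩ := (mem_imgT_iff α⁻¹ P' x).mp x.2
      have e1 : g x = z := by rw [← hzx, hcancel]
      have hφz : φ' ⟨z, hz⟩ ∈ T := (E.le_of_mem hφ').2 _
      have e2 : χ x = ((α⁻¹ ⟨φ' ⟨z, hz⟩, hφz⟩ : T) : Ω) := by
        have := hχx z hz (by rw [hzx]; exact x.2) hφz
        rw [← this]
        congr 1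
        exact Subtype.ext hzx.symm
      rw [e2, hcancel]
      congr 1
      exact Subtype.ext e1
  · rintro ⟨P, φ, hφ, himP, hind⟩
    have hPT := (E.le_of_mem hφ).1
    obtain ⟨χ, hχ, hχx⟩ := exists_transport hEF hPT hφ hα
    have hEq : imgT α P = P' := (him P hPT).eq_right himP
    subst hEq
    have hχφ : χ = φ' := by
      refine ind_unique himP ?_ hind
      intro x h
      have e := hgT x (hPT x.2)
      have hφT := (E.le_of_mem hφ).2 x
      rw [hgT _ hφT]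
      have := hχx ⟨x, hPT x.2⟩ x.2 (by rw [← e]; exact h) hφT
      rw [← this]
      congr 1
      exact Subtype.ext e
    rw [← hχφ]
    exact hχ

section comp

variable {Ω₁ : Type*} [Group Ω₁] {Ω₂ : Type*} [Group Ω₂]

theorem isIm_comp_of {g₀ : Ω → Ω₁} {θ : Ω₁ → Ω₂} {g : Ω → Ω₂} {P : Subgroup Ω} {P₀ : Subgroup Ω₁}
    {P₂ : Subgroup Ω₂} (h1 : IsIm g₀ P P₀) (h2 : IsIm θ P₀ P₂) (hg : ∀ x ∈ P, g x = θ (g₀ x)) : IsIm g P P₂ := by
  intro y
  rw [h2 y]
  constructor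
  · rintro ⟨z, hz, rfl⟩
    obtain ⟨x, hx, rfl⟩ := (h1 z).mp hz
    exact ⟨x, hx, hg x hx⟩
  · rintro ⟨x, hx, rfl⟩
    exact ⟨g₀ x, h1.map_mem hx, (hg x hx).symm⟩

theorem isIm_of_comp {g₀ : Ω → Ω₁} {θ : Ω₁ → Ω₂} {g : Ω → Ω₂} {P : Subgroup Ω} {P₀ : Subgroup Ω₁}
    {P₂ : Subgroup Ω₂} (h1 : IsIm g₀ P P₀) (h2 : IsIm g P P₂) (hg : ∀ x ∈ P, g x = θ (g₀ x)) : IsIm θ P₀ P₂ := by
  intro y
  rw [h2 y]
  constructor
  · rintro ⟨x, hx, rfl⟩
    exact ⟨g₀ x, h1.map_mem hx, (hg x hx).symm⟩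
  · rintro ⟨z, hz, rfl⟩
    obtain ⟨x, hx, rfl⟩ := (h1 z).mp hz
    exact ⟨x, hx, hg x hx⟩

/-- If `g = θ ∘ g₀` on `T`, the image of `C` under `g` is the image under `θ` of the image of `C` under `g₀`. -/
theorem isImgF_of_comp {T : Subgroup Ω} {C : FusionSystem T} {g₀ : Ω → Ω₁} {T₀ : Subgroup Ω₁}
    {E₀ : FusionSystem T₀} (h₀ : IsImgF g₀ C E₀) {θ : Ω₁ → Ω₂} (hθ : HomOn θ T₀) {g : Ω → Ω₂}
    (hg : ∀ x ∈ T, g x = θ (g₀ x)) {T₂ : Subgroup Ω₂} {E : FusionSystem T₂} (hE : IsImgF g C E) :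
    IsImgF θ E₀ E := by
  refine ⟨hθ, isIm_of_comp h₀.im hE.im hg, fun P₂ φ₂ => ?_⟩
  rw [hE.iff]
  constructor
  · rintro ⟨P, φ, hφ, him, hind⟩
    have hPT := (C.le_of_mem hφ).1
    have hφT := (C.le_of_mem hφ).2
    have him₀ : IsIm g₀ P (imS h₀.hom P) := isIm_imS h₀.hom hPT
    obtain ⟨φ₀, hφ₀, hind₀⟩ := h₀.push hφ him₀
    refine ⟨_, φ₀, hφ₀, isIm_of_comp him₀ him (fun x hx => hg x (hPT hx)), ?_⟩
    intro z h
    obtain ⟨x, hx, hxz⟩ := (him₀ z).mp z.2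
    rw [hind₀.apply z x hx hxz, ← hg _ (hφT _)]
    have hgx : g x = θ z := by rw [hg x (hPT hx), hxz]
    exact hind.apply ⟨θ z, h⟩ x hx hgx
  · rintro ⟨P₀, φ₀, hφ₀, him, hind⟩
    have hP₀T₀ := (E₀.le_of_mem hφ₀).1
    have him₀ : IsIm g₀ (preS h₀.hom P₀) P₀ := isIm_preS h₀.hom h₀.im hP₀T₀
    have hPT : preS h₀.hom P₀ ≤ T := preS_le _ _
    obtain ⟨φ, hφ, hind₀⟩ := h₀.pull hφ₀ hPT him₀
    have hφT := (C.le_of_mem hφ).2
    refine ⟨_, φ, hφ, isIm_comp_of him₀ him (fun x hx => hg x (hPT hx)), ?_⟩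
    intro x h
    have hgx : g x = θ (g₀ x) := hg x (hPT x.2)
    have hz : g₀ x ∈ P₀ := him₀.map_mem x.2
    have hz' : θ ((⟨g₀ x, hz⟩ : P₀) : Ω₁) ∈ P₂ := by rw [← hgx]; exact h
    have e1 := hind ⟨g₀ x, hz⟩ hz'
    rw [hind₀ x hz, ← hg _ (hφT x)] at e1
    rw [← e1]
    congr 1
    exact Subtype.ext hgx

end comp

open Cfsg.Agent.Helper87 Cfsg.Agent.Helper88.FS in
/-- A fusion system is strongly invariant in itself. -/
theorem strongInv_self {S : Subgroup Ω} (F : FusionSystem S) : StrongInv F F := by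
  intro P Q hPQ hQS φ hφ hφQ ψ hψ
  have hres : ψ.comp (Subgroup.inclusion hPQ) ∈ F.Hom P := Cfsg.Agent.Helper87.restrict_mem F hψ hPQ
  have hrange : (ψ.comp (Subgroup.inclusion hPQ)).range = (P.subgroupOf Q).map ψ := by
    ext y
    constructor
    · rintro ⟨x, rfl⟩
      exact ⟨Subgroup.inclusion hPQ x, Subgroup.mem_subgroupOf.mpr x.2, rfl⟩
    · rintro ⟨z, hz, rfl⟩
      exact ⟨⟨z, Subgroup.mem_subgroupOf.mp hz⟩, rfl⟩
  have he := isIso_isoOfRange F hres hrange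
  have hξ : ψ.comp (φ.codRestrict Q hφQ) ∈ F.Hom P := F.comp_mem hφ hψ hφQ
  refine ⟨_, comp_iso_mem F he.symm hξ, fun x hx => ?_⟩
  show ψ (φ.codRestrict Q hφQ ((isoOfRange F hres hrange).symm ⟨ψ (Subgroup.inclusion hPQ x), hx⟩)) = _
  have : (isoOfRange F hres hrange).symm ⟨ψ (Subgroup.inclusion hPQ x), hx⟩ = x := by
    rw [MulEquiv.symm_apply_eq]
    exact Subtype.ext rfl
  rw [this]
  rfl

/-- A map of the system defined on all of `S` carries the system onto itself. -/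
theorem isImgF_self_of_mem {S : Subgroup Ω} [Finite S] {p : ℕ} [Fact p.Prime] (hS : IsPGroup p S)
    (F : FusionSystem S) (hFsat : F.IsSaturated p) {γ : S →* Ω} (hγ : γ ∈ F.Hom S) : IsImgF (extFun γ) F F := by
  have hinv : F.IsInvariantIn F :=
    (Cfsg.Agent.S5119.result p hS F hFsat F (fun _ _ h => h) ⟨le_rfl, fun R _ φ hφ x => (F.le_of_mem hφ).2 x⟩).mpr
      (strongInv_self F)
  have hrange : γ.range = S := by
    apply Subgroup.eq_of_le_of_card_ge
    · rintro _ ⟨x, rfl⟩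
      exact (F.le_of_mem hγ).2 x
    · rw [Cfsg.Agent.Helper88.FS.card_range_eq_of_mem F hγ]
  have hα := (Cfsg.Agent.Helper87.mem_autGroup_iff F le_rfl _).mpr
    (Cfsg.Agent.Helper87.isIso_isoOfRange F hγ hrange)
  exact isImgF_aut hinv hα (g := extFun γ) (fun x => extFun_coe γ x)

/-- The image of a subnormal subsystem under a map of the big system is subnormal. -/
theorem isSubnormalIn_img_hom {T S : Subgroup Ω} {C : FusionSystem T} {F : FusionSystem S} {p : ℕ}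
    (h : C.IsSubnormalIn F p) : ∀ [Fact p.Prime], Finite S → IsPGroup p S → F.IsSaturated p →
      ∀ (γ : T →* Ω), γ ∈ F.Hom T → ∀ {T' : Subgroup Ω} (E : FusionSystem T'), IsImgF (extFun γ) C E →
        E.IsSubnormalIn F p := by
  induction h with
  | refl F p =>
    intro _ hfin hS hFsat γ hγ T' E hE
    have hFF := isImgF_self_of_mem hS F hFsat hγ
    obtain ⟨hTS, hHom⟩ := hE.hom_eq hFF
    exact isSubnormalIn_of_eq E F p hTS hHom
  | step hCD hDF ih =>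
    intro _ hfin hS hFsat γ hγ T' E hE
    have hTU := Cfsg.Agent.S5153.le_of_isSubnormalIn hCD
    have hDinv := hDF.1.2.2
    have hUS := hDinv.2.1.1
    have hfinU := Cfsg.Agent.Helper87.finite_of_le hUS
    have hU := hS.to_le hUS
    have hDsat := hDF.1.1
    obtain ⟨α, hα, γ₀, hγ₀, hγx⟩ := hDinv.2.2.2 _ hTU γ hγ
    have hfinT := Cfsg.Agent.Helper87.finite_of_le (hTU.trans hUS)
    obtain ⟨T₀, E₀, hE₀⟩ := exists_isImgF (homOn_extFun γ₀ (FusionSystem.injective_of_mem _ hγ₀)) _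
    have hE₀D := ih hfinU hU hDsat γ₀ hγ₀ E₀ hE₀
    have hDD := isImgF_aut hDinv hα (g := extFun (Subgroup.subtype _ |>.comp α.toMonoidHom))
      (fun x => extFun_coe _ x)
    have hT₀U := Cfsg.Agent.S5153.le_of_isSubnormalIn hE₀D
    have hE₀E := isImgF_of_comp hE₀ (hDD.hom.mono hT₀U) (g := extFun γ) (fun x hx => by
      have hγ₀U := (FusionSystem.le_of_mem _ hγ₀).2 ⟨x, hx⟩
      rw [extFun_eq γ hx, extFun_eq γ₀ hx, extFun_eq _ hγ₀U]
      exact hγx ⟨x, hx⟩ hγ₀U) hE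
    have hED := isSubnormalIn_img hE₀D hfinU hU _ _ E hDD hE₀E
    exact IsSubnormalIn.step hED hDF

end Cfsg.Agent.Helper85
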