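-- Transport of simple and quasisimple fusion systems along an injective homomorphism (helper85).
import Cfsg.Agent.Helper85.TransportSubnormal
import Cfsg.Agent.Helper87.FusionQuot3
import Cfsg.Agent.S5084
import Cfsg.Agent.S5144
import Cfsg.Agent.S5148

set_option autoImplicit false

namespace Cfsg.Agent.Helper85

open Cfsg Cfsg.FusionSystem

variable {Ω : Type*} [Group Ω] {Ω₁ : Type*} [Group Ω₁] {Ω₂ : Type*} [Group Ω₂]

/-- `E'` over `S'` is the factor system of `F` modulo `S₀`, read through the plain function `f`. -/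
structure IsFacF (f : Ω → Ω₁) (S₀ : Subgroup Ω) {S : Subgroup Ω} (F : FusionSystem S) {S' : Subgroup Ω₁}
    (E' : FusionSystem S') : Prop where
  mul : ∀ x ∈ S, ∀ y ∈ S, f (x * y) = f x * f y
  ker : ∀ x ∈ S, f x = 1 ↔ x ∈ S₀
  le : S₀ ≤ S
  im : IsIm f S S'
  iff : ∀ (P' : Subgroup Ω₁) (φ' : P' →* Ω₁), φ' ∈ E'.Hom P' ↔ P' ≤ S' ∧
    ∃ (P : Subgroup Ω) (φ : P →* Ω), φ ∈ F.Hom P ∧ (∀ x, x ∈ P ↔ x ∈ S ∧ f x ∈ P') ∧ Ind f φ φ'

namespace IsFacF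

variable {f : Ω → Ω₁} {S₀ S : Subgroup Ω} {F : FusionSystem S} {S' : Subgroup Ω₁} {E' : FusionSystem S'}

theorem one (h : IsFacF f S₀ F E') : f 1 = 1 := (h.ker 1 S.one_mem).mpr (S₀.one_mem)

theorem inv (h : IsFacF f S₀ F E') {x : Ω} (hx : x ∈ S) : f x⁻¹ = (f x)⁻¹ := by
  have h1 := h.mul x hx x⁻¹ (S.inv_mem hx)
  rw [mul_inv_cancel, h.one] at h1
  exact eq_inv_of_mul_eq_one_right h1.symm

theorem eq_iff (h : IsFacF f S₀ F E') {x y : Ω} (hx : x ∈ S) (hy : y ∈ S) : f x = f y ↔ x⁻¹ * y ∈ S₀ := by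
  rw [← h.ker _ (S.mul_mem (S.inv_mem hx) hy), h.mul _ (S.inv_mem hx) _ hy, h.inv hx, inv_mul_eq_one]

end IsFacF

/-- A factor system in the frozen sense is a factor system read through the extended function. -/
theorem isFacF_of_isFactorSystem {S₀ S : Subgroup Ω} {F : FusionSystem S} {S' : Subgroup Ω₁} {E' : FusionSystem S'}
    {θ : S →* Ω₁} (h : F.IsFactorSystem S₀ θ E') : IsFacF (extFun θ) S₀ F E' := by
  obtain ⟨hle, hker, hrange, hhom⟩ := h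
  have him : IsIm (extFun θ) S S' := by rw [← hrange]; exact isIm_extFun_range θ
  refine ⟨fun x hx y hy => ?_, fun x hx => ?_, hle, him, fun P' φ' => ?_⟩
  · rw [extFun_eq θ hx, extFun_eq θ hy, extFun_eq θ (S.mul_mem hx hy), ← map_mul]
    rfl
  · rw [extFun_eq θ hx]
    exact hker ⟨x, hx⟩
  · rw [hhom]
    have hspec : ∀ x, x ∈ preimageAlong θ P' ↔ x ∈ S ∧ extFun θ x ∈ P' := by
      intro x
      rw [mem_preimageAlong]
      constructor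
      · rintro ⟨hx, hx'⟩
        exact ⟨hx, by rwa [extFun_eq θ hx]⟩
      · rintro ⟨hx, hx'⟩
        exact ⟨hx, by rwa [extFun_eq θ hx] at hx'⟩
    constructor
    · rintro ⟨hP', φ, hφ, hind⟩
      refine ⟨hP', _, φ, hφ, hspec, ?_⟩
      exact (inducedAlong_iff_ind θ φ φ' (F.le_of_mem hφ).1 (F.le_of_mem hφ).2
        (fun x => ((hspec x).mp x.2).2)).mp hind
    · rintro ⟨hP', P, φ, hφ, hP, hind⟩
      refine ⟨hP', ?_⟩
      have hEq : P = preimageAlong θ P' := by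
        ext x
        rw [hP, hspec]
      obtain ⟨ψ, hψ, hψx⟩ := exists_cast_hom F hEq hφ
      refine ⟨ψ, hψ, ?_⟩
      rw [inducedAlong_iff_ind θ ψ φ' (F.le_of_mem hψ).1 (F.le_of_mem hψ).2 (fun x => ((hspec x).mp x.2).2)]
      intro x hx
      have hxP : (x : Ω) ∈ P := by rw [hEq]; exact x.2
      have e : ψ x = φ ⟨x, hxP⟩ := hψx x hxP x.2
      rw [e]
      exact hind ⟨x, hxP⟩ hx

/-- Lifting a homomorphism on the image back along an injective function. -/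
theorem exists_ind_inv {k : Ω₂ → Ω₁} {S₂ : Subgroup Ω₂} (hk : HomOn k S₂) {P₂ : Subgroup Ω₂} (hP₂ : P₂ ≤ S₂)
    {P₁ : Subgroup Ω₁} (him : IsIm k P₂ P₁) (φ₁ : P₁ →* Ω₁) (hval : ∀ y : P₁, ∃ z ∈ S₂, k z = φ₁ y) :
    ∃ φ₂ : P₂ →* Ω₂, (∀ y, φ₂ y ∈ S₂) ∧ Ind k φ₂ φ₁ := by
  classical
  choose c hcS hc using hval
  have hkx : ∀ x : P₂, k x ∈ P₁ := fun x => him.map_mem x.2
  refine ⟨MonoidHom.mk' (fun x : P₂ => c ⟨k x, hkx x⟩) (fun a b => ?_), fun y => hcS _, fun x h => ?_⟩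
  · apply hk.inj _ (hcS _) _ (S₂.mul_mem (hcS _) (hcS _))
    rw [hk.mul _ (hcS _) _ (hcS _), hc, hc, hc, ← map_mul]
    congr 1
    apply Subtype.ext
    exact hk.mul _ (hP₂ a.2) _ (hP₂ b.2)
  · show φ₁ ⟨k x, h⟩ = k (c ⟨k x, hkx x⟩)
    rw [hc]

/-- An isomorphism followed by a factor system is a factor system. -/
theorem isFacF_comp_img {T : Subgroup Ω} {C : FusionSystem T} {g : Ω → Ω₁} {T₁ : Subgroup Ω₁}
    {E : FusionSystem T₁} (hE : IsImgF g C E) {h : Ω₁ → Ω₂} {Z₁ : Subgroup Ω₁} {T₂ : Subgroup Ω₂}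
    {E₂ : FusionSystem T₂} (hfac : IsFacF h Z₁ E E₂) {Z : Subgroup Ω} (hZT : Z ≤ T)
    (hZ : ∀ x ∈ T, x ∈ Z ↔ g x ∈ Z₁) : IsFacF (h ∘ g) Z C E₂ := by
  have hgT : ∀ x ∈ T, g x ∈ T₁ := fun x hx => hE.im.map_mem hx
  refine ⟨fun x hx y hy => ?_, fun x hx => ?_, hZT, isIm_comp_of hE.im hfac.im (fun _ _ => rfl),
    fun P₂ φ₂ => ?_⟩
  · show h (g (x * y)) = h (g x) * h (g y)
    rw [hE.hom.mul x hx y hy, hfac.mul _ (hgT x hx) _ (hgT y hy)]
  · show h (g x) = 1 ↔ x ∈ Z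
    rw [hfac.ker _ (hgT x hx), hZ x hx]
  · rw [hfac.iff]
    constructor
    · rintro ⟨hP₂, P₁, φ₁, hφ₁, hP₁spec, hind₁⟩
      have hP₁T₁ := (E.le_of_mem hφ₁).1
      have him : IsIm g (preS hE.hom P₁) P₁ := isIm_preS hE.hom hE.im hP₁T₁
      obtain ⟨φ, hφ, hind⟩ := hE.pull hφ₁ (preS_le _ _) him
      refine ⟨hP₂, _, φ, hφ, fun x => ?_, fun x hx => ?_⟩
      · rw [mem_preS, hP₁spec]
        constructor
        · rintro ⟨hxT, -, hx⟩
          exact ⟨hxT, hx⟩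
        · rintro ⟨hxT, hx⟩
          exact ⟨hxT, hgT x hxT, hx⟩
      · have hgx : g x ∈ P₁ := him.map_mem x.2
        have e1 := hind₁ ⟨g x, hgx⟩ hx
        rw [hind x hgx] at e1
        exact e1
    · rintro ⟨hP₂, P, φ, hφ, hPspec, hind⟩
      have hPT := (C.le_of_mem hφ).1
      have him : IsIm g P (imS hE.hom P) := isIm_imS hE.hom hPT
      obtain ⟨φ₁, hφ₁, hind₁⟩ := hE.push hφ him
      refine ⟨hP₂, _, φ₁, hφ₁, fun y => ?_, fun y hy => ?_⟩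
      · constructor
        · intro hy
          obtain ⟨x, hx, rfl⟩ := (him y).mp hy
          exact ⟨hgT x (hPT hx), ((hPspec x).mp hx).2⟩
        · rintro ⟨hyT₁, hy⟩
          obtain ⟨x, hx, rfl⟩ := (hE.im y).mp hyT₁
          exact him.map_mem ((hPspec x).mpr ⟨hx, hy⟩)
      · obtain ⟨x, hx, hxy⟩ := (him y).mp y.2
        rw [hind₁.apply y x hx hxy]
        have hx' : (h ∘ g) ((⟨x, hx⟩ : P) : Ω) ∈ P₂ := by
          show h (g x) ∈ P₂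
          rw [hxy]; exact hy
        have e1 := hind ⟨x, hx⟩ hx'
        refine Eq.trans ?_ e1
        congr 1
        apply Subtype.ext
        show h y = h (g x)
        rw [hxy]

/-- Two factor systems of the same system modulo the same subgroup are isomorphic. -/
theorem isImgF_of_isFacF {T : Subgroup Ω} {C : FusionSystem T} {Z : Subgroup Ω} {h₁ : Ω → Ω₁} {h₂ : Ω → Ω₂}
    {T₁ : Subgroup Ω₁} {E₁ : FusionSystem T₁} {T₂ : Subgroup Ω₂} {E₂ : FusionSystem T₂} (H₁ : IsFacF h₁ Z C E₁)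
    (H₂ : IsFacF h₂ Z C E₂) {k : Ω₂ → Ω₁} (hk : ∀ x ∈ T, k (h₂ x) = h₁ x) : IsImgF k E₂ E₁ := by
  have hhom : HomOn k T₂ := by
    refine ⟨fun a ha b hb => ?_, fun a ha b hb hab => ?_⟩
    · obtain ⟨x, hx, rfl⟩ := (H₂.im a).mp ha
      obtain ⟨y, hy, rfl⟩ := (H₂.im b).mp hb
      rw [← H₂.mul x hx y hy, hk _ (T.mul_mem hx hy), hk x hx, hk y hy, H₁.mul x hx y hy]
    · obtain ⟨x, hx, rfl⟩ := (H₂.im a).mp ha
      obtain ⟨y, hy, rfl⟩ := (H₂.im b).mp hb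
      rw [hk x hx, hk y hy, H₁.eq_iff hx hy] at hab
      exact (H₂.eq_iff hx hy).mpr hab
  have him : IsIm k T₂ T₁ := by
    intro y
    rw [H₁.im y]
    constructor
    · rintro ⟨x, hx, rfl⟩
      exact ⟨h₂ x, H₂.im.map_mem hx, hk x hx⟩
    · rintro ⟨a, ha, rfl⟩
      obtain ⟨x, hx, rfl⟩ := (H₂.im a).mp ha
      exact ⟨x, hx, (hk x hx).symm⟩
  refine ⟨hhom, him, fun P₁ φ₁ => ?_⟩
  rw [H₁.iff]
  constructor
  · rintro ⟨hP₁, P, φ, hφ, hPspec, hind₁⟩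
    have hPT := (C.le_of_mem hφ).1
    have hφT := (C.le_of_mem hφ).2
    have himP : IsIm k (preS hhom P₁) P₁ := isIm_preS hhom him hP₁
    have hval : ∀ y : P₁, ∃ z ∈ T₂, k z = φ₁ y := by
      intro y
      obtain ⟨x, hx, hxy⟩ := (H₁.im _).mp (hP₁ y.2)
      have hxP : x ∈ P := (hPspec x).mpr ⟨hx, by rw [hxy]; exact y.2⟩
      refine ⟨h₂ (φ ⟨x, hxP⟩), H₂.im.map_mem (hφT _), ?_⟩
      rw [hk _ (hφT _), hind₁.apply y x hxP hxy]
    obtain ⟨φ₂, hφ₂T, hindk⟩ := exists_ind_inv hhom (preS_le hhom P₁) himP φ₁ hval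
    refine ⟨_, φ₂, ?_, himP, hindk⟩
    rw [H₂.iff]
    refine ⟨preS_le hhom P₁, P, φ, hφ, fun x => ?_, fun x hx => ?_⟩
    · rw [hPspec, mem_preS]
      constructor
      · rintro ⟨hxT, hx⟩
        exact ⟨hxT, H₂.im.map_mem hxT, by rw [hk x hxT]; exact hx⟩
      · rintro ⟨hxT, -, hx⟩
        exact ⟨hxT, by rw [← hk x hxT]; exact hx⟩
    · apply hhom.inj _ (hφ₂T _) _ (H₂.im.map_mem (hφT x))
      have hkx : k (h₂ x) ∈ P₁ := himP.map_mem hx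
      have e1 := hindk ⟨h₂ x, hx⟩ hkx
      rw [← e1, hk _ (hφT x)]
      have hx₁ : h₁ x ∈ P₁ := by rw [← hk x (hPT x.2)]; exact hkx
      rw [← hind₁ x hx₁]
      congr 1
      exact Subtype.ext (hk x (hPT x.2))
  · rintro ⟨P₂, φ₂, hφ₂, himP, hindk⟩
    obtain ⟨hP₂, P, φ, hφ, hPspec, hind₂⟩ := (H₂.iff _ _).mp hφ₂
    have hPT := (C.le_of_mem hφ).1
    have hφT := (C.le_of_mem hφ).2
    refine ⟨himP.le_right him hP₂, P, φ, hφ, fun x => ?_, fun x hx => ?_⟩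
    · rw [hPspec]
      constructor
      · rintro ⟨hxT, hx⟩
        exact ⟨hxT, by rw [← hk x hxT]; exact himP.map_mem hx⟩
      · rintro ⟨hxT, hx⟩
        refine ⟨hxT, ?_⟩
        rw [← hk x hxT] at hx
        exact himP.mem_of_map_mem hhom hP₂ (H₂.im.map_mem hxT) hx
    · have hx₂ : h₂ x ∈ P₂ := ((hPspec x).mp x.2).2
      have hkx : k (h₂ x) ∈ P₁ := himP.map_mem hx₂
      have e1 := hindk ⟨h₂ x, hx₂⟩ hkx
      rw [hind₂ x hx₂, hk _ (hφT x)] at e1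
      rw [← e1]
      congr 1
      exact Subtype.ext (hk x (hPT x.2)).symm

/-- A comparison function between two factor systems exists. -/
theorem exists_compare {T : Subgroup Ω} {C : FusionSystem T} {Z : Subgroup Ω} {h₁ : Ω → Ω₁} {h₂ : Ω → Ω₂}
    {T₁ : Subgroup Ω₁} {E₁ : FusionSystem T₁} {T₂ : Subgroup Ω₂} {E₂ : FusionSystem T₂} (H₁ : IsFacF h₁ Z C E₁)
    (H₂ : IsFacF h₂ Z C E₂) : ∃ k : Ω₂ → Ω₁, ∀ x ∈ T, k (h₂ x) = h₁ x := by
  classical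
  refine ⟨fun a => if h : ∃ x ∈ T, h₂ x = a then h₁ h.choose else 1, fun x hx => ?_⟩
  have hex : ∃ x' ∈ T, h₂ x' = h₂ x := ⟨x, hx, rfl⟩
  show (if h : ∃ x' ∈ T, h₂ x' = h₂ x then h₁ h.choose else 1) = h₁ x
  rw [dif_pos hex]
  obtain ⟨hcT, hc⟩ := hex.choose_spec
  exact (H₁.eq_iff hcT hx).mpr ((H₂.eq_iff hcT hx).mp hc)

end Cfsg.Agent.Helper85
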