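-- Basic consequences of a factor system in function form: full preimages, induced maps, orders (helper85).
import Cfsg.Agent.Helper85.TransportQuasi

set_option autoImplicit false

namespace Cfsg.Agent.Helper85

open Cfsg Cfsg.FusionSystem

variable {Ω : Type*} [Group Ω] {Ω₁ : Type*} [Group Ω₁]

namespace IsFacF

variable {f : Ω → Ω₁} {S₀ S : Subgroup Ω} {F : FusionSystem S} {S' : Subgroup Ω₁} {E' : FusionSystem S'}

theorem map_mem (h : IsFacF f S₀ F E') {x : Ω} (hx : x ∈ S) : f x ∈ S' := h.im.map_mem hx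

theorem exists_pre (h : IsFacF f S₀ F E') {y : Ω₁} (hy : y ∈ S') : ∃ x ∈ S, f x = y := (h.im y).mp hy

/-- The full preimage in `S` of a subgroup of the target. -/
def pre (h : IsFacF f S₀ F E') (B' : Subgroup Ω₁) : Subgroup Ω where
  carrier := {x | x ∈ S ∧ f x ∈ B'}
  one_mem' := ⟨S.one_mem, by rw [h.one]; exact B'.one_mem⟩
  mul_mem' := by
    rintro a b ⟨ha, ha'⟩ ⟨hb, hb'⟩
    exact ⟨S.mul_mem ha hb, by rw [h.mul a ha b hb]; exact B'.mul_mem ha' hb'⟩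
  inv_mem' := by
    rintro a ⟨ha, ha'⟩
    exact ⟨S.inv_mem ha, by rw [h.inv ha]; exact B'.inv_mem ha'⟩

theorem mem_pre (h : IsFacF f S₀ F E') (B' : Subgroup Ω₁) (x : Ω) : x ∈ h.pre B' ↔ x ∈ S ∧ f x ∈ B' := Iff.rfl

theorem pre_le (h : IsFacF f S₀ F E') (B' : Subgroup Ω₁) : h.pre B' ≤ S := fun _ hx => hx.1

theorem ker_le_pre (h : IsFacF f S₀ F E') (B' : Subgroup Ω₁) : S₀ ≤ h.pre B' := by
  intro x hx
  refine ⟨h.le hx, ?_⟩
  rw [(h.ker x (h.le hx)).mpr hx]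
  exact B'.one_mem

theorem pre_mono (h : IsFacF f S₀ F E') {B' C' : Subgroup Ω₁} (hBC : B' ≤ C') : h.pre B' ≤ h.pre C' :=
  fun _ hx => ⟨hx.1, hBC hx.2⟩

theorem isIm_pre (h : IsFacF f S₀ F E') {B' : Subgroup Ω₁} (hB' : B' ≤ S') : IsIm f (h.pre B') B' := by
  intro y
  constructor
  · intro hy
    obtain ⟨x, hx, rfl⟩ := h.exists_pre (hB' hy)
    exact ⟨x, ⟨hx, hy⟩, rfl⟩
  · rintro ⟨x, hx, rfl⟩
    exact hx.2

theorem pre_eq_of_spec (h : IsFacF f S₀ F E') {B : Subgroup Ω} {B' : Subgroup Ω₁}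
    (hB : ∀ x, x ∈ B ↔ x ∈ S ∧ f x ∈ B') : B = h.pre B' := by
  ext x
  rw [hB, mem_pre]

/-- A subgroup of `S` containing the kernel is the full preimage of its image. -/
theorem pre_of_isIm (h : IsFacF f S₀ F E') {B : Subgroup Ω} {B' : Subgroup Ω₁} (hBS : B ≤ S) (hker : S₀ ≤ B)
    (him : IsIm f B B') : h.pre B' = B := by
  ext x
  rw [mem_pre]
  constructor
  · rintro ⟨hx, hx'⟩
    obtain ⟨z, hz, hzx⟩ := (him _).mp hx'
    have h1 : z⁻¹ * x ∈ S₀ := (h.eq_iff (hBS hz) hx).mp hzx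
    have h2 : x = z * (z⁻¹ * x) := by group
    rw [h2]
    exact B.mul_mem hz (hker h1)
  · intro hx
    exact ⟨hBS hx, him.map_mem hx⟩

/-- Maps of `F` on a full preimage are compatible with the fibres of `f`, when the kernel is strongly closed. -/
theorem map_eq_of_eq (h : IsFacF f S₀ F E') (hS₀ : F.StronglyClosed S₀) {B : Subgroup Ω} (hker : S₀ ≤ B)
    {ψ : B →* Ω} (hψ : ψ ∈ F.Hom B) (x x' : B) (hxx' : f x = f x') : f (ψ x) = f (ψ x') := by
  have hBS : B ≤ S := (F.le_of_mem hψ).1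
  have hψS : ∀ y, ψ y ∈ S := (F.le_of_mem hψ).2
  rw [h.eq_iff (hψS x) (hψS x')]
  have h1 : (x : Ω)⁻¹ * (x' : Ω) ∈ S₀ := (h.eq_iff (hBS x.2) (hBS x'.2)).mp hxx'
  have h2 := hS₀.2 S₀ le_rfl _ (restrict_mem F hψ hker) ⟨_, h1⟩
  have h3 : (ψ.comp (Subgroup.inclusion hker)) ⟨_, h1⟩ = (ψ x)⁻¹ * ψ x' := by
    show ψ (Subgroup.inclusion hker ⟨_, h1⟩) = (ψ x)⁻¹ * ψ x'
    rw [← map_inv, ← map_mul]
    rfl
  rw [h3] at h2
  exact h2

/-- Every map of `F` on a full preimage induces a map of the factor system, when the kernel is strongly closed. -/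
theorem exists_ind_of_mem (h : IsFacF f S₀ F E') (hS₀ : F.StronglyClosed S₀) {B : Subgroup Ω} {B' : Subgroup Ω₁}
    (hB' : B' ≤ S') (hB : ∀ x, x ∈ B ↔ x ∈ S ∧ f x ∈ B') {ψ : B →* Ω} (hψ : ψ ∈ F.Hom B) :
    ∃ ψ' ∈ E'.Hom B', Ind f ψ ψ' := by
  classical
  have hBS : B ≤ S := (F.le_of_mem hψ).1
  have hψS : ∀ y, ψ y ∈ S := (F.le_of_mem hψ).2
  have hker : S₀ ≤ B := by
    rw [h.pre_eq_of_spec hB]
    exact h.ker_le_pre B'
  have hch : ∀ y : B', ∃ x : B, f x = y := by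
    intro y
    obtain ⟨x, hx, hxy⟩ := h.exists_pre (hB' y.2)
    exact ⟨⟨x, (hB x).mpr ⟨hx, by rw [hxy]; exact y.2⟩⟩, hxy⟩
  choose c hc using hch
  have hwell := h.map_eq_of_eq hS₀ hker hψ
  have hmul : ∀ a b : B', f (ψ (c (a * b))) = f (ψ (c a)) * f (ψ (c b)) := by
    intro a b
    rw [← h.mul _ (hψS _) _ (hψS _), ← map_mul]
    apply hwell
    rw [hc]
    show (a : Ω₁) * (b : Ω₁) = f ((c a : Ω) * (c b : Ω))
    rw [h.mul _ (hBS (c a).2) _ (hBS (c b).2), hc, hc]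
  have hind : Ind f ψ (MonoidHom.mk' (fun y : B' => f (ψ (c y))) hmul) := by
    intro x hx
    show f (ψ (c ⟨f x, hx⟩)) = f (ψ x)
    apply hwell
    rw [hc]
  refine ⟨MonoidHom.mk' (fun y : B' => f (ψ (c y))) hmul, ?_, hind⟩
  rw [h.iff]
  exact ⟨hB', B, ψ, hψ, hB, hind⟩

/-- Order of a subgroup containing the kernel. -/
theorem card_eq (h : IsFacF f S₀ F E') {T : Subgroup Ω} {T' : Subgroup Ω₁} (hTS : T ≤ S) (hker : S₀ ≤ T)
    (him : IsIm f T T') : Nat.card T = Nat.card S₀ * Nat.card T' := by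
  let g : T →* Ω₁ := MonoidHom.mk' (fun x : T => f x) (fun a b => h.mul a (hTS a.2) b (hTS b.2))
  have hrange : g.range = T' := by
    ext y
    rw [him y]
    constructor
    · rintro ⟨x, rfl⟩
      exact ⟨x, x.2, rfl⟩
    · rintro ⟨x, hx, rfl⟩
      exact ⟨⟨x, hx⟩, rfl⟩
  have hkerg : g.ker = S₀.subgroupOf T := by
    ext x
    rw [MonoidHom.mem_ker, Subgroup.mem_subgroupOf]
    exact h.ker x (hTS x.2)
  have e1 : Nat.card T = Nat.card (T ⧸ g.ker) * Nat.card g.ker := Subgroup.card_eq_card_quotient_mul_card_subgroup _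
  have e2 : Nat.card (T ⧸ g.ker) = Nat.card g.range := Nat.card_congr (QuotientGroup.quotientKerEquivRange g).toEquiv
  have e3 : Nat.card g.ker = Nat.card S₀ := by
    rw [hkerg]
    exact Nat.card_congr (Subgroup.subgroupOfEquivOfLe hker).toEquiv
  rw [e1, e2, e3, hrange, mul_comm]

end IsFacF

end Cfsg.Agent.Helper85
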