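-- Normalizers, conjugates, fully normalized and centric subgroups, normalizer systems under a factor system
-- in function form (helper85).
import Cfsg.Agent.Helper85.FacBasic
import Cfsg.Agent.Helper85.TransportNormal

set_option autoImplicit false

namespace Cfsg.Agent.Helper85

open Cfsg Cfsg.FusionSystem

variable {Ω : Type*} [Group Ω] {Ω₁ : Type*} [Group Ω₁]

namespace IsFacF

variable {f : Ω → Ω₁} {S₀ S : Subgroup Ω} {F : FusionSystem S} {S' : Subgroup Ω₁} {E' : FusionSystem S'}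

theorem finite_target (h : IsFacF f S₀ F E') [Finite S] : Finite S' := finite_of_isIm h.im

theorem finite_sub [Finite S] {B : Subgroup Ω} (hB : B ≤ S) : Finite B :=
  Finite.of_injective (Subgroup.inclusion hB) (Subgroup.inclusion_injective hB)

/-- The genuine homomorphism on `S`. -/
def toHom (h : IsFacF f S₀ F E') : S →* Ω₁ :=
  MonoidHom.mk' (fun x : S => f x) (fun a b => h.mul a a.2 b b.2)

theorem toHom_apply (h : IsFacF f S₀ F E') (x : S) : h.toHom x = f x := rfl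

theorem isPGroup_target (h : IsFacF f S₀ F E') {p : ℕ} (hS : IsPGroup p S) : IsPGroup p S' := by
  refine hS.of_surjective (h.toHom.codRestrict S' (fun x => h.map_mem x.2)) ?_
  rintro ⟨y, hy⟩
  obtain ⟨x, hx, rfl⟩ := h.exists_pre hy
  exact ⟨⟨x, hx⟩, rfl⟩

theorem isIm_iff_map (h : IsFacF f S₀ F E') {B : Subgroup Ω} (hB : B ≤ S) (B' : Subgroup Ω₁) :
    IsIm f B B' ↔ (B.subgroupOf S).map h.toHom = B' := by
  constructor
  · intro him
    ext y
    rw [him y, Subgroup.mem_map]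
    constructor
    · rintro ⟨x, hx, rfl⟩
      exact ⟨x, hx, rfl⟩
    · rintro ⟨x, hx, rfl⟩
      exact ⟨⟨x, hB hx⟩, Subgroup.mem_subgroupOf.mpr hx, rfl⟩
  · rintro rfl y
    rw [Subgroup.mem_map]
    constructor
    · rintro ⟨x, hx, rfl⟩
      exact ⟨x, hx, rfl⟩
    · rintro ⟨x, hx, rfl⟩
      exact ⟨⟨x, hB hx⟩, Subgroup.mem_subgroupOf.mpr hx, rfl⟩

theorem isIm_sup (h : IsFacF f S₀ F E') {A B : Subgroup Ω} {A' B' : Subgroup Ω₁} (hA : A ≤ S) (hB : B ≤ S)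
    (h1 : IsIm f A A') (h2 : IsIm f B B') : IsIm f (A ⊔ B) (A' ⊔ B') := by
  rw [h.isIm_iff_map (sup_le hA hB)]
  rw [Subgroup.subgroupOf_sup hA hB, Subgroup.map_sup, (h.isIm_iff_map hA A').mp h1, (h.isIm_iff_map hB B').mp h2]

theorem map_conj (h : IsFacF f S₀ F E') {x z : Ω} (hx : x ∈ S) (hz : z ∈ S) :
    f (x * z * x⁻¹) = f x * f z * (f x)⁻¹ := by
  rw [h.mul _ (S.mul_mem hx hz) _ (S.inv_mem hx), h.mul x hx z hz, h.inv hx]

theorem mem_normalizerIn_iff (h : IsFacF f S₀ F E') [Finite S] {P' : Subgroup Ω₁} (hP' : P' ≤ S') {x : Ω}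
    (hx : x ∈ S) : x ∈ normalizerIn S (h.pre P') ↔ f x ∈ normalizerIn S' P' := by
  have := h.finite_target
  have : Finite P' := finite_sub hP'
  have : Finite (h.pre P') := finite_sub (h.pre_le P')
  constructor
  · rintro ⟨-, hxN⟩
    refine ⟨h.map_mem hx, mem_normalizer_of_finite (fun y hy => ?_)⟩
    obtain ⟨z, hz, rfl⟩ := (h.isIm_pre hP' y).mp hy
    rw [← h.map_conj hx hz.1]
    have h1 : x * z * x⁻¹ ∈ h.pre P' := (Subgroup.mem_normalizer_iff.mp hxN z).mp hz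
    exact h1.2
  · rintro ⟨-, hxN⟩
    refine ⟨hx, mem_normalizer_of_finite (fun z hz => ?_)⟩
    refine ⟨S.mul_mem (S.mul_mem hx hz.1) (S.inv_mem hx), ?_⟩
    rw [h.map_conj hx hz.1]
    exact (Subgroup.mem_normalizer_iff.mp hxN _).mp hz.2

theorem isIm_normalizerIn (h : IsFacF f S₀ F E') [Finite S] {P' : Subgroup Ω₁} (hP' : P' ≤ S') :
    IsIm f (normalizerIn S (h.pre P')) (normalizerIn S' P') := by
  intro y
  constructor
  · intro hy
    obtain ⟨x, hx, rfl⟩ := h.exists_pre (inf_le_left (a := S') hy)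
    exact ⟨x, (h.mem_normalizerIn_iff hP' hx).mpr hy, rfl⟩
  · rintro ⟨x, hx, rfl⟩
    exact (h.mem_normalizerIn_iff hP' (inf_le_left (a := S) hx)).mp hx

theorem ker_le_normalizerIn (h : IsFacF f S₀ F E') (P' : Subgroup Ω₁) : S₀ ≤ normalizerIn S (h.pre P') :=
  (h.ker_le_pre P').trans (le_inf (h.pre_le P') Subgroup.le_normalizer)

/-- Conjugates of a full preimage are full preimages of conjugates. -/
theorem conj_pre (h : IsFacF f S₀ F E') [Finite S] (hS₀ : F.StronglyClosed S₀) {P' : Subgroup Ω₁} (hP' : P' ≤ S')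
    {φ : ↥(h.pre P') →* Ω} (hφ : φ ∈ F.Hom (h.pre P')) :
    ∃ R' : Subgroup Ω₁, E'.IsConj P' R' ∧ R' ≤ S' ∧ φ.range = h.pre R' := by
  obtain ⟨φ', hφ', hind⟩ := h.exists_ind_of_mem hS₀ hP' (h.mem_pre P') hφ
  refine ⟨φ'.range, ⟨φ', hφ', rfl⟩, ?_, ?_⟩
  · rintro _ ⟨y, rfl⟩
    exact (E'.le_of_mem hφ').2 y
  have hφS := (F.le_of_mem hφ).2
  have hker := h.ker_le_pre P'
  have : Finite S₀ := finite_sub h.le
  have hsurj : ∀ q ∈ S₀, ∃ z : ↥(h.pre P'), (z : Ω) ∈ S₀ ∧ φ z = q := by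
    let g : S₀ → S₀ := fun q => ⟨φ ⟨q, hker q.2⟩, hS₀.2 S₀ le_rfl _ (restrict_mem F hφ hker) q⟩
    have ginj : Function.Injective g := by
      intro a b hab
      have h1 : φ ⟨a, hker a.2⟩ = φ ⟨b, hker b.2⟩ := congrArg Subtype.val hab
      have h2 := F.injective_of_mem hφ h1
      have h3 : (a : Ω) = (b : Ω) := congrArg (fun t : ↥(h.pre P') => (t : Ω)) h2
      exact Subtype.ext h3
    have gsurj := Finite.injective_iff_surjective.mp ginj
    intro q hq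
    obtain ⟨a, ha⟩ := gsurj ⟨q, hq⟩
    exact ⟨⟨a, hker a.2⟩, a.2, congrArg Subtype.val ha⟩
  ext x
  rw [h.mem_pre]
  constructor
  · rintro ⟨z, rfl⟩
    refine ⟨hφS z, ?_⟩
    have hz' : f z ∈ P' := z.2.2
    rw [← hind z hz']
    exact ⟨_, rfl⟩
  · rintro ⟨hxS, y, hy⟩
    obtain ⟨z, hz, hzy⟩ := (h.isIm_pre hP' y).mp y.2
    have e1 : φ' y = f (φ ⟨z, hz⟩) := hind.apply y z hz hzy
    rw [e1] at hy
    have h1 : (φ ⟨z, hz⟩)⁻¹ * x ∈ S₀ := (h.eq_iff (hφS _) hxS).mp hy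
    obtain ⟨w, hw, hwq⟩ := hsurj _ h1
    refine ⟨⟨z, hz⟩ * w, ?_⟩
    rw [map_mul, hwq]
    group

theorem isFullyNormalized_pre (h : IsFacF f S₀ F E') [Finite S] (hS₀ : F.StronglyClosed S₀) {P' : Subgroup Ω₁}
    (hP' : E'.IsFullyNormalized P') : F.IsFullyNormalized (h.pre P') := by
  refine ⟨h.pre_le P', fun R hR => ?_⟩
  obtain ⟨φ, hφ, rfl⟩ := hR
  obtain ⟨R', hR', hR'S, hrange⟩ := h.conj_pre hS₀ hP'.1 hφ
  rw [hrange]
  have c1 := h.card_eq (show normalizerIn S (h.pre R') ≤ S from inf_le_left) (h.ker_le_normalizerIn R')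
    (h.isIm_normalizerIn hR'S)
  have c2 := h.card_eq (show normalizerIn S (h.pre P') ≤ S from inf_le_left) (h.ker_le_normalizerIn P')
    (h.isIm_normalizerIn hP'.1)
  rw [c1, c2]
  exact Nat.mul_le_mul_left _ (hP'.2 R' hR')

theorem isCentric_pre (h : IsFacF f S₀ F E') [Finite S] (hS₀ : F.StronglyClosed S₀) {P' : Subgroup Ω₁}
    (hP' : E'.IsCentric P') : F.IsCentric (h.pre P') := by
  refine ⟨h.pre_le P', fun R hR => ?_⟩
  obtain ⟨φ, hφ, rfl⟩ := hR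
  obtain ⟨R', hR', hR'S, hrange⟩ := h.conj_pre hS₀ hP'.1 hφ
  rw [hrange]
  intro x hx
  obtain ⟨hxS, hxC⟩ := hx
  refine ⟨hxS, ?_⟩
  apply hP'.2 R' hR'
  refine ⟨h.map_mem hxS, ?_⟩
  show f x ∈ Subgroup.centralizer (R' : Set Ω₁)
  rw [Subgroup.mem_centralizer_iff]
  intro y hy
  obtain ⟨z, hz, rfl⟩ := (h.isIm_pre hR'S y).mp hy
  rw [← h.mul z hz.1 x hxS, ← h.mul x hxS z hz.1, Subgroup.mem_centralizer_iff.mp hxC z hz]

end IsFacF

end Cfsg.Agent.Helper85
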