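-- The normalizer system of a full preimage has the normalizer system of the image as factor system (helper85).
import Cfsg.Agent.Helper85.FacNormalizer

set_option autoImplicit false

namespace Cfsg.Agent.Helper85

open Cfsg Cfsg.FusionSystem

variable {Ω : Type*} [Group Ω] {Ω₁ : Type*} [Group Ω₁]

namespace IsFacF

variable {f : Ω → Ω₁} {S₀ S : Subgroup Ω} {F : FusionSystem S} {S' : Subgroup Ω₁} {E' : FusionSystem S'}

/-- `N_F(P)/S₀ = N_{F/S₀}(P/S₀)` for `P` the full preimage of `P'`. -/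
theorem isFacF_normalizer (h : IsFacF f S₀ F E') [Finite S] (hS₀ : F.StronglyClosed S₀) {P' : Subgroup Ω₁}
    (hP' : P' ≤ S') (N : FusionSystem (normalizerIn S (h.pre P'))) (hN : F.IsNormalizerSystem (h.pre P') N)
    (N' : FusionSystem (normalizerIn S' P')) (hN' : E'.IsNormalizerSystem P' N') : IsFacF f S₀ N N' := by
  have hTS : normalizerIn S (h.pre P') ≤ S := inf_le_left
  have hT'S' : normalizerIn S' P' ≤ S' := inf_le_left
  have hPS : h.pre P' ≤ S := h.pre_le P'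
  have hfinP : Finite (h.pre P') := finite_sub hPS
  have himP : IsIm f (h.pre P') P' := h.isIm_pre hP'
  refine ⟨fun x hx y hy => h.mul x (hTS hx) y (hTS hy), fun x hx => h.ker x (hTS hx), h.ker_le_normalizerIn P',
    h.isIm_normalizerIn hP', fun A' φ' => ?_⟩
  rw [hN' A']
  constructor
  · rintro ⟨hφ'E, hA'T, hφ'T, ψ', hψ', hext', hmap'⟩
    refine ⟨hA'T, ?_⟩
    obtain ⟨-, B, ψ, hψ, hB, hindψ⟩ := (h.iff _ _).mp hψ'
    have hAB : h.pre A' ≤ B := fun x hx => (hB x).mpr ⟨hx.1, (le_sup_left : A' ≤ A' ⊔ P') hx.2⟩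
    have hPB : h.pre P' ≤ B := fun x hx => (hB x).mpr ⟨hx.1, (le_sup_right : P' ≤ A' ⊔ P') hx.2⟩
    have hAT : h.pre A' ≤ normalizerIn S (h.pre P') := fun x hx =>
      (h.mem_normalizerIn_iff hP' hx.1).mpr (hA'T hx.2)
    have hφF : ψ.comp (Subgroup.inclusion hAB) ∈ F.Hom (h.pre A') := restrict_mem F hψ hAB
    have hψS := (F.le_of_mem hψ).2
    have hind : Ind f (ψ.comp (Subgroup.inclusion hAB)) φ' := by
      intro x hx
      have e1 := hext' ⟨f x, hx⟩
      rw [← e1]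
      exact hindψ ⟨x, hAB x.2⟩ ((le_sup_left : A' ≤ A' ⊔ P') hx)
    have hψ₂ : ψ.comp (Subgroup.inclusion (sup_le hAB hPB)) ∈ F.Hom (h.pre A' ⊔ h.pre P') :=
      restrict_mem F hψ (sup_le hAB hPB)
    obtain ⟨hin', -⟩ := (map_subgroupOf_eq_iff ψ').mp hmap'
    have hin : ∀ x : ↥(h.pre A' ⊔ h.pre P'), (x : Ω) ∈ h.pre P' →
        (ψ.comp (Subgroup.inclusion (sup_le hAB hPB))) x ∈ h.pre P' := by
      intro x hx
      refine ⟨hψS _, ?_⟩
      have hfx : f x ∈ A' ⊔ P' := ((hB x).mp (sup_le hAB hPB x.2)).2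
      have e1 := hindψ ⟨x, sup_le hAB hPB x.2⟩ hfx
      show f (ψ ⟨x, sup_le hAB hPB x.2⟩) ∈ P'
      rw [← e1]
      exact hin' ⟨f x, hfx⟩ hx.2
    refine ⟨h.pre A', ψ.comp (Subgroup.inclusion hAB), ?_, fun x => ?_, hind⟩
    · rw [hN (h.pre A')]
      refine ⟨hφF, hAT, fun x => ?_, _, hψ₂, fun x => rfl, ?_⟩
      · refine (h.mem_normalizerIn_iff hP' ((F.le_of_mem hφF).2 x)).mpr ?_
        have hx : f x ∈ A' := x.2.2
        rw [← hind x hx]
        exact hφ'T _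
      · rw [map_subgroupOf_eq_iff]
        refine ⟨hin, ?_⟩
        -- surjectivity on `P` from injectivity and finiteness
        let g : ↥(h.pre P') → ↥(h.pre P') := fun z =>
          ⟨(ψ.comp (Subgroup.inclusion (sup_le hAB hPB))) ⟨z, (le_sup_right : h.pre P' ≤ h.pre A' ⊔ h.pre P') z.2⟩,
            hin _ z.2⟩
        have ginj : Function.Injective g := by
          intro a b hab
          have h1 := congrArg Subtype.val hab
          have h2 := F.injective_of_mem hψ₂ h1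
          have h3 : (a : Ω) = (b : Ω) := congrArg (fun t : ↥(h.pre A' ⊔ h.pre P') => (t : Ω)) h2
          exact Subtype.ext h3
        have gsurj := Finite.injective_iff_surjective.mp ginj
        intro y hy
        obtain ⟨a, ha⟩ := gsurj ⟨y, hy⟩
        exact ⟨⟨a, (le_sup_right : h.pre P' ≤ h.pre A' ⊔ h.pre P') a.2⟩, a.2, congrArg Subtype.val ha⟩
    · constructor
      · intro hx
        exact ⟨hAT hx, hx.2⟩
      · rintro ⟨hx, hx'⟩
        exact ⟨hTS hx, hx'⟩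
  · rintro ⟨hA'T, A, φ, hφ, hA, hind⟩
    rw [hN A] at hφ
    obtain ⟨hφF, hAT, hφT, ψ, hψ, hext, hmap⟩ := hφ
    have hA'S : A' ≤ S' := hA'T.trans hT'S'
    have hAS : A ≤ S := hAT.trans hTS
    have hA2 : ∀ x, x ∈ A ↔ x ∈ S ∧ f x ∈ A' := by
      intro x
      rw [hA]
      constructor
      · rintro ⟨hx, hx'⟩
        exact ⟨hTS hx, hx'⟩
      · rintro ⟨hx, hx'⟩
        exact ⟨(h.mem_normalizerIn_iff hP' hx).mpr (hA'T hx'), hx'⟩
    have hApre : A = h.pre A' := h.pre_eq_of_spec hA2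
    have himA : IsIm f A A' := by rw [hApre]; exact h.isIm_pre hA'S
    have hφ'E : φ' ∈ E'.Hom A' := (h.iff _ _).mpr ⟨hA'S, A, φ, hφF, hA2, hind⟩
    refine ⟨hφ'E, hA'T, fun y => ?_, ?_⟩
    · obtain ⟨x, hx, hxy⟩ := (himA y).mp y.2
      rw [hind.apply y x hx hxy]
      exact (h.mem_normalizerIn_iff hP' (hTS (hφT _))).mp (hφT _)
    · have himB : IsIm f (A ⊔ h.pre P') (A' ⊔ P') := h.isIm_sup hAS hPS himA himP
      have hkerB : S₀ ≤ A ⊔ h.pre P' := (h.ker_le_pre P').trans le_sup_right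
      have hBpre : h.pre (A' ⊔ P') = A ⊔ h.pre P' := h.pre_of_isIm (sup_le hAS hPS) hkerB himB
      have hBspec : ∀ x, x ∈ A ⊔ h.pre P' ↔ x ∈ S ∧ f x ∈ A' ⊔ P' := by
        intro x
        rw [← hBpre]
        rfl
      obtain ⟨ψ', hψ', hindψ⟩ := h.exists_ind_of_mem hS₀ (sup_le hA'S hP') hBspec hψ
      obtain ⟨hin, hsurj⟩ := (map_subgroupOf_eq_iff ψ).mp hmap
      refine ⟨ψ', hψ', fun y => ?_, ?_⟩
      · obtain ⟨x, hx, hxy⟩ := (himA y).mp y.2
        rw [hind.apply y x hx hxy]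
        have e1 := hindψ.apply (Subgroup.inclusion le_sup_left y) x ((le_sup_left : A ≤ A ⊔ h.pre P') hx) hxy
        rw [e1]
        have e2 := hext ⟨x, hx⟩
        rw [← e2]
        rfl
      · rw [map_subgroupOf_eq_iff]
        refine ⟨fun y hy => ?_, fun y hy => ?_⟩
        · obtain ⟨z, hz, hzy⟩ := (himP _).mp hy
          have hzB : z ∈ A ⊔ h.pre P' := (le_sup_right : h.pre P' ≤ A ⊔ h.pre P') hz
          rw [hindψ.apply y z hzB hzy]
          exact (hin ⟨z, hzB⟩ hz).2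
        · obtain ⟨z, hz, hzy⟩ := (himP _).mp hy
          obtain ⟨w, hw, hwz⟩ := hsurj z hz
          have hfw : f w ∈ A' ⊔ P' := ((hBspec w).mp w.2).2
          refine ⟨⟨f w, hfw⟩, hw.2, ?_⟩
          rw [hindψ.apply ⟨f w, hfw⟩ w w.2 rfl, ← hzy]
          congr 1

end IsFacF

end Cfsg.Agent.Helper85
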