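-- Realization by a group in function form, and realization of factor systems by quotient groups (helper85).
import Cfsg.Agent.Helper85.FacBasic
import Cfsg.Agent.Helper85.GroupFactor

set_option autoImplicit false

namespace Cfsg.Agent.Helper85

open Cfsg Cfsg.FusionSystem

variable {Ω : Type*} [Group Ω] {G : Type*} [Group G]

/-- A system realized by `ι` is carried by `ι` onto the fusion system of the group on the image. -/
theorem isImgF_of_isRealizedBy {S : Subgroup Ω} {F : FusionSystem S} {ι : S →* G} (hι : F.IsRealizedBy ι) :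
    IsImgF (extFun ι) F (groupFusionSystem ι.range) := by
  obtain ⟨hinj, hreal⟩ := hι
  have hf : HomOn (extFun ι) S := homOn_extFun ι hinj
  have him : IsIm (extFun ι) S ι.range := isIm_extFun_range ι
  refine ⟨hf, him, fun P' φ' => ?_⟩
  constructor
  · rintro ⟨hP', hφ'T, g, hg⟩
    have himP : IsIm (extFun ι) (preS hf P') P' := isIm_preS hf him hP'
    have hval : ∀ y : P', ∃ z ∈ S, extFun ι z = φ' y := fun y => (him _).mp (hφ'T y)
    obtain ⟨φ, hφS, hind⟩ := exists_ind_inv hf (preS_le hf P') himP φ' hval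
    refine ⟨preS hf P', φ, ?_, himP, hind⟩
    rw [hreal (preS hf P') (preS_le hf P') φ hφS]
    refine ⟨g, fun x => ?_⟩
    have hx : extFun ι (x : Ω) ∈ P' := himP.map_mem x.2
    have e1 := hind x hx
    rw [← extFun_eq ι (hφS x), ← e1, hg, ← extFun_eq ι (preS_le hf P' x.2)]
  · rintro ⟨P, φ, hφ, himP, hind⟩
    have hPS := (F.le_of_mem hφ).1
    have hφS := (F.le_of_mem hφ).2
    obtain ⟨g, hg⟩ := (hreal P hPS φ hφS).mp hφ
    refine ⟨himP.le_right him hPS, fun y => ?_, g, fun y => ?_⟩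
    · obtain ⟨x, hx, hxy⟩ := (himP y).mp y.2
      rw [hind.apply y x hx hxy]
      exact him.map_mem (hφS _)
    · obtain ⟨x, hx, hxy⟩ := (himP y).mp y.2
      rw [hind.apply y x hx hxy, extFun_eq ι (hφS _), hg ⟨x, hx⟩, ← hxy, extFun_eq ι (hPS hx)]

/-- A system carried by an injective function onto the fusion system of a group is realized. -/
theorem isRealizedBy_of_isImgF {S : Subgroup Ω} {F : FusionSystem S} {f : Ω → G} {T' : Subgroup G}
    (h : IsImgF f F (groupFusionSystem T')) : F.IsRealizedBy h.hom.toHom := by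
  refine ⟨h.hom.toHom_injective, fun P hP φ hφS => ?_⟩
  have him : IsIm f P (imS h.hom P) := isIm_imS h.hom hP
  constructor
  · intro hφ
    obtain ⟨φ', ⟨-, -, g, hg⟩, hind⟩ := h.push hφ him
    refine ⟨g, fun x => ?_⟩
    show f (φ x) = g * f x * g⁻¹
    have hx : f (x : Ω) ∈ imS h.hom P := him.map_mem x.2
    rw [← hind x hx, hg]
  · rintro ⟨g, hg⟩
    obtain ⟨φ', hind⟩ := exists_ind h.hom hP hφS him
    have hφ' : φ' ∈ (groupFusionSystem T').Hom (imS h.hom P) := by
      refine ⟨him.le_right h.im hP, fun y => ?_, g, fun y => ?_⟩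
      · obtain ⟨x, hx, hxy⟩ := (him y).mp y.2
        rw [hind.apply y x hx hxy]
        exact h.im.map_mem (hφS _)
      · obtain ⟨x, hx, hxy⟩ := (him y).mp y.2
        rw [hind.apply y x hx hxy, ← hxy]
        exact hg ⟨x, hx⟩
    obtain ⟨φ₀, hφ₀, hind₀⟩ := h.pull hφ' hP him
    have : φ₀ = φ := by
      ext x
      apply h.hom.inj _ ((F.le_of_mem hφ₀).2 x) _ (hφS x)
      have hx : f (x : Ω) ∈ imS h.hom P := him.map_mem x.2
      rw [← hind₀ x hx, ← hind x hx]
    rw [← this]
    exact hφ₀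

theorem range_toHom_of_isImgF {S : Subgroup Ω} {F : FusionSystem S} {f : Ω → G} {T' : Subgroup G}
    {E' : FusionSystem T'} (h : IsImgF f F E') : h.hom.toHom.range = T' := by
  ext y
  rw [h.im y]
  constructor
  · rintro ⟨x, rfl⟩
    exact ⟨x, x.2, rfl⟩
  · rintro ⟨x, hx, rfl⟩
    exact ⟨⟨x, hx⟩, rfl⟩

/-- A system realized by `ι` in `L` on a Sylow subgroup has, modulo the preimage of a normal subgroup `K`, the
fusion system of `L/K` as factor system. -/
theorem isFacF_quot_of_isRealizedBy {L : Type*} [Group L] [Finite L] {p : ℕ} [Fact p.Prime] {T : Subgroup Ω}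
    {N : FusionSystem T} {ι : T →* L} (hι : N.IsRealizedBy ι) (T₀ : Sylow p L) (hT₀ : (T₀ : Subgroup L) = ι.range)
    (K : Subgroup L) [K.Normal] (Q : Subgroup Ω) (hQT : Q ≤ T) (hQ : ∀ (x : Ω) (hx : x ∈ T), x ∈ Q ↔ ι ⟨x, hx⟩ ∈ K) :
    IsFacF (extFun ((QuotientGroup.mk' K).comp (T₀ : Subgroup L).subtype) ∘ extFun ι) Q N
      (groupFusionSystem ((T₀ : Subgroup L).map (QuotientGroup.mk' K))) := by
  have h1 := isImgF_of_isRealizedBy hι
  rw [← hT₀] at h1
  have h2 := isFacF_of_isFactorSystem (group_isFactorSystem p T₀ K)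
  refine isFacF_comp_img h1 h2 hQT (fun x hx => ?_)
  rw [hQ x hx, extFun_eq ι hx]
  constructor
  · intro hK
    refine ⟨?_, hK⟩
    rw [hT₀]
    exact ⟨_, rfl⟩
  · intro hK
    exact hK.2

theorem extFun_comp_apply {L : Type*} [Group L] {p : ℕ} {T : Subgroup Ω} (ι : T →* L) (T₀ : Sylow p L)
    (hT₀ : (T₀ : Subgroup L) = ι.range) (K : Subgroup L) [K.Normal] {x : Ω} (hx : x ∈ T) :
    (extFun ((QuotientGroup.mk' K).comp (T₀ : Subgroup L).subtype) ∘ extFun ι) x =
      QuotientGroup.mk' K (ι ⟨x, hx⟩) := by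
  have h1 : ι ⟨x, hx⟩ ∈ (T₀ : Subgroup L) := by
    rw [hT₀]
    exact ⟨_, rfl⟩
  show extFun ((QuotientGroup.mk' K).comp (T₀ : Subgroup L).subtype) (extFun ι x) = _
  rw [extFun_eq ι hx, extFun_eq _ h1]
  rfl

end Cfsg.Agent.Helper85
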