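-- Group theory for quotients of models: dividing a model by a normal `p`-subgroup and then by the `p'`-core
-- keeps the centralizer condition (helper85).
import Mathlib
import Cfsg.Prelude.Def_Solvable
import Cfsg.Agent.Lib.Cores

set_option autoImplicit false

namespace Cfsg.Agent.Helper85.QM

open Cfsg Subgroup

/-- Burnside: a central Sylow `p`-subgroup is complemented by `O_{p'}`. -/
theorem sup_pPrimeCore_of_central {C : Type*} [Group C] [Finite C] {p : ℕ} [Fact p.Prime] (D : Sylow p C)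
    (hD : (D : Subgroup C) ≤ Subgroup.center C) : (D : Subgroup C) ⊔ Cfsg.pPrimeCore p C = ⊤ := by
  have hPN : normalizer ((D : Subgroup C) : Set C) ≤ centralizer ((D : Subgroup C) : Set C) := by
    intro x _
    rw [Subgroup.mem_centralizer_iff]
    intro d hd
    exact ((Subgroup.mem_center_iff.mp (hD hd)) x).symm
  have hc := MonoidHom.ker_transferSylow_isComplement' D hPN
  have hnd := MonoidHom.not_dvd_card_ker_transferSylow D hPN
  have hcop : (Nat.card (MonoidHom.transferSylow D hPN).ker).Coprime p :=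
    (((Fact.out : p.Prime).coprime_iff_not_dvd).mpr hnd).symm
  have hKle : (MonoidHom.transferSylow D hPN).ker ≤ Cfsg.pPrimeCore p C :=
    Cfsg.Agent.Lib.le_pPrimeCore (MonoidHom.normal_ker _) hcop
  apply top_le_iff.mp
  rw [← hc.sup_eq_top, sup_comm]
  exact sup_le_sup_left hKle _

variable {L : Type*} [Group L]

/-- The full preimage in `L` of `O_{p'}(L/Q₀)`. -/
def qK (p : ℕ) (Q₀ : Subgroup L) [Q₀.Normal] : Subgroup L :=
  (Cfsg.pPrimeCore p (L ⧸ Q₀)).comap (QuotientGroup.mk' Q₀)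

instance qK_normal (p : ℕ) (Q₀ : Subgroup L) [Q₀.Normal] : (qK p Q₀).Normal := by
  have : (Cfsg.pPrimeCore p (L ⧸ Q₀)).Characteristic := Cfsg.Agent.Lib.pPrimeCore_characteristic p
  unfold qK
  infer_instance

theorem mem_qK (p : ℕ) (Q₀ : Subgroup L) [Q₀.Normal] (x : L) :
    x ∈ qK p Q₀ ↔ (QuotientGroup.mk' Q₀ x) ∈ Cfsg.pPrimeCore p (L ⧸ Q₀) := Iff.rfl

theorem le_qK (p : ℕ) (Q₀ : Subgroup L) [Q₀.Normal] : Q₀ ≤ qK p Q₀ := by
  intro x hx
  rw [mem_qK]
  have : QuotientGroup.mk' Q₀ x = 1 := (QuotientGroup.eq_one_iff x).mpr hx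
  rw [this]
  exact Subgroup.one_mem _

/-- The `p`-elements of `K` lie in `Q₀`. -/
theorem mem_of_mem_qK [Finite L] {p : ℕ} [Fact p.Prime] (Q₀ : Subgroup L) [Q₀.Normal] {T : Subgroup L}
    (hT : IsPGroup p T) {x : L} (hxT : x ∈ T) (hxK : x ∈ qK p Q₀) : x ∈ Q₀ := by
  rw [mem_qK] at hxK
  obtain ⟨k, hk⟩ := hT ⟨x, hxT⟩
  have hk' : x ^ p ^ k = 1 := congrArg Subtype.val hk
  set y := QuotientGroup.mk' Q₀ x with hy
  have hy1 : y ^ p ^ k = 1 := by rw [hy, ← map_pow, hk', map_one]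
  have h1 : orderOf y ∣ p ^ k := orderOf_dvd_of_pow_eq_one hy1
  have h2 : orderOf y ∣ Nat.card (Cfsg.pPrimeCore p (L ⧸ Q₀)) := by
    have := orderOf_dvd_natCard (⟨y, hxK⟩ : Cfsg.pPrimeCore p (L ⧸ Q₀))
    rwa [Subgroup.orderOf_mk] at this
  have hcop : (Nat.card (Cfsg.pPrimeCore p (L ⧸ Q₀))).Coprime p := Cfsg.Agent.Lib.card_pPrimeCore_coprime p
  have h3 : orderOf y ∣ 1 := by
    have := Nat.dvd_gcd h1 h2
    rwa [Nat.Coprime.gcd_eq_one (Nat.Coprime.pow_left k hcop.symm)] at this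
  have h4 : y = 1 := orderOf_eq_one_iff.mp (Nat.dvd_one.mp h3)
  exact (QuotientGroup.eq_one_iff x).mp h4

theorem inf_qK [Finite L] {p : ℕ} [Fact p.Prime] (T₀ : Sylow p L) (Q₀ : Subgroup L) [Q₀.Normal]
    (hQT : Q₀ ≤ (T₀ : Subgroup L)) : (T₀ : Subgroup L) ⊓ qK p Q₀ = Q₀ := by
  apply le_antisymm
  · rintro x ⟨hxT, hxK⟩
    exact mem_of_mem_qK Q₀ T₀.isPGroup' hxT hxK
  · exact le_inf hQT (le_qK p Q₀)

end Cfsg.Agent.Helper85.QM
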