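-- Group theory for quotients of models, part 2: the centralizer condition in `L/K` (helper85).
import Cfsg.Agent.Helper85.QuotModel

set_option autoImplicit false

namespace Cfsg.Agent.Helper85.QM

open Cfsg Subgroup

variable {L : Type*} [Group L]

/-- If a normal `p`-subgroup `P̃` of a finite group contains every element of a Sylow `p`-subgroup centralizing it,
then its centralizer lies in `P̃ · O_{p'}`. -/
theorem centralizer_le_sup_pPrimeCore [Finite L] {p : ℕ} [Fact p.Prime] (T : Sylow p L) (Pt : Subgroup L)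
    [Pt.Normal] (hA : ∀ t ∈ (T : Subgroup L), t ∈ centralizer (Pt : Set L) → t ∈ Pt) :
    centralizer (Pt : Set L) ≤ Pt ⊔ Cfsg.pPrimeCore p L := by
  classical
  set Ct : Subgroup L := centralizer (Pt : Set L) with hCt
  have hCtn : Ct.Normal := by rw [hCt]; infer_instance
  obtain ⟨D⟩ : Nonempty (Sylow p ↥Ct) := inferInstance
  -- the image of `D` in `L` lies in `Pt`
  have hDP : ∀ d : ↥Ct, d ∈ (D : Subgroup ↥Ct) → (d : L) ∈ Pt := by
    intro d hd
    have hD' : IsPGroup p ((D : Subgroup ↥Ct).map Ct.subtype) := D.isPGroup'.map _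
    obtain ⟨R, hR⟩ := hD'.exists_le_sylow
    obtain ⟨g, hg⟩ := MulAction.exists_smul_eq L T R
    have h1 : (d : L) ∈ (R : Subgroup L) := hR ⟨d, hd, rfl⟩
    rw [← hg, Sylow.coe_subgroup_smul, Subgroup.mem_pointwise_smul_iff_inv_smul_mem] at h1
    have h2 : g⁻¹ * (d : L) * g ∈ (T : Subgroup L) := by
      simpa [MulAut.smul_def] using h1
    have h3 : g⁻¹ * (d : L) * g ∈ Ct := by
      have := hCtn.conj_mem (d : L) d.2 g⁻¹
      simpa using this
    have h4 : g⁻¹ * (d : L) * g ∈ Pt := hA _ h2 h3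
    have h5 := (inferInstance : Pt.Normal).conj_mem _ h4 g
    have h6 : g * (g⁻¹ * (d : L) * g) * g⁻¹ = (d : L) := by group
    rwa [h6] at h5
  have hDc : (D : Subgroup ↥Ct) ≤ Subgroup.center ↥Ct := by
    intro d hd
    rw [Subgroup.mem_center_iff]
    intro c
    apply Subtype.ext
    show (c : L) * (d : L) = (d : L) * (c : L)
    have hc : (c : L) ∈ centralizer (Pt : Set L) := c.2
    exact ((Subgroup.mem_centralizer_iff.mp hc) (d : L) (hDP d hd)).symm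
  have htop := sup_pPrimeCore_of_central D hDc
  have hmap : Ct = ((D : Subgroup ↥Ct).map Ct.subtype) ⊔ ((Cfsg.pPrimeCore p ↥Ct).map Ct.subtype) := by
    rw [← Subgroup.map_sup, htop, ← MonoidHom.range_eq_map, Subgroup.range_subtype]
  have h1 : (D : Subgroup ↥Ct).map Ct.subtype ≤ Pt := by
    rintro _ ⟨d, hd, rfl⟩
    exact hDP d hd
  have h2 : (Cfsg.pPrimeCore p ↥Ct).map Ct.subtype ≤ Cfsg.pPrimeCore p L := by
    have hchar : (Cfsg.pPrimeCore p ↥Ct).Characteristic := Cfsg.Agent.Lib.pPrimeCore_characteristic p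
    have hn : ((Cfsg.pPrimeCore p ↥Ct).map Ct.subtype).Normal := inferInstance
    apply Cfsg.Agent.Lib.le_pPrimeCore hn
    have hcard : Nat.card ((Cfsg.pPrimeCore p ↥Ct).map Ct.subtype) = Nat.card (Cfsg.pPrimeCore p ↥Ct) :=
      Nat.card_congr ((Cfsg.pPrimeCore p ↥Ct).equivMapOfInjective Ct.subtype Ct.subtype_injective).symm.toEquiv
    rw [hcard]
    exact Cfsg.Agent.Lib.card_pPrimeCore_coprime p
  calc Ct = _ := hmap
    _ ≤ Pt ⊔ Cfsg.pPrimeCore p L := sup_le_sup h1 h2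

/-- The centralizer condition in `L/K`. -/
theorem centralizer_pCore_quot_le [Finite L] {p : ℕ} [Fact p.Prime] (T₀ : Sylow p L) (Q₀ P₀ : Subgroup L)
    [Q₀.Normal] [P₀.Normal] (hPT : P₀ ≤ (T₀ : Subgroup L))
    (hcent : ∀ t ∈ (T₀ : Subgroup L), (∀ z ∈ P₀, t * z * t⁻¹ * z⁻¹ ∈ Q₀) → t ∈ P₀) :
    centralizer ((Cfsg.pCore p (L ⧸ qK p Q₀) : Subgroup (L ⧸ qK p Q₀)) : Set (L ⧸ qK p Q₀)) ≤
      Cfsg.pCore p (L ⧸ qK p Q₀) := by
  classical
  have hμs : Function.Surjective (QuotientGroup.mk' Q₀) := QuotientGroup.mk'_surjective Q₀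
  have hπs : Function.Surjective (QuotientGroup.mk' (qK p Q₀)) := QuotientGroup.mk'_surjective _
  have hPtn : (P₀.map (QuotientGroup.mk' Q₀)).Normal := Subgroup.Normal.map inferInstance _ hμs
  -- Claim A
  have hA : ∀ t ∈ ((T₀.mapSurjective hμs : Sylow p (L ⧸ Q₀)) : Subgroup (L ⧸ Q₀)),
      t ∈ centralizer ((P₀.map (QuotientGroup.mk' Q₀) : Subgroup (L ⧸ Q₀)) : Set (L ⧸ Q₀)) →
        t ∈ P₀.map (QuotientGroup.mk' Q₀) := by
    rintro _ ⟨t, ht, rfl⟩ htc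
    refine ⟨t, hcent t ht (fun z hz => ?_), rfl⟩
    have h1 := (Subgroup.mem_centralizer_iff.mp htc) (QuotientGroup.mk' Q₀ z) ⟨z, hz, rfl⟩
    apply (QuotientGroup.eq_one_iff _).mp
    show QuotientGroup.mk' Q₀ (t * z * t⁻¹ * z⁻¹) = 1
    rw [map_mul, map_mul, map_mul, map_inv, map_inv, ← h1]
    group
  have hB := centralizer_le_sup_pPrimeCore (T₀.mapSurjective hμs) (P₀.map (QuotientGroup.mk' Q₀)) hA
  -- Claim C
  intro c hc
  obtain ⟨x, rfl⟩ := hπs c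
  have hUn : (P₀.map (QuotientGroup.mk' (qK p Q₀))).Normal := Subgroup.Normal.map inferInstance _ hπs
  have hUp : IsPGroup p (P₀.map (QuotientGroup.mk' (qK p Q₀))) := (T₀.isPGroup'.to_le hPT).map _
  have hUle : P₀.map (QuotientGroup.mk' (qK p Q₀)) ≤ Cfsg.pCore p (L ⧸ qK p Q₀) :=
    Cfsg.Agent.Lib.le_pCore hUn hUp
  have hcomm : ∀ z ∈ P₀, x * z * x⁻¹ * z⁻¹ ∈ Q₀ := by
    intro z hz
    have h1 := (Subgroup.mem_centralizer_iff.mp hc) (QuotientGroup.mk' (qK p Q₀) z) (hUle ⟨z, hz, rfl⟩)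
    have h2 : x * z * x⁻¹ * z⁻¹ ∈ qK p Q₀ := by
      apply (QuotientGroup.eq_one_iff _).mp
      show QuotientGroup.mk' (qK p Q₀) (x * z * x⁻¹ * z⁻¹) = 1
      rw [map_mul, map_mul, map_mul, map_inv, map_inv, ← h1]
      group
    have h3 : x * z * x⁻¹ * z⁻¹ ∈ P₀ :=
      P₀.mul_mem ((inferInstance : P₀.Normal).conj_mem z hz x) (P₀.inv_mem hz)
    exact mem_of_mem_qK Q₀ T₀.isPGroup' (hPT h3) h2
  have hxC : QuotientGroup.mk' Q₀ x ∈
      centralizer ((P₀.map (QuotientGroup.mk' Q₀) : Subgroup (L ⧸ Q₀)) : Set (L ⧸ Q₀)) := by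
    rw [Subgroup.mem_centralizer_iff]
    rintro _ ⟨z, hz, rfl⟩
    have h1 : QuotientGroup.mk' Q₀ (x * z * x⁻¹ * z⁻¹) = 1 := (QuotientGroup.eq_one_iff _).mpr (hcomm z hz)
    rw [map_mul, map_mul, map_mul, map_inv, map_inv] at h1
    have h2 : QuotientGroup.mk' Q₀ x * QuotientGroup.mk' Q₀ z =
        (QuotientGroup.mk' Q₀ x * QuotientGroup.mk' Q₀ z * (QuotientGroup.mk' Q₀ x)⁻¹ *
          (QuotientGroup.mk' Q₀ z)⁻¹) * (QuotientGroup.mk' Q₀ z * QuotientGroup.mk' Q₀ x) := by group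
    rw [h2, h1, one_mul]
  have hx2 := hB hxC
  have hOn : (Cfsg.pPrimeCore p (L ⧸ Q₀)).Normal := by
    have : (Cfsg.pPrimeCore p (L ⧸ Q₀)).Characteristic := Cfsg.Agent.Lib.pPrimeCore_characteristic p
    infer_instance
  rw [← SetLike.mem_coe, Subgroup.mul_normal] at hx2
  obtain ⟨a, ⟨z, hz, rfl⟩, o, ho, hao⟩ := hx2
  have h1 : z⁻¹ * x ∈ qK p Q₀ := by
    rw [mem_qK, map_mul, map_inv]
    have : (QuotientGroup.mk' Q₀ z)⁻¹ * QuotientGroup.mk' Q₀ x = o := by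
      rw [← hao]
      group
    rw [this]
    exact ho
  have h2 : QuotientGroup.mk' (qK p Q₀) x = QuotientGroup.mk' (qK p Q₀) z := by
    have h3 : QuotientGroup.mk' (qK p Q₀) (z⁻¹ * x) = 1 := (QuotientGroup.eq_one_iff _).mpr h1
    rw [map_mul, map_inv] at h3
    exact (inv_mul_eq_one.mp h3).symm
  rw [h2]
  exact hUle ⟨z, hz, rfl⟩

end Cfsg.Agent.Helper85.QM
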