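-- Fusion systems realized by a finite group on a Sylow subgroup are saturated (transport of S5076 along the realizing map). (helper85)
import Cfsg.Agent.Helper85.Morphism3
import Cfsg.Agent.S5076

set_option autoImplicit false

namespace Cfsg.Agent.Helper85

open Cfsg Cfsg.FusionSystem Cfsg.Agent.Helper87

variable {Ω : Type*} [Group Ω] {S : Subgroup Ω} {G : Type*} [Group G]

/-- The inverse of an injective homomorphism `ι : S →* G`, on a subgroup `T` equal to its image. -/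
noncomputable def invOn (ι : S →* G) (hinj : Function.Injective ι) {T : Subgroup G} (hT : T = ι.range) : T →* S :=
  (MonoidHom.ofInjective hinj).symm.toMonoidHom.comp (MulEquiv.subgroupCongr hT).toMonoidHom

theorem map_invOn (ι : S →* G) (hinj : Function.Injective ι) {T : Subgroup G} (hT : T = ι.range) (t : T) :
    ι (invOn ι hinj hT t) = t := by
  have h := MonoidHom.apply_ofInjective_symm hinj (MulEquiv.subgroupCongr hT t)
  exact h

theorem invOn_map (ι : S →* G) (hinj : Function.Injective ι) {T : Subgroup G} (hT : T = ι.range) (s : S)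
    (hs : ι s ∈ T) : invOn ι hinj hT ⟨ι s, hs⟩ = s :=
  hinj (map_invOn ι hinj hT ⟨ι s, hs⟩)

theorem map_mem_of_range (ι : S →* G) {T : Subgroup G} (hT : T = ι.range) (s : S) : ι s ∈ T := by
  rw [hT]
  exact ⟨s, rfl⟩

/-- The inverse of the realizing map is a surjective morphism from the fusion system of `G` on `T = ι(S)` onto `F`. -/
theorem isSurjectiveMorphism_invOn (F : FusionSystem S) (ι : S →* G) (hι : F.IsRealizedBy ι) {T : Subgroup G}
    (hT : T = ι.range) :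
    (groupFusionSystem T).IsSurjectiveMorphism F (S.subtype.comp (invOn ι hι.1 hT)) := by
  obtain ⟨hinj, hreal⟩ := hι
  set β : T →* Ω := S.subtype.comp (invOn ι hinj hT) with hβ
  have hβS : ∀ t : T, β t ∈ S := fun t => (invOn ι hinj hT t).2
  have hιβ : ∀ t : T, ι ⟨β t, hβS t⟩ = t := fun t => map_invOn ι hinj hT t
  have hβι : ∀ (s : S) (hs : ι s ∈ T), β ⟨ι s, hs⟩ = s := fun s hs =>
    congrArg Subtype.val (invOn_map ι hinj hT s hs)
  have hιT : ∀ s : S, ι s ∈ T := map_mem_of_range ι hT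
  refine ⟨⟨hβS, ?_⟩, ?_, ?_⟩
  · -- morphism
    rintro P' φ' ⟨hP'T, hφ'T, g, hg⟩
    have hPS : imageAlong β P' ≤ S := imageAlong_le β hβS P'
    have hιP : ∀ y : ↥(imageAlong β P'), ι ⟨y, hPS y.2⟩ ∈ P' := by
      intro y
      obtain ⟨t, ht, hty⟩ := (mem_imageAlong β P' _).1 y.2
      have e1 : (⟨(y : Ω), hPS y.2⟩ : S) = ⟨β t, hβS t⟩ := Subtype.ext hty.symm
      rw [e1, hιβ]
      exact ht
    let ιP : ↥(imageAlong β P') →* P' := (ι.comp (Subgroup.inclusion hPS)).codRestrict P' hιP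
    let φ : ↥(imageAlong β P') →* Ω := β.comp ((φ'.codRestrict T hφ'T).comp ιP)
    have hφx : ∀ y : ↥(imageAlong β P'), φ y = β ⟨φ' ⟨ι ⟨y, hPS y.2⟩, hιP y⟩, hφ'T _⟩ := fun y => rfl
    have hφS : ∀ y, φ y ∈ S := fun y => hβS _
    have hφF : φ ∈ F.Hom (imageAlong β P') := by
      rw [hreal _ hPS φ hφS]
      refine ⟨g, fun y => ?_⟩
      have e1 : (⟨φ y, hφS y⟩ : S) = ⟨β ⟨φ' ⟨ι ⟨y, hPS y.2⟩, hιP y⟩, hφ'T _⟩, hβS _⟩ := Subtype.ext (hφx y)
      rw [e1, hιβ]
      exact hg _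
    refine ⟨φ, hφF, hP'T, hφ'T, fun x => (mem_imageAlong β P' _).2 ⟨⟨x, hP'T x.2⟩, x.2, rfl⟩, fun x => ?_⟩
    rw [hφx]
    congr 2
    congr 1
    exact Subtype.ext (hιβ ⟨x, hP'T x.2⟩)
  · -- range
    ext y
    constructor
    · rintro ⟨t, rfl⟩
      exact hβS t
    · intro hy
      exact ⟨⟨ι ⟨y, hy⟩, hιT _⟩, hβι ⟨y, hy⟩ _⟩
  · -- surjectivity on maps
    intro P hPS φ hφ
    have hφS : ∀ x : P, φ x ∈ S := (F.le_of_mem hφ).2
    obtain ⟨g, hg⟩ := (hreal P hPS φ hφS).1 hφ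
    have hP'T : preimageAlong β P ≤ T := preimageAlong_le β P
    have hβP : ∀ x : ↥(preimageAlong β P), β ⟨x, hP'T x.2⟩ ∈ P := fun x => map_mem_of_mem_preimageAlong β P x
    have hconj : ∀ x : ↥(preimageAlong β P),
        g * (x : G) * g⁻¹ = ι ⟨φ ⟨β ⟨x, hP'T x.2⟩, hβP x⟩, hφS _⟩ := by
      intro x
      rw [hg]
      have e1 : (⟨((⟨β ⟨x, hP'T x.2⟩, hβP x⟩ : P) : Ω), hPS (hβP x)⟩ : S) = ⟨β ⟨x, hP'T x.2⟩, hβS _⟩ := rfl
      rw [e1, hιβ]
    have hmemT : ∀ x : ↥(preimageAlong β P), g * (x : G) * g⁻¹ ∈ T := by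
      intro x
      rw [hconj x]
      exact hιT _
    refine ⟨conjHom (preimageAlong β P) g, ⟨hP'T, hmemT, g, fun x => rfl⟩, hP'T, hmemT, hβP, fun x => ?_⟩
    have h1 : ι ⟨φ ⟨β ⟨x, hP'T x.2⟩, hβP x⟩, hφS _⟩ = ι ⟨β ⟨conjHom (preimageAlong β P) g x, hmemT x⟩, hβS _⟩ := by
      rw [hιβ, ← hconj x]
      rfl
    exact congrArg Subtype.val (hinj h1)

/-- A fusion system realized by a finite group on a Sylow `p`-subgroup is saturated. -/
theorem isSaturated_of_isRealizedBy [Finite G] {p : ℕ} [Fact p.Prime] (F : FusionSystem S) (ι : S →* G)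
    (hι : F.IsRealizedBy ι) (T : Sylow p G) (hT : (T : Subgroup G) = ι.range) : F.IsSaturated p := by
  have hsat : (groupFusionSystem (T : Subgroup G)).IsSaturated p := Cfsg.Agent.S5076.result p T
  exact isSaturated_of_surjectiveMorphism (groupFusionSystem (T : Subgroup G)) F _ T.isPGroup' hsat
    (isSurjectiveMorphism_invOn F ι hι hT)

end Cfsg.Agent.Helper85
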