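-- Uniqueness of models, abstract group-theoretic core: fibre product and stable Gaschütz (helper85).
import Mathlib
import Cfsg.Agent.Helper84.StableGaschutz

set_option autoImplicit false

namespace Cfsg.Agent.Helper85.MU

variable {S G₁ G₂ : Type*} [Group S] [Group G₁] [Group G₂]

/-- The pairs `(g₁, g₂)` inducing, through `ι₁` and `ι₂`, the same automorphism of `U`. -/
def fib (ι₁ : S →* G₁) (ι₂ : S →* G₂) (U : Subgroup S) : Subgroup (G₁ × G₂) where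
  carrier := {x | (∀ u ∈ U, ∃ v ∈ U, x.1 * ι₁ u * x.1⁻¹ = ι₁ v ∧ x.2 * ι₂ u * x.2⁻¹ = ι₂ v) ∧
    (∀ u ∈ U, ∃ v ∈ U, x.1⁻¹ * ι₁ u * x.1 = ι₁ v ∧ x.2⁻¹ * ι₂ u * x.2 = ι₂ v)}
  one_mem' := ⟨fun u hu => ⟨u, hu, by simp, by simp⟩, fun u hu => ⟨u, hu, by simp, by simp⟩⟩
  mul_mem' := by
    rintro x y ⟨hx1, hx2⟩ ⟨hy1, hy2⟩
    refine ⟨fun u hu => ?_, fun u hu => ?_⟩
    · obtain ⟨w, hw, e1, e2⟩ := hy1 u hu
      obtain ⟨v, hv, e3, e4⟩ := hx1 w hw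
      refine ⟨v, hv, ?_, ?_⟩
      · rw [← e3, ← e1]
        simp only [Prod.fst_mul, mul_inv_rev, mul_assoc]
      · rw [← e4, ← e2]
        simp only [Prod.snd_mul, mul_inv_rev, mul_assoc]
    · obtain ⟨w, hw, e1, e2⟩ := hx2 u hu
      obtain ⟨v, hv, e3, e4⟩ := hy2 w hw
      refine ⟨v, hv, ?_, ?_⟩
      · rw [← e3, ← e1]
        simp only [Prod.fst_mul, mul_inv_rev, mul_assoc]
      · rw [← e4, ← e2]
        simp only [Prod.snd_mul, mul_inv_rev, mul_assoc]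
  inv_mem' := by
    rintro x ⟨hx1, hx2⟩
    refine ⟨fun u hu => ?_, fun u hu => ?_⟩
    · obtain ⟨v, hv, e1, e2⟩ := hx2 u hu
      exact ⟨v, hv, by simpa using e1, by simpa using e2⟩
    · obtain ⟨v, hv, e1, e2⟩ := hx1 u hu
      exact ⟨v, hv, by simpa using e1, by simpa using e2⟩

theorem mem_fib (ι₁ : S →* G₁) (ι₂ : S →* G₂) (U : Subgroup S) (x : G₁ × G₂) :
    x ∈ fib ι₁ ι₂ U ↔ (∀ u ∈ U, ∃ v ∈ U, x.1 * ι₁ u * x.1⁻¹ = ι₁ v ∧ x.2 * ι₂ u * x.2⁻¹ = ι₂ v) ∧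
      (∀ u ∈ U, ∃ v ∈ U, x.1⁻¹ * ι₁ u * x.1 = ι₁ v ∧ x.2⁻¹ * ι₂ u * x.2 = ι₂ v) := Iff.rfl

open scoped IsMulCommutative in
/-- Two finite groups containing `S` as a Sylow subgroup, with the same action on a self-centralizing normal subgroup
`U` and the same (stable) fusion above `U`, are isomorphic over `S`. -/
theorem exists_iso {p : ℕ} [Fact p.Prime] [Finite G₁] [Finite G₂] (ι₁ : S →* G₁) (ι₂ : S →* G₂)
    (hι₁ : Function.Injective ι₁) (hι₂ : Function.Injective ι₂) (hS : IsPGroup p S)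
    (hidx : ¬ p ∣ (ι₂.range).index) (U : Subgroup S) (hUn : ∀ s : S, ∀ u ∈ U, s * u * s⁻¹ ∈ U)
    (hc₁ : ∀ g : G₁, (∀ u ∈ U, g * ι₁ u = ι₁ u * g) → ∃ z ∈ U, ι₁ z = g)
    (hc₂ : ∀ g : G₂, (∀ u ∈ U, g * ι₂ u = ι₂ u * g) → ∃ z ∈ U, ι₂ z = g)
    (h12 : ∀ g₁ : G₁, ∃ g₂ : G₂, (g₁, g₂) ∈ fib ι₁ ι₂ U)
    (h21 : ∀ g₂ : G₂, ∃ g₁ : G₁, (g₁, g₂) ∈ fib ι₁ ι₂ U)
    (hstab : ∀ x ∈ fib ι₁ ι₂ U, ∃ w ∈ U, (∀ u ∈ U, w * u = u * w) ∧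
      ∀ s t₁ t₂ : S, x.1⁻¹ * ι₁ s * x.1 = ι₁ t₁ → x.2⁻¹ * ι₂ s * x.2 = ι₂ t₂ → t₁ = w * t₂ * w⁻¹) :
    ∃ φ : G₁ ≃* G₂, ∀ s : S, φ (ι₁ s) = ι₂ s := by
  classical
  set P := fib ι₁ ι₂ U with hP
  let π₁ : ↥P →* G₁ := (MonoidHom.fst G₁ G₂).comp P.subtype
  let π₂ : ↥P →* G₂ := (MonoidHom.snd G₁ G₂).comp P.subtype
  have hπ₁ : ∀ x : ↥P, π₁ x = x.1.1 := fun _ => rfl
  have hπ₂ : ∀ x : ↥P, π₂ x = x.1.2 := fun _ => rfl
  -- the diagonal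
  have hδmem : ∀ s : S, (ι₁ s, ι₂ s) ∈ P := by
    intro s
    refine ⟨fun u hu => ⟨s * u * s⁻¹, hUn s u hu, by simp, by simp⟩,
      fun u hu => ⟨s⁻¹ * u * s, by simpa using hUn s⁻¹ u hu, by simp, by simp⟩⟩
  let δ : S →* ↥P := (ι₁.prod ι₂).codRestrict P hδmem
  have hδ1 : ∀ s, (δ s).1.1 = ι₁ s := fun _ => rfl
  have hδ2 : ∀ s, (δ s).1.2 = ι₂ s := fun _ => rfl
  set K : Subgroup ↥P := π₂.ker with hK
  set A : Subgroup ↥P := δ.range with hA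
  -- elements of the kernel
  have hKelt : ∀ x : ↥P, x ∈ K → ∃ z ∈ U, (∀ u ∈ U, z * u = u * z) ∧ ι₁ z = x.1.1 := by
    intro x hx
    have hx2 : x.1.2 = 1 := hx
    have hcomm : ∀ u ∈ U, x.1.1 * ι₁ u = ι₁ u * x.1.1 := by
      intro u hu
      obtain ⟨v, hv, e1, e2⟩ := x.2.1 u hu
      rw [hx2] at e2
      have huv : u = v := hι₂ (by simpa using e2)
      rw [← huv] at e1
      calc x.1.1 * ι₁ u = x.1.1 * ι₁ u * x.1.1⁻¹ * x.1.1 := by group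
        _ = ι₁ u * x.1.1 := by rw [e1]
    obtain ⟨z, hz, hzx⟩ := hc₁ x.1.1 hcomm
    refine ⟨z, hz, fun u hu => ?_, hzx⟩
    apply hι₁
    rw [map_mul, map_mul, hzx]
    exact hcomm u hu
  have hKmem : ∀ z ∈ U, (∀ u ∈ U, z * u = u * z) → ((ι₁ z, 1) : G₁ × G₂) ∈ P := by
    intro z hz hzc
    refine ⟨fun u hu => ⟨u, hu, ?_, by simp⟩, fun u hu => ⟨u, hu, ?_, by simp⟩⟩
    · show ι₁ z * ι₁ u * (ι₁ z)⁻¹ = ι₁ u
      rw [← map_mul, hzc u hu, map_mul, mul_inv_cancel_right]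
    · show (ι₁ z)⁻¹ * ι₁ u * ι₁ z = ι₁ u
      rw [mul_assoc, ← map_mul, ← hzc u hu, map_mul, inv_mul_cancel_left]
  have hKcomm : IsMulCommutative K := by
    rw [isMulCommutative_iff]
    intro a b
    obtain ⟨za, hza, hzac, hzax⟩ := hKelt a.1 a.2
    obtain ⟨zb, hzb, hzbc, hzbx⟩ := hKelt b.1 b.2
    have ha2 : a.1.1.2 = 1 := a.2
    have hb2 : b.1.1.2 = 1 := b.2
    apply Subtype.ext
    apply Subtype.ext
    apply Prod.ext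
    · show a.1.1.1 * b.1.1.1 = b.1.1.1 * a.1.1.1
      rw [← hzax, ← hzbx, ← map_mul, ← map_mul, hzac zb hzb]
    · show a.1.1.2 * b.1.1.2 = b.1.1.2 * a.1.1.2
      rw [ha2, hb2]
  have hKp : IsPGroup p K := by
    intro a
    obtain ⟨z, hz, hzc, hzx⟩ := hKelt a.1 a.2
    have ha2 : a.1.1.2 = 1 := a.2
    obtain ⟨n, hn⟩ := hS z
    refine ⟨n, ?_⟩
    apply Subtype.ext
    apply Subtype.ext
    apply Prod.ext
    · show (a.1.1 ^ (p ^ n)).1 = 1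
      rw [Prod.pow_fst, ← hzx, ← map_pow, hn, map_one]
    · show (a.1.1 ^ (p ^ n)).2 = 1
      rw [Prod.pow_snd, ha2, one_pow]
  have hAK : A ⊓ K = ⊥ := by
    rw [eq_bot_iff]
    rintro x ⟨⟨s, rfl⟩, hx⟩
    have h2 : ι₂ s = 1 := hx
    have hs : s = 1 := hι₂ (by rw [h2, map_one])
    rw [hs, map_one]
    exact Subgroup.mem_bot.mpr rfl
  have hπ₂surj : Function.Surjective π₂ := by
    intro g₂
    obtain ⟨g₁, hg⟩ := h21 g₂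
    exact ⟨⟨(g₁, g₂), hg⟩, rfl⟩
  have hU' : K ⊔ A = (ι₂.range).comap π₂ := by
    apply le_antisymm
    · apply sup_le
      · intro x hx
        have : π₂ x = 1 := hx
        rw [Subgroup.mem_comap, this]
        exact Subgroup.one_mem _
      · rintro _ ⟨s, rfl⟩
        exact ⟨s, rfl⟩
    · intro x hx
      obtain ⟨s, hs⟩ := Subgroup.mem_comap.mp hx
      have hk : x * (δ s)⁻¹ ∈ K := by
        show π₂ (x * (δ s)⁻¹) = 1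
        rw [map_mul, map_inv, ← hs]
        show ι₂ s * (ι₂ s)⁻¹ = 1
        exact mul_inv_cancel _
      have : x = (x * (δ s)⁻¹) * δ s := by group
      rw [this]
      exact Subgroup.mul_mem _ (Subgroup.mem_sup_left hk) (Subgroup.mem_sup_right ⟨s, rfl⟩)
  have hcop : (Nat.card K).Coprime (K ⊔ A).index := by
    rw [hU', Subgroup.index_comap_of_surjective _ hπ₂surj]
    obtain ⟨n, hn⟩ := IsPGroup.iff_card.mp hKp
    rw [hn]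
    exact Nat.Coprime.pow_left n ((Nat.Prime.coprime_iff_not_dvd (Fact.out)).mpr hidx)
  have hstab' : ∀ e : ↥P, ∃ k ∈ K, ∀ a ∈ A, e⁻¹ * a * e ∈ K ⊔ A → (e * k)⁻¹ * a * (e * k) ∈ A := by
    intro e
    obtain ⟨w, hwU, hwc, hw⟩ := hstab e.1 e.2
    refine ⟨⟨(ι₁ w, 1), hKmem w hwU hwc⟩, rfl, ?_⟩
    rintro _ ⟨s, rfl⟩ hmem
    rw [hU'] at hmem
    obtain ⟨t₂, ht₂⟩ := Subgroup.mem_comap.mp hmem
    have ht₂' : e.1.2⁻¹ * ι₂ s * e.1.2 = ι₂ t₂ := ht₂.symm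
    have hk : e⁻¹ * δ s * e * (δ t₂)⁻¹ ∈ K := by
      show π₂ (e⁻¹ * δ s * e * (δ t₂)⁻¹) = 1
      rw [map_mul, map_inv, ← ht₂]
      exact mul_inv_cancel _
    obtain ⟨z, hz, hzc, hzx⟩ := hKelt _ hk
    have ht₁ : e.1.1⁻¹ * ι₁ s * e.1.1 = ι₁ (z * t₂) := by
      have h1 : (e⁻¹ * δ s * e * (δ t₂)⁻¹).1.1 = e.1.1⁻¹ * ι₁ s * e.1.1 * (ι₁ t₂)⁻¹ := rfl
      rw [h1] at hzx
      rw [map_mul, hzx]
      group
    have hrel := hw s (z * t₂) t₂ ht₁ ht₂'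
    refine ⟨t₂, ?_⟩
    apply Subtype.ext
    apply Prod.ext
    · show ι₁ t₂ = (e.1.1 * ι₁ w)⁻¹ * ι₁ s * (e.1.1 * ι₁ w)
      have : (e.1.1 * ι₁ w)⁻¹ * ι₁ s * (e.1.1 * ι₁ w) = (ι₁ w)⁻¹ * (e.1.1⁻¹ * ι₁ s * e.1.1) * ι₁ w := by group
      rw [this, ht₁, hrel, ← map_inv, ← map_mul, ← map_mul]
      congr 1
      group
    · show ι₂ t₂ = (e.1.2 * 1)⁻¹ * ι₂ s * (e.1.2 * 1)
      rw [mul_one, ht₂']
  obtain ⟨H, hcompl, hAH⟩ := Cfsg.Agent.Helper84.exists_complement_ge_of_stable K (K ⊔ A) A le_sup_left hcop hAK rfl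
    hstab'
  have hdisj : K ⊓ H = ⊥ := hcompl.disjoint.eq_bot
  have hprod : ∀ x : ↥P, ∃ k ∈ K, ∃ h ∈ H, x = k * h := by
    intro x
    obtain ⟨⟨k, h⟩, hkh⟩ := hcompl.2 x
    exact ⟨k.1, k.2, h.1, h.2, hkh.symm⟩
  -- the two projections restricted to `H`
  let ρ₁ : ↥H →* G₁ := π₁.comp H.subtype
  let ρ₂ : ↥H →* G₂ := π₂.comp H.subtype
  have hρ₂inj : Function.Injective ρ₂ := by
    rw [injective_iff_map_eq_one]
    intro x hx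
    have hxK : (x : ↥P) ∈ K := hx
    have : (x : ↥P) ∈ K ⊓ H := ⟨hxK, x.2⟩
    rw [hdisj, Subgroup.mem_bot] at this
    exact Subtype.ext this
  have hρ₂surj : Function.Surjective ρ₂ := by
    intro g₂
    obtain ⟨x, rfl⟩ := hπ₂surj g₂
    obtain ⟨k, hk, h, hh, rfl⟩ := hprod x
    refine ⟨⟨h, hh⟩, ?_⟩
    show π₂ h = π₂ (k * h)
    have hk1 : π₂ k = 1 := hk
    rw [map_mul, hk1, one_mul]
  have hρ₁inj : Function.Injective ρ₁ := by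
    rw [injective_iff_map_eq_one]
    intro x hx
    have hx1 : (x : ↥P).1.1 = 1 := hx
    have hcomm : ∀ u ∈ U, (x : ↥P).1.2 * ι₂ u = ι₂ u * (x : ↥P).1.2 := by
      intro u hu
      obtain ⟨v, hv, e1, e2⟩ := (x : ↥P).2.1 u hu
      rw [hx1] at e1
      have huv : u = v := hι₁ (by simpa using e1)
      rw [← huv] at e2
      calc (x : ↥P).1.2 * ι₂ u = (x : ↥P).1.2 * ι₂ u * (x : ↥P).1.2⁻¹ * (x : ↥P).1.2 := by group
        _ = ι₂ u * (x : ↥P).1.2 := by rw [e2]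
    obtain ⟨z, hz, hzx⟩ := hc₂ _ hcomm
    have hδH : δ z ∈ H := hAH ⟨z, rfl⟩
    have hmem : (x : ↥P)⁻¹ * δ z ∈ K ⊓ H := by
      refine ⟨?_, H.mul_mem (H.inv_mem x.2) hδH⟩
      show π₂ ((x : ↥P)⁻¹ * δ z) = 1
      rw [map_mul, map_inv]
      show ((x : ↥P).1.2)⁻¹ * ι₂ z = 1
      rw [hzx, inv_mul_cancel]
    rw [hdisj, Subgroup.mem_bot] at hmem
    have hxz : (x : ↥P) = δ z := by
      have := hmem
      rw [inv_mul_eq_one] at this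
      exact this
    have hz1 : ι₁ z = 1 := by
      rw [← hδ1 z, ← hxz]
      exact hx1
    have hz : z = 1 := hι₁ (by rw [hz1, map_one])
    apply Subtype.ext
    rw [hxz, hz, map_one]
    rfl
  have hρ₁surj : Function.Surjective ρ₁ := by
    intro g₁
    obtain ⟨g₂, hg⟩ := h12 g₁
    obtain ⟨k, hk, h, hh, hx⟩ := hprod ⟨(g₁, g₂), hg⟩
    obtain ⟨z, hz, hzc, hzx⟩ := hKelt k hk
    have hδH : δ z ∈ H := hAH ⟨z, rfl⟩
    refine ⟨⟨δ z * h, H.mul_mem hδH hh⟩, ?_⟩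
    show π₁ (δ z * h) = g₁
    have h1 : π₁ (⟨(g₁, g₂), hg⟩ : ↥P) = g₁ := rfl
    rw [← h1, hx, map_mul, map_mul]
    have h2 : π₁ (δ z) = π₁ k := hzx
    rw [h2]
  let e₁ : ↥H ≃* G₁ := MulEquiv.ofBijective ρ₁ ⟨hρ₁inj, hρ₁surj⟩
  let e₂ : ↥H ≃* G₂ := MulEquiv.ofBijective ρ₂ ⟨hρ₂inj, hρ₂surj⟩
  refine ⟨e₁.symm.trans e₂, fun s => ?_⟩
  have hδH : δ s ∈ H := hAH ⟨s, rfl⟩
  have h1 : e₁ ⟨δ s, hδH⟩ = ι₁ s := rfl
  show e₂ (e₁.symm (ι₁ s)) = ι₂ s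
  rw [← h1, MulEquiv.symm_apply_apply]
  rfl

end Cfsg.Agent.Helper85.MU
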