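-- Models of normalizer systems in a factor system are quotients of models of normalizer systems upstairs (helper85).
import Cfsg.Agent.Helper85.FacNormalizer2
import Cfsg.Agent.Helper85.FacRealize
import Cfsg.Agent.Helper85.QuotModel2
import Cfsg.Agent.Helper87.NormModel
import Cfsg.Agent.Helper87.FusionNormal
import Cfsg.Agent.Helper87.FusionRS
import Cfsg.Agent.S5090
import Cfsg.Agent.S5091
import Cfsg.Agent.S5096
import Cfsg.Agent.S5098

set_option autoImplicit false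

namespace Cfsg.Agent.Helper85

open Cfsg Cfsg.FusionSystem

universe u v w

/-- A map whose source contains a strongly closed subgroup carries it onto itself. -/
theorem map_subgroupOf_eq_of_stronglyClosed {Ω : Type*} [Group Ω] {S : Subgroup Ω} [Finite S] (F : FusionSystem S)
    {Q B : Subgroup Ω} (hQ : F.StronglyClosed Q) (hQB : Q ≤ B) {ψ : B →* Ω} (hψ : ψ ∈ F.Hom B) :
    (Q.subgroupOf B).map ψ = Q := by
  have hfin : Finite Q := Finite.of_injective (Subgroup.inclusion hQ.1) (Subgroup.inclusion_injective _)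
  have hin : ∀ x : B, (x : Ω) ∈ Q → ψ x ∈ Q := fun x hx =>
    hQ.2 Q le_rfl _ (restrict_mem F hψ hQB) ⟨x, hx⟩
  rw [map_subgroupOf_eq_iff]
  refine ⟨hin, ?_⟩
  let g : Q → Q := fun q => ⟨ψ ⟨q, hQB q.2⟩, hin ⟨q, hQB q.2⟩ q.2⟩
  have ginj : Function.Injective g := by
    intro a b hab
    have h1 : ψ ⟨a, hQB a.2⟩ = ψ ⟨b, hQB b.2⟩ := congrArg Subtype.val hab
    have h2 := F.injective_of_mem hψ h1
    have h3 : (a : Ω) = (b : Ω) := congrArg (fun t : B => (t : Ω)) h2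
    exact Subtype.ext h3
  have gsurj := Finite.injective_iff_surjective.mp ginj
  intro y hy
  obtain ⟨a, ha⟩ := gsurj ⟨y, hy⟩
  exact ⟨⟨a, hQB a.2⟩, a.2, congrArg Subtype.val ha⟩

/-- A subgroup normal in `F` and contained in `P` is normal in the normalizer system of `P`. -/
theorem isNormal_normalizerSystem_of_le {Ω : Type*} [Group Ω] {S : Subgroup Ω} [Finite S] (F : FusionSystem S)
    {Q P : Subgroup Ω} (hQ : F.IsNormal Q) (hQP : Q ≤ P) (hPS : P ≤ S) (N : FusionSystem (normalizerIn S P))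
    (hN : F.IsNormalizerSystem P N) : N.IsNormal Q := by
  have hS₀ : F.StronglyClosed Q := Cfsg.Agent.Helper87.stronglyClosed_of_isNormal F hQ
  have hPT : P ≤ normalizerIn S P := Cfsg.Agent.Helper87.le_normalizerIn_self hPS
  refine ⟨hQP.trans hPT, fun A φ hφ => ?_⟩
  rw [hN A] at hφ
  obtain ⟨hφF, hAT, hφT, χ, hχ, hext, hmap⟩ := hφ
  have hχN : χ ∈ N.Hom (A ⊔ P) := by
    rw [hN]
    exact Cfsg.Agent.Helper87.mem_normalizerHom_of_le F le_sup_right (sup_le hAT hPT) hχ hmap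
  have hle : A ⊔ Q ≤ A ⊔ P := sup_le_sup_left hQP A
  refine ⟨χ.comp (Subgroup.inclusion hle), restrict_mem N hχN hle, fun x => hext x, ?_⟩
  exact map_subgroupOf_eq_of_stronglyClosed F hS₀ le_sup_right (restrict_mem F hχ hle)

/-- A model of the normalizer system of `P'` in the factor system is a quotient of a model of the normalizer
system of the full preimage of `P'`. -/
theorem exists_model_surj {Ω : Type u} [Group Ω] {S : Subgroup Ω} [Finite S] (p : ℕ) [Fact p.Prime]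
    (hS : IsPGroup p S) (F : FusionSystem S) (hF : F.IsSaturated p) (Q : Subgroup Ω) (hQ : F.IsNormal Q)
    {Ω' : Type v} [Group Ω'] {S' : Subgroup Ω'} {f : Ω → Ω'} {E : FusionSystem S'} (h : IsFacF f Q F E)
    (hEsat : E.IsSaturated p) (P' : Subgroup Ω') (hP'n : E.IsFullyNormalized P') (hP'c : E.IsCentric P')
    (N' : FusionSystem (normalizerIn S' P')) (hN' : E.IsNormalizerSystem P' N')
    (L' : Type w) [Group L'] (ι' : ↥(normalizerIn S' P') →* L') (hmod' : N'.IsModel p L' ι') :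
    F.IsFullyNormalized (h.pre P') ∧ F.IsCentric (h.pre P') ∧
    ∃ (N : FusionSystem (normalizerIn S (h.pre P'))) (_ : F.IsNormalizerSystem (h.pre P') N)
      (L : Type u) (_ : Group L) (ι : ↥(normalizerIn S (h.pre P')) →* L), N.IsModel p L ι ∧
        ∃ π : L →* L', Function.Surjective π := by
  classical
  have hS₀ : F.StronglyClosed Q := Cfsg.Agent.Helper87.stronglyClosed_of_isNormal F hQ
  have hP'S' : P' ≤ S' := hP'n.1
  have hPS : h.pre P' ≤ S := h.pre_le P'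
  have hQP : Q ≤ h.pre P' := h.ker_le_pre P'
  have hPn := h.isFullyNormalized_pre hS₀ hP'n
  have hPc := h.isCentric_pre hS₀ hP'c
  refine ⟨hPn, hPc, ?_⟩
  obtain ⟨N, hN⟩ := Cfsg.Agent.S5096.result F (h.pre P') hPS
  have hTS : normalizerIn S (h.pre P') ≤ S := inf_le_left
  have hPT : h.pre P' ≤ normalizerIn S (h.pre P') := Cfsg.Agent.Helper87.le_normalizerIn_self hPS
  have hQT : Q ≤ normalizerIn S (h.pre P') := hQP.trans hPT
  have hTfin : Finite (normalizerIn S (h.pre P')) := IsFacF.finite_sub hTS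
  have hTp : IsPGroup p (normalizerIn S (h.pre P')) := hS.to_le hTS
  have hNsat : N.IsSaturated p := Cfsg.Agent.S5098.result p hS F hF (h.pre P') hPn N hN
  have hNnP : N.IsNormal (h.pre P') := Cfsg.Agent.Helper87.isNormal_normalizerSystem F hPS N hN
  have hNcP : N.IsCentric (h.pre P') := Cfsg.Agent.Helper87.isCentric_normalizerSystem F hPc N hN
  have hNnQ : N.IsNormal Q := isNormal_normalizerSystem_of_le F hQ hQP hPS N hN
  obtain ⟨L, instL, ι, hmod⟩ := Cfsg.Agent.S5090.result p hTp N ⟨hNsat, h.pre P', hNnP, hNcP⟩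
  refine ⟨N, hN, L, instL, ι, hmod, ?_⟩
  have hQ₀n : ((Q.subgroupOf (normalizerIn S (h.pre P'))).map ι).Normal :=
    Cfsg.Agent.Helper87.normal_map_of_isNormal p N ι hmod hNnQ
  have hP₀n : (((h.pre P').subgroupOf (normalizerIn S (h.pre P'))).map ι).Normal :=
    Cfsg.Agent.Helper87.normal_map_of_isNormal p N ι hmod hNnP
  obtain ⟨hfinL, hreal, ⟨T₀, hT₀⟩, -⟩ := hmod
  have hinj : Function.Injective ι := hreal.1
  -- membership in the images
  have hmemQ₀ : ∀ (x : Ω) (hx : x ∈ normalizerIn S (h.pre P')),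
      ι ⟨x, hx⟩ ∈ (Q.subgroupOf (normalizerIn S (h.pre P'))).map ι ↔ x ∈ Q := by
    intro x hx
    constructor
    · rintro ⟨s, hs, hsx⟩
      have : s = ⟨x, hx⟩ := hinj hsx
      rw [this] at hs
      exact hs
    · intro hxQ
      exact ⟨⟨x, hx⟩, hxQ, rfl⟩
  have hmemP₀ : ∀ (x : Ω) (hx : x ∈ normalizerIn S (h.pre P')),
      ι ⟨x, hx⟩ ∈ ((h.pre P').subgroupOf (normalizerIn S (h.pre P'))).map ι ↔ x ∈ h.pre P' := by
    intro x hx
    constructor
    · rintro ⟨s, hs, hsx⟩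
      have : s = ⟨x, hx⟩ := hinj hsx
      rw [this] at hs
      exact hs
    · intro hxQ
      exact ⟨⟨x, hx⟩, hxQ, rfl⟩
  have hQ₀T : (Q.subgroupOf (normalizerIn S (h.pre P'))).map ι ≤ (T₀ : Subgroup L) := by
    rw [hT₀]
    rintro _ ⟨s, -, rfl⟩
    exact ⟨s, rfl⟩
  have hP₀T : ((h.pre P').subgroupOf (normalizerIn S (h.pre P'))).map ι ≤ (T₀ : Subgroup L) := by
    rw [hT₀]
    rintro _ ⟨s, -, rfl⟩
    exact ⟨s, rfl⟩
  -- the kernel condition
  have hQK : ∀ (x : Ω) (hx : x ∈ normalizerIn S (h.pre P')),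
      x ∈ Q ↔ ι ⟨x, hx⟩ ∈ QM.qK p ((Q.subgroupOf (normalizerIn S (h.pre P'))).map ι) := by
    intro x hx
    constructor
    · intro hxQ
      exact QM.le_qK p _ ((hmemQ₀ x hx).mpr hxQ)
    · intro hxK
      have hxT₀ : ι ⟨x, hx⟩ ∈ (T₀ : Subgroup L) := by rw [hT₀]; exact ⟨_, rfl⟩
      exact (hmemQ₀ x hx).mp (QM.mem_of_mem_qK _ T₀.isPGroup' hxT₀ hxK)
  -- the centralizer hypothesis
  have hcent : ∀ t ∈ (T₀ : Subgroup L),
      (∀ z ∈ ((h.pre P').subgroupOf (normalizerIn S (h.pre P'))).map ι,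
        t * z * t⁻¹ * z⁻¹ ∈ (Q.subgroupOf (normalizerIn S (h.pre P'))).map ι) →
      t ∈ ((h.pre P').subgroupOf (normalizerIn S (h.pre P'))).map ι := by
    intro t ht hcomm
    rw [hT₀] at ht
    obtain ⟨s, rfl⟩ := ht
    rw [show s = ⟨(s : Ω), s.2⟩ from rfl, hmemP₀]
    have hsS : (s : Ω) ∈ S := hTS s.2
    refine ⟨hsS, ?_⟩
    apply hP'c.2 P' (Cfsg.Agent.Helper87.isConj_refl E hP'S')
    refine ⟨h.map_mem hsS, ?_⟩
    show f (s : Ω) ∈ Subgroup.centralizer (P' : Set Ω')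
    rw [Subgroup.mem_centralizer_iff]
    intro y hy
    obtain ⟨z, hz, rfl⟩ := (h.isIm_pre hP'S' y).mp hy
    have hzT : z ∈ normalizerIn S (h.pre P') := hPT hz
    have h1 := hcomm (ι ⟨z, hzT⟩) ((hmemP₀ z hzT).mpr hz)
    have h2 : s * ⟨z, hzT⟩ * s⁻¹ * (⟨z, hzT⟩ : ↥(normalizerIn S (h.pre P')))⁻¹ =
        ⟨(s : Ω) * z * (s : Ω)⁻¹ * z⁻¹, Subgroup.mul_mem _ (Subgroup.mul_mem _ (Subgroup.mul_mem _ s.2 hzT)
          (Subgroup.inv_mem _ s.2)) (Subgroup.inv_mem _ hzT)⟩ := rfl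
    rw [← map_inv, ← map_inv, ← map_mul, ← map_mul, ← map_mul, h2, hmemQ₀] at h1
    have hzS : z ∈ S := hz.1
    have h3 : f ((s : Ω) * z * (s : Ω)⁻¹ * z⁻¹) = 1 := (h.ker _ (hQ.1 h1)).mpr h1
    rw [h.mul _ (S.mul_mem (S.mul_mem hsS hzS) (S.inv_mem hsS)) _ (S.inv_mem hzS),
      h.mul _ (S.mul_mem hsS hzS) _ (S.inv_mem hsS), h.mul _ hsS _ hzS, h.inv hsS, h.inv hzS] at h3
    have h4 : f z * f (s : Ω) = (f (s : Ω) * f z * (f (s : Ω))⁻¹ * (f z)⁻¹)⁻¹ * (f (s : Ω) * f z) := by group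
    rw [h4, h3, inv_one, one_mul]
  -- the two factor systems of `N`
  have H₂ := isFacF_quot_of_isRealizedBy hreal T₀ hT₀
    (QM.qK p ((Q.subgroupOf (normalizerIn S (h.pre P'))).map ι)) Q hQT hQK
  have H₁ := h.isFacF_normalizer hS₀ hP'S' N hN N' hN'
  obtain ⟨k, hk⟩ := exists_compare H₂ H₁
  have himg := isImgF_of_isFacF H₂ H₁ hk
  have hreal₃ := isRealizedBy_of_isImgF himg
  have hrange₃ := range_toHom_of_isImgF himg
  have hπs : Function.Surjective (QuotientGroup.mk' (QM.qK p ((Q.subgroupOf (normalizerIn S (h.pre P'))).map ι))) :=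
    QuotientGroup.mk'_surjective _
  have hmod₃ : N'.IsModel p (L ⧸ QM.qK p ((Q.subgroupOf (normalizerIn S (h.pre P'))).map ι)) himg.hom.toHom :=
    ⟨inferInstance, hreal₃, ⟨T₀.mapSurjective hπs, by rw [hrange₃]; rfl⟩,
      QM.centralizer_pCore_quot_le T₀ _ _ hP₀T hcent⟩
  -- the normalizer system downstairs is constrained
  have hS'fin : Finite S' := h.finite_target
  have hS'p : IsPGroup p S' := h.isPGroup_target hS
  have hT'S' : normalizerIn S' P' ≤ S' := inf_le_left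
  have hT'fin : Finite (normalizerIn S' P') := IsFacF.finite_sub hT'S'
  have hT'p : IsPGroup p (normalizerIn S' P') := hS'p.to_le hT'S'
  have hN'sat : N'.IsSaturated p := Cfsg.Agent.S5098.result p hS'p E hEsat P' hP'n N' hN'
  have hN'con : N'.IsConstrained p :=
    ⟨hN'sat, P', Cfsg.Agent.Helper87.isNormal_normalizerSystem E hP'S' N' hN',
      Cfsg.Agent.Helper87.isCentric_normalizerSystem E hP'c N' hN'⟩
  obtain ⟨φ, -⟩ := Cfsg.Agent.S5091.result p hT'p N' hN'con himg.hom.toHom ι' hmod₃ hmod'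
  exact ⟨φ.toMonoidHom.comp (QuotientGroup.mk' _), φ.surjective.comp hπs⟩

end Cfsg.Agent.Helper85
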