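import Cfsg.Agent.Helper85.AutCore
import Cfsg.Agent.Helper85.PPowerIndex
import Cfsg.Agent.Helper87.FusionHyp
import Cfsg.Agent.Helper87.FusionQuot3
import Cfsg.Agent.Helper87.FusionClosed
import Cfsg.Agent.Helper87.FusionAlperin
import Cfsg.Agent.Helper88.AutSystem
import Cfsg.Agent.Helper88.FusionCentric
set_option autoImplicit false

/-!
A saturated subsystem of `p`-power index over a subgroup `T` normal in `S` is normal in the big system: `T` is strongly
closed, the subsystem is invariant under `Aut_F(T)` (it equals its core, by uniqueness), the Frattini condition holds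
(`Aut_F(R) = O^p(Aut_F(R)) Aut_S(R)` for fully automized `R`), and the extension condition holds.
-/

namespace Cfsg.Agent.Helper85

open Cfsg Cfsg.FusionSystem Cfsg.Agent.Helper87 Cfsg.Agent.Helper88.FS

variable {Ω : Type*} [Group Ω] {S : Subgroup Ω}

/-- A subgroup normalized by `S` and containing the hyperfocal subgroup is strongly closed. -/
theorem stronglyClosed_of_hyperfocal_le [Finite S] {p : ℕ} [Fact p.Prime] (hS : IsPGroup p S) (F : FusionSystem S)
    (hF : F.IsSaturated p) {T : Subgroup Ω} (hTS : T ≤ S)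
    (hH : ∀ g ∈ S, ∀ x : Ω, g * x * g⁻¹ ∈ T ↔ x ∈ T) (hT : F.hyperfocalSubgroup p ≤ T) :
    F.StronglyClosed T := by
  have key := hom_subset_of_autGroup_le hS F (stabSystem F T hH) hF (fun R hRa hRr _ => by
    have hRS := hRa.1
    obtain ⟨Sy, hSy⟩ := hRa.2
    have : Finite (MulAut R) := finite_mulAut_of_le hRS
    intro α hα
    have htop := Cfsg.Agent.Helper2.pResidual_sup_sylow_eq_top Sy
    have hmem : (⟨α, hα⟩ : F.autGroup R) ∈
        ((pResidual p (F.autGroup R) ⊔ (Sy : Subgroup (F.autGroup R)) : Subgroup (F.autGroup R)) : Set (F.autGroup R)) := by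
      rw [htop]; trivial
    rw [Subgroup.normal_mul] at hmem
    obtain ⟨β, hβ, σ, hσ, hβσ⟩ := hmem
    have hα_eq : α = (β : MulAut R) * (σ : MulAut R) := by
      have := congrArg Subtype.val hβσ
      simpa using this.symm
    rw [hα_eq]
    apply Subgroup.mul_mem
    · rw [mem_autGroup_iff _ hRS]
      refine ⟨(mem_autGroup_iff F hRS _).mp β.2, fun x => ?_⟩
      have h1 := hT (mem_hyperfocalSubgroup F p hRS β hβ x)
      have h2 : (((β : MulAut R) x : R) : Ω) = x * ((x : Ω)⁻¹ * ((β : MulAut R) x : R)) := by group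
      show (((β : MulAut R) x : R) : Ω) ∈ _ ↔ _
      rw [h2]
      exact Subgroup.mul_mem_cancel_right _ h1
    · rw [mem_autGroup_iff _ hRS]
      refine ⟨(mem_autGroup_iff F hRS _).mp σ.2, fun x => ?_⟩
      have hσ' : σ ∈ (Sy : Subgroup (F.autGroup R)) := hσ
      rw [hSy, Subgroup.mem_subgroupOf, mem_autInducedBy_iff] at hσ'
      obtain ⟨s, hsS, hs⟩ := hσ'
      show (((σ : MulAut R) x : R) : Ω) ∈ _ ↔ _
      rw [hs x]
      exact hH s hsS x)
  exact ⟨hTS, fun R hR φ hφ x => ((key R hφ).2 x).mpr (hR x.2)⟩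

/-- Restriction of the automorphisms of the system on `R` to a subgroup `U ≤ R` they all preserve. -/
def resAutHom (F : FusionSystem S) {R U : Subgroup Ω} (hRS : R ≤ S) (hUR : U ≤ R)
    (h : ∀ γ ∈ F.autGroup R, ∀ x : R, ((γ x : R) : Ω) ∈ U ↔ (x : Ω) ∈ U) : F.autGroup R →* F.autGroup U where
  toFun γ := ⟨restrictAutSub (γ : MulAut R) U hUR (h γ γ.2), by
    rw [mem_autGroup_iff F (hUR.trans hRS)]
    have hγ := (mem_autGroup_iff F hRS _).mp γ.2
    unfold IsIso at *
    exact mem_of_eq F (restrict_mem F hγ hUR) (fun x => rfl)⟩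
  map_one' := by
    apply Subtype.ext
    ext x
    rfl
  map_mul' a b := by
    apply Subtype.ext
    ext x
    rfl

theorem resAutHom_apply (F : FusionSystem S) {R U : Subgroup Ω} (hRS : R ≤ S) (hUR : U ≤ R)
    (h : ∀ γ ∈ F.autGroup R, ∀ x : R, ((γ x : R) : Ω) ∈ U ↔ (x : Ω) ∈ U) (γ : F.autGroup R) (x : U) :
    ((((resAutHom F hRS hUR h γ : F.autGroup U) : MulAut U) x : U) : Ω) =
      (((γ : MulAut R) ⟨x, hUR x.2⟩ : R) : Ω) := rfl

/-- Automorphisms of the system on `R` preserve membership in a strongly closed subgroup. -/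
theorem aut_mem_iff_of_stronglyClosed (F : FusionSystem S) {T : Subgroup Ω} (hT : F.StronglyClosed T) {R : Subgroup Ω}
    (hRS : R ≤ S) {γ : MulAut R} (hγ : γ ∈ F.autGroup R) (x : R) : ((γ x : R) : Ω) ∈ T ↔ (x : Ω) ∈ T := by
  refine ⟨fun h => ?_, fun h => aut_mem_of_stronglyClosed F hT hRS hγ x h⟩
  have := aut_mem_of_stronglyClosed F hT hRS ((F.autGroup R).inv_mem hγ) (γ x) h
  rwa [MulAut.inv_apply_self] at this

/-- The core of a subsystem of `p`-power index under `Aut_F(T)` has `p`-power index. -/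
theorem coreSystem_hasPPowerIndexIn {p : ℕ} (F : FusionSystem S) {T : Subgroup Ω}
    (E : FusionSystem T) (hEi : E.HasPPowerIndexIn F p) :
    (coreSystem E (F.autGroup T)).HasPPowerIndexIn F p := by
  have hTS : T ≤ S := le_of_isSubsystemOf F E hEi.1
  refine ⟨fun P φ hφ => hEi.1 P hφ.1, hEi.2.1, fun P hPT => ?_⟩
  rw [Subgroup.map_le_iff_le_comap]
  unfold pResidual
  rw [Subgroup.closure_le]
  intro γ hγ
  show ((γ : MulAut P)) ∈ (coreSystem E (F.autGroup T)).autGroup P
  rw [mem_autGroup_iff _ hPT]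
  have hγres : γ ∈ pResidual p (F.autGroup P) := Subgroup.subset_closure hγ
  refine ⟨(mem_autGroup_iff E hPT _).mp (hEi.2.2 P hPT (Subgroup.mem_map_of_mem _ hγres)), ?_⟩
  intro α hα hPT' P' hP'
  have hαiso : IsIso F (α : T ≃* T) := (mem_autGroup_iff F hTS α).mp hα
  have hP'eq : P' = imageSub (α : T ≃* T) P := by
    ext y
    rw [hP' y]
    constructor
    · rintro ⟨x, rfl⟩
      exact mem_imageSub (α : T ≃* T) P ⟨x, hPT x.2⟩ x.2
    · rintro ⟨x, hx, rfl⟩
      exact ⟨⟨x, hx⟩, rfl⟩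
  subst hP'eq
  have he : IsIso F (restrictIso (α : T ≃* T) hPT) := isIso_restrictIso F hαiso hPT
  have hP'T : imageSub (α : T ≃* T) P ≤ T := imageSub_le _ _
  have hγ' : autTransport F (restrictIso (α : T ≃* T) hPT) he γ ∈ pResidual p (F.autGroup _) :=
    pResidual_map_le (autTransport F _ he) (Subgroup.mem_map_of_mem _ hγres)
  have hχ := (mem_autGroup_iff E hP'T _).mp (hEi.2.2 _ hP'T (Subgroup.mem_map_of_mem _ hγ'))
  refine ⟨_, hχ, fun x hx hθx => ?_⟩
  have e1 : (⟨((α ⟨x, hPT x.2⟩ : T) : Ω), hx⟩ : imageSub (α : T ≃* T) P) = restrictIso (α : T ≃* T) hPT x :=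
    Subtype.ext rfl
  show ((((autTransport F (restrictIso (α : T ≃* T) hPT) he γ : F.autGroup _) : MulAut _)
    ⟨((α ⟨x, hPT x.2⟩ : T) : Ω), hx⟩ : imageSub (α : T ≃* T) P) : Ω) = _
  rw [e1, autTransport_apply, MulEquiv.symm_apply_apply, restrictIso_apply]
  rfl

/-- A saturated subsystem of `p`-power index is invariant under `Aut_F(T)`. -/
theorem autInv_of_pPowerIndex [Finite S] {p : ℕ} [Fact p.Prime] (hS : IsPGroup p S) (F : FusionSystem S)
    {T : Subgroup Ω} (E : FusionSystem T) (hEs : E.IsSaturated p) (hEi : E.HasPPowerIndexIn F p) :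
    AutInv E (F.autGroup T) := by
  have hTS : T ≤ S := le_of_isSubsystemOf F E hEi.1
  have : Finite T := finite_of_le hTS
  have hTp : IsPGroup p T := hS.to_le hTS
  apply autInv_of_le_core
  exact hom_subset_of_autGroup_le hTp E (coreSystem E (F.autGroup T)) hEs
    (fun R hRa _ _ => autGroup_le_of_pPowerIndex F E _ hEi (coreSystem_hasPPowerIndexIn F E hEi) hRa)

/-- Conjugation by an element of `S` on a subgroup of the strongly closed `T` has the Frattini property. -/
theorem fr_conj (F : FusionSystem S) {T : Subgroup Ω} (E : FusionSystem T) (hT : F.StronglyClosed T)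
    {P : Subgroup Ω} (hPT : P ≤ T) {g : Ω} (hg : g ∈ S) {φ : P →* Ω} (hφ : ∀ x : P, φ x = g * (x : Ω) * g⁻¹) :
    Fr E F φ := by
  have hgN : g ∈ Subgroup.normalizer (T : Set Ω) := le_normalizer_of_stronglyClosed F hT hg
  refine ⟨conjAut T g hgN, (mem_autGroup_iff F hT.1 _).mpr (isIso_conjAut F hT.1 hg hgN), P.subtype,
    subtype_mem E hPT, fun x hx => ?_⟩
  rw [hφ x]
  rfl

/-- The system over `S` of the maps of `F` all of whose restrictions to subgroups of `T` have the Frattini property. -/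
def frSystem (F : FusionSystem S) {T : Subgroup Ω} (E : FusionSystem T) (hT : F.StronglyClosed T)
    (hAI : AutInv E (F.autGroup T)) : FusionSystem S where
  Hom Q := {ψ | ψ ∈ F.Hom Q ∧
    ∀ (P : Subgroup Ω) (hPQ : P ≤ Q), P ≤ T → Fr E F (ψ.comp (Subgroup.inclusion hPQ))}
  le_of_mem h := F.le_of_mem h.1
  injective_of_mem h := F.injective_of_mem h.1
  conj_mem hQ hg := ⟨F.conj_mem hQ hg, fun P hPQ hPT => fr_conj F E hT hPT hg (fun x => rfl)⟩
  comp_mem := by
    intro Q Q' ψ₁ ψ₂ h₁ h₂ h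
    refine ⟨F.comp_mem h₁.1 h₂.1 h, fun P hPQ hPT => ?_⟩
    have f₁ := h₁.2 P hPQ hPT
    have hφ : ψ₁.comp (Subgroup.inclusion hPQ) ∈ F.Hom P := restrict_mem F h₁.1 hPQ
    have hP₁Q' : (ψ₁.comp (Subgroup.inclusion hPQ)).range ≤ Q' := by
      rintro _ ⟨x, rfl⟩
      exact h _
    have hP₁T : (ψ₁.comp (Subgroup.inclusion hPQ)).range ≤ T := by
      rintro _ ⟨x, rfl⟩
      exact hT.2 P hPT _ hφ x
    have f₂ := h₂.2 _ hP₁Q' hP₁T
    have f := fr_comp hAI f₁ (fun x => (⟨x, rfl⟩ : _ ∈ (ψ₁.comp (Subgroup.inclusion hPQ)).range)) f₂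
    exact f.congr (fun x => rfl)
  inv_mem := by
    intro Q ψ hψ
    obtain ⟨ρ, hρ, hρx⟩ := F.inv_mem hψ.1
    refine ⟨ρ, ⟨hρ, fun P' hP'R hP'T => ?_⟩, hρx⟩
    have hρ' : ρ.comp (Subgroup.inclusion hP'R) ∈ F.Hom P' := restrict_mem F hρ hP'R
    have hval : ∀ (y : P') (x : Q), ψ x = (y : Ω) → (ρ.comp (Subgroup.inclusion hP'R)) y = (x : Ω) := by
      intro y x hx
      have e : Subgroup.inclusion hP'R y = ⟨ψ x, ⟨x, rfl⟩⟩ := Subtype.ext hx.symm
      show ρ (Subgroup.inclusion hP'R y) = _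
      rw [e, hρx]
    have hPQ : (ρ.comp (Subgroup.inclusion hP'R)).range ≤ Q := by
      rintro _ ⟨y, rfl⟩
      obtain ⟨x, hx⟩ := hP'R y.2
      rw [hval y x hx]
      exact x.2
    have hPT : (ρ.comp (Subgroup.inclusion hP'R)).range ≤ T := by
      rintro _ ⟨y, rfl⟩
      exact hT.2 P' hP'T _ hρ' y
    have f₁ := hψ.2 _ hPQ hPT
    have hφR : (ψ.comp (Subgroup.inclusion hPQ)).range ≤ ψ.range := by
      rintro _ ⟨x, rfl⟩
      exact ⟨_, rfl⟩
    have hEq : (ψ.comp (Subgroup.inclusion hPQ)).range = P' := by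
      ext y
      constructor
      · rintro ⟨⟨z, ⟨w, rfl⟩⟩, rfl⟩
        obtain ⟨x, hx⟩ := hP'R w.2
        have hz : (ρ.comp (Subgroup.inclusion hP'R)) w = (x : Ω) := hval w x hx
        have e : (⟨(ρ.comp (Subgroup.inclusion hP'R)) w, ⟨w, rfl⟩⟩ :
            (ρ.comp (Subgroup.inclusion hP'R)).range) = ⟨x, by rw [← hz]; exact ⟨w, rfl⟩⟩ := Subtype.ext hz
        rw [e]
        show ψ x ∈ P'
        rw [hx]
        exact w.2
      · intro hy
        obtain ⟨x, hx⟩ := hP'R hy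
        have hz : (ρ.comp (Subgroup.inclusion hP'R)) ⟨y, hy⟩ = (x : Ω) := hval ⟨y, hy⟩ x hx
        refine ⟨⟨x, by rw [← hz]; exact ⟨_, rfl⟩⟩, ?_⟩
        exact hx
    have f₂ : Fr E F (ρ.comp (Subgroup.inclusion hφR)) :=
      fr_inv hAI f₁ (fun x => hρx (Subgroup.inclusion hPQ x))
    exact fr_of_eq hEq (fun y hA hB => rfl) f₂

/-- The Frattini condition for an invariant subsystem of `p`-power index over a strongly closed subgroup. -/
theorem frattini_of_pPowerIndex [Finite S] {p : ℕ} [Fact p.Prime] (hS : IsPGroup p S) (F : FusionSystem S)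
    (hF : F.IsSaturated p) {T : Subgroup Ω} (E : FusionSystem T) (hT : F.StronglyClosed T)
    (hEi : E.HasPPowerIndexIn F p) (hAI : AutInv E (F.autGroup T)) :
    ∀ P : Subgroup Ω, P ≤ T → ∀ φ ∈ F.Hom P, Fr E F φ := by
  have key := hom_subset_of_autGroup_le hS F (frSystem F E hT hAI) hF (fun R hRa hRr _ => by
    have hRS := hRa.1
    obtain ⟨Sy, hSy⟩ := hRa.2
    have : Finite (MulAut R) := finite_mulAut_of_le hRS
    intro α hα
    have htop := Cfsg.Agent.Helper2.pResidual_sup_sylow_eq_top Sy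
    have hmem : (⟨α, hα⟩ : F.autGroup R) ∈
        ((pResidual p (F.autGroup R) ⊔ (Sy : Subgroup (F.autGroup R)) : Subgroup (F.autGroup R)) : Set (F.autGroup R)) := by
      rw [htop]; trivial
    rw [Subgroup.normal_mul] at hmem
    obtain ⟨β, hβ, σ, hσ, hβσ⟩ := hmem
    have hα_eq : α = (β : MulAut R) * (σ : MulAut R) := by
      have := congrArg Subtype.val hβσ
      simpa using this.symm
    rw [hα_eq]
    apply Subgroup.mul_mem
    · rw [mem_autGroup_iff _ hRS]
      refine ⟨(mem_autGroup_iff F hRS _).mp β.2, fun P hPR hPT => ?_⟩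
      have hinv : ∀ γ ∈ F.autGroup R, ∀ x : R, ((γ x : R) : Ω) ∈ R ⊓ T ↔ (x : Ω) ∈ R ⊓ T := by
        intro γ hγ x
        constructor
        · intro h
          exact ⟨x.2, (aut_mem_iff_of_stronglyClosed F hT hRS hγ x).mp h.2⟩
        · intro h
          exact ⟨(γ x).2, (aut_mem_iff_of_stronglyClosed F hT hRS hγ x).mpr h.2⟩
      have h1 : resAutHom F hRS inf_le_left hinv β ∈ pResidual p (F.autGroup (R ⊓ T)) :=
        pResidual_map_le (resAutHom F hRS inf_le_left hinv) (Subgroup.mem_map_of_mem _ hβ)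
      have h2 : ((resAutHom F hRS inf_le_left hinv β : F.autGroup (R ⊓ T)) : MulAut ↥(R ⊓ T)) ∈
          E.autGroup (R ⊓ T) := hEi.2.2 _ inf_le_right (Subgroup.mem_map_of_mem _ h1)
      have h3 := (mem_autGroup_iff E inf_le_right _).mp h2
      have h4 := restrict_mem E h3 (le_inf hPR hPT : P ≤ R ⊓ T)
      exact (Fr.of_mem h4).congr (fun x => rfl)
    · have hσ' : σ ∈ (Sy : Subgroup (F.autGroup R)) := hσ
      rw [hSy, Subgroup.mem_subgroupOf, mem_autInducedBy_iff] at hσ'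
      obtain ⟨s, hsS, hs⟩ := hσ'
      rw [mem_autGroup_iff _ hRS]
      exact ⟨(mem_autGroup_iff F hRS _).mp σ.2, fun P hPR hPT =>
        fr_conj F E hT hPT hsS (fun x => hs (Subgroup.inclusion hPR x))⟩)
  intro P hPT φ hφ
  have := (key P hφ).2 P le_rfl hPT
  exact this.congr (fun x => rfl)

/-- The centralizer of `R` in `S` lies in every extender of `R`. -/
theorem centralizerIn_le_extender (R : Subgroup Ω) (φ : R →* Ω) : centralizerIn S R ≤ extender S R φ := by
  intro g hg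
  rw [mem_extender_iff]
  have hcomm : ∀ x : R, g * (x : Ω) * g⁻¹ = x := by
    intro x
    have := Subgroup.mem_centralizer_iff.mp hg.2 x x.2
    rw [← this]
    group
  refine ⟨hg.1, ?_, 1, S.one_mem, fun x hx => ?_⟩
  · exact Subgroup.centralizer_le_normalizer _ hg.2
  · have e : (⟨g * (x : Ω) * g⁻¹, hx⟩ : R) = x := Subtype.ext (hcomm x)
    rw [e]
    simp

/-- A strongly closed subgroup is fully normalized. -/
theorem isFullyNormalized_of_stronglyClosed [Finite S] (F : FusionSystem S) {T : Subgroup Ω}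
    (hT : F.StronglyClosed T) : F.IsFullyNormalized T := by
  refine ⟨hT.1, fun Q hQ => ?_⟩
  obtain ⟨φ, hφ, rfl⟩ := hQ
  have : Finite T := finite_of_le hT.1
  have hle : φ.range ≤ T := by
    rintro _ ⟨x, rfl⟩
    exact hT.2 T le_rfl φ hφ x
  have hcard : Nat.card φ.range = Nat.card T := card_range_eq_of_mem F hφ
  have hEq : φ.range = T := Subgroup.eq_of_le_of_card_ge hle (le_of_eq hcard.symm)
  rw [hEq]

/-- Every automorphism of the system on a strongly closed `T` is the restriction of an automorphism on `T C_S(T)`. -/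
theorem resAutHom_surjective [Finite S] {p : ℕ} [Fact p.Prime] (hS : IsPGroup p S) (F : FusionSystem S)
    (hF : F.IsSaturated p) {T : Subgroup Ω} (hT : F.StronglyClosed T)
    (hTCS : T ⊔ centralizerIn S T ≤ S)
    (hinv : ∀ γ ∈ F.autGroup (T ⊔ centralizerIn S T), ∀ x : ↥(T ⊔ centralizerIn S T),
      ((γ x : ↥(T ⊔ centralizerIn S T)) : Ω) ∈ T ↔ (x : Ω) ∈ T) :
    Function.Surjective (resAutHom F hTCS le_sup_left hinv) := by
  have hTS : T ≤ S := hT.1
  have hTC : F.StronglyClosed (T ⊔ centralizerIn S T) := stronglyClosed_sup_centralizerIn hS F hF hT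
  have hfn := isFullyNormalized_of_stronglyClosed F hT
  have hc := (fullyAutomized_fullyCentralized_of_fullyNormalized hS F hF hfn).1
  have hTr := receptive_of_fullyCentralized hS F hF hc
  intro ν
  have hν := (mem_autGroup_iff F hTS _).mp ν.2
  obtain ⟨ψ, hψ, hψx⟩ := hTr.2 T _ hν (range_subtype_comp_equiv ((ν : MulAut T) : T ≃* T))
  have hle : T ⊔ centralizerIn S T ≤ extender S T (T.subtype.comp ((ν : MulAut T) : T ≃* T).toMonoidHom) :=
    sup_le (le_extender_of_aut hTS _) (centralizerIn_le_extender T _)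
  have hψ' : ψ.comp (Subgroup.inclusion hle) ∈ F.Hom (T ⊔ centralizerIn S T) := restrict_mem F hψ hle
  have hψ'TC : ∀ x, (ψ.comp (Subgroup.inclusion hle)) x ∈ T ⊔ centralizerIn S T :=
    hTC.2 _ le_rfl _ hψ'
  have : Finite ↥(T ⊔ centralizerIn S T) := finite_of_le hTCS
  have hinj : Function.Injective ((ψ.comp (Subgroup.inclusion hle)).codRestrict _ hψ'TC) := by
    intro a b hab
    exact F.injective_of_mem hψ' (congrArg Subtype.val hab)
  let β₀ : MulAut ↥(T ⊔ centralizerIn S T) :=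
    MulEquiv.ofBijective ((ψ.comp (Subgroup.inclusion hle)).codRestrict _ hψ'TC)
      ⟨hinj, Finite.injective_iff_surjective.mp hinj⟩
  have hβ₀ : β₀ ∈ F.autGroup (T ⊔ centralizerIn S T) := by
    rw [mem_autGroup_iff F hTCS]
    unfold IsIso
    exact mem_of_eq F hψ' (fun x => rfl)
  refine ⟨⟨β₀, hβ₀⟩, ?_⟩
  apply Subtype.ext
  ext x
  rw [resAutHom_apply]
  show ψ (Subgroup.inclusion hle ⟨x, _⟩) = _
  exact hψx x x.2 _

/-- The extension condition for a saturated subsystem of `p`-power index over a strongly closed subgroup. -/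
theorem extension_of_pPowerIndex [Finite S] {p : ℕ} [Fact p.Prime] (hS : IsPGroup p S) (F : FusionSystem S)
    (hF : F.IsSaturated p) {T : Subgroup Ω} (E : FusionSystem T) (hT : F.StronglyClosed T)
    (hEs : E.IsSaturated p) (hEi : E.HasPPowerIndexIn F p) :
    ∀ α ∈ E.autGroup T, ∃ β ∈ F.autGroup (T ⊔ centralizerIn S T),
      (∀ x : T, ((β (Subgroup.inclusion le_sup_left x) : ↥(T ⊔ centralizerIn S T)) : Ω) = ((α x : T) : Ω)) ∧
      ∀ c : ↥(T ⊔ centralizerIn S T), (c : Ω) ∈ centralizerIn S T →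
        (c : Ω)⁻¹ * ((β c : ↥(T ⊔ centralizerIn S T)) : Ω) ∈ T ⊓ Subgroup.centralizer (T : Set Ω) := by
  have hTS : T ≤ S := hT.1
  have hfinT : Finite T := finite_of_le hTS
  have hTC : F.StronglyClosed (T ⊔ centralizerIn S T) := stronglyClosed_sup_centralizerIn hS F hF hT
  have hTCS : T ⊔ centralizerIn S T ≤ S := hTC.1
  have hinv : ∀ γ ∈ F.autGroup (T ⊔ centralizerIn S T), ∀ x : ↥(T ⊔ centralizerIn S T),
      ((γ x : ↥(T ⊔ centralizerIn S T)) : Ω) ∈ T ↔ (x : Ω) ∈ T :=
    fun γ hγ x => aut_mem_iff_of_stronglyClosed F hT hTCS hγ x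
  have hsurj := resAutHom_surjective hS F hF hT hTCS hinv
  -- `T` is fully automized in `E`
  obtain ⟨R, hTR, hRa, -⟩ := hEs T le_rfl
  have hRT : R = T := by
    obtain ⟨φ, hφ, rfl⟩ := hTR
    have hle : φ.range ≤ T := by
      rintro _ ⟨x, rfl⟩
      exact (E.le_of_mem hφ).2 x
    exact Subgroup.eq_of_le_of_card_ge hle (le_of_eq (card_range_eq_of_mem E hφ).symm)
  subst hRT
  obtain ⟨Sy, hSy⟩ := hRa.2
  have : Finite (MulAut R) := finite_mulAut_of_le hTS
  have : Finite (MulAut ↥(R ⊔ centralizerIn S R)) := finite_mulAut_of_le hTCS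
  intro α hα
  have htop := Cfsg.Agent.Helper2.pResidual_sup_sylow_eq_top Sy
  have hmem : (⟨α, hα⟩ : E.autGroup R) ∈
      ((pResidual p (E.autGroup R) ⊔ (Sy : Subgroup (E.autGroup R)) : Subgroup (E.autGroup R)) : Set (E.autGroup R)) := by
    rw [htop]; trivial
  rw [Subgroup.normal_mul] at hmem
  obtain ⟨ν₀, hν₀, σ, hσ, hνσ⟩ := hmem
  have hα_eq : α = (ν₀ : MulAut R) * (σ : MulAut R) := by
    have := congrArg Subtype.val hνσ
    simpa using this.symm
  have hσ' : σ ∈ (Sy : Subgroup (E.autGroup R)) := hσ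
  rw [hSy, Subgroup.mem_subgroupOf, mem_autInducedBy_iff] at hσ'
  obtain ⟨t, htT, ht⟩ := hσ'
  have hleEF : E.autGroup R ≤ F.autGroup R := autGroup_le_of_isSubsystemOf F E hEi.1 le_rfl
  have hν₁ : Subgroup.inclusion hleEF ν₀ ∈ pResidual p (F.autGroup R) :=
    pResidual_map_le (Subgroup.inclusion hleEF) (Subgroup.mem_map_of_mem _ hν₀)
  rw [← pResidual_map_eq hsurj] at hν₁
  obtain ⟨β₁, hβ₁, hβ₁ν⟩ := hν₁
  have htN : t ∈ Subgroup.normalizer ((R ⊔ centralizerIn S R : Subgroup Ω) : Set Ω) :=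
    le_normalizer_of_stronglyClosed F hTC (hTS htT)
  have hβ₁x : ∀ x : R, ((((β₁ : MulAut ↥(R ⊔ centralizerIn S R)) (Subgroup.inclusion le_sup_left x) :
      ↥(R ⊔ centralizerIn S R))) : Ω) = (((ν₀ : MulAut R) x : R) : Ω) := by
    intro x
    have h1 := resAutHom_apply F hTCS le_sup_left hinv β₁ x
    rw [hβ₁ν] at h1
    exact h1.symm
  refine ⟨(β₁ : MulAut ↥(R ⊔ centralizerIn S R)) * conjAut _ t htN,
    (F.autGroup _).mul_mem β₁.2 ((mem_autGroup_iff F hTCS _).mpr (isIso_conjAut F hTCS (hTS htT) htN)), ?_, ?_⟩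
  · intro x
    rw [MulAut.mul_apply, hα_eq, MulAut.mul_apply]
    have e : conjAut (R ⊔ centralizerIn S R) t htN (Subgroup.inclusion le_sup_left x) =
        Subgroup.inclusion le_sup_left ((σ : MulAut R) x) := Subtype.ext (ht x).symm
    rw [e, hβ₁x]
  · intro c hc
    have hct : conjAut (R ⊔ centralizerIn S R) t htN c = c := by
      apply Subtype.ext
      rw [conjAut_apply]
      have := Subgroup.mem_centralizer_iff.mp hc.2 t htT
      rw [this]
      group
    rw [MulAut.mul_apply, hct]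
    refine ⟨hEi.2.1 (mem_hyperfocalSubgroup F p hTCS β₁ hβ₁ c), ?_⟩
    apply Subgroup.mul_mem _ (Subgroup.inv_mem _ hc.2)
    rw [Subgroup.mem_centralizer_iff]
    intro y hy
    have hβinv : (β₁ : MulAut ↥(R ⊔ centralizerIn S R))⁻¹ ∈ F.autGroup (R ⊔ centralizerIn S R) :=
      (F.autGroup _).inv_mem β₁.2
    have hy' := (hinv _ hβinv ⟨y, Subgroup.mem_sup_left hy⟩).mpr hy
    have e1 : (β₁ : MulAut ↥(R ⊔ centralizerIn S R))
        ((β₁ : MulAut ↥(R ⊔ centralizerIn S R))⁻¹ ⟨y, Subgroup.mem_sup_left hy⟩) =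
        ⟨y, Subgroup.mem_sup_left hy⟩ := by simp
    have hcomm : (β₁ : MulAut ↥(R ⊔ centralizerIn S R))⁻¹ ⟨y, Subgroup.mem_sup_left hy⟩ * c =
        c * (β₁ : MulAut ↥(R ⊔ centralizerIn S R))⁻¹ ⟨y, Subgroup.mem_sup_left hy⟩ :=
      Subtype.ext (Subgroup.mem_centralizer_iff.mp hc.2 _ hy')
    have := congrArg (fun z : ↥(R ⊔ centralizerIn S R) =>
      (((β₁ : MulAut ↥(R ⊔ centralizerIn S R)) z : ↥(R ⊔ centralizerIn S R)) : Ω)) hcomm
    simp only [map_mul, Subgroup.coe_mul, e1] at this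
    exact this

end Cfsg.Agent.Helper85
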