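import Cfsg.Agent.Helper85.HyperfocalNormal
import Cfsg.Prelude.Def_FusionReduction
set_option autoImplicit false

namespace Cfsg.Agent.Helper85

open Cfsg Cfsg.FusionSystem Cfsg.Agent.Helper87 Cfsg.Agent.Helper88.FS

universe u

variable {Ω : Type u} [Group Ω]

/-- Two fusion systems (over possibly different subgroups) have the same maps. -/
def SameHom {X Y : Subgroup Ω} (A : FusionSystem X) (B : FusionSystem Y) : Prop :=
  ∀ P : Subgroup Ω, A.Hom P = B.Hom P

theorem SameHom.symm {X Y : Subgroup Ω} {A : FusionSystem X} {B : FusionSystem Y} (h : SameHom A B) :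
    SameHom B A := fun P => (h P).symm

theorem SameHom.trans {X Y Z : Subgroup Ω} {A : FusionSystem X} {B : FusionSystem Y} {C : FusionSystem Z}
    (h : SameHom A B) (h' : SameHom B C) : SameHom A C := fun P => (h P).trans (h' P)

theorem SameHom.eq_group {X Y : Subgroup Ω} {A : FusionSystem X} {B : FusionSystem Y} (h : SameHom A B) :
    X = Y := by
  apply le_antisymm
  · have h1 : X.subtype ∈ B.Hom X := by rw [← h X]; exact subtype_mem A le_rfl
    exact (B.le_of_mem h1).1
  · have h1 : Y.subtype ∈ A.Hom Y := by rw [h Y]; exact subtype_mem B le_rfl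
    exact (A.le_of_mem h1).1

theorem sameHom_pResidual {p : ℕ} [Fact p.Prime] {X Y : Subgroup Ω} {A : FusionSystem X} {B : FusionSystem Y}
    (hfin : Finite X) (hX : IsPGroup p X) (h : SameHom A B) {D₁ : FusionSystem (A.hyperfocalSubgroup p)}
    {D₂ : FusionSystem (B.hyperfocalSubgroup p)} (h₁ : A.IsPResidual p D₁) (h₂ : B.IsPResidual p D₂) :
    SameHom D₁ D₂ := by
  obtain rfl := h.eq_group
  obtain rfl : A = B := fusionSystem_ext h
  intro P
  exact hom_eq_of_pPowerIndex hX A D₁ D₂ h₁.1 h₂.1 h₁.2 h₂.2 P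

theorem sameHom_pPrimeResidual {p : ℕ} {X Y : Subgroup Ω} {A : FusionSystem X} {B : FusionSystem Y}
    (h : SameHom A B) {A' : FusionSystem X} {B' : FusionSystem Y} (h₁ : A.IsPPrimeResidual p A')
    (h₂ : B.IsPPrimeResidual p B') : SameHom A' B' := by
  obtain rfl := h.eq_group
  obtain rfl : A = B := fusionSystem_ext h
  intro P
  exact Set.Subset.antisymm (h₁.2.2 B' h₂.1 h₂.2.1 P) (h₂.2.2 A' h₁.1 h₁.2.1 P)

theorem hasPPowerIndexIn_self {X : Subgroup Ω} (A : FusionSystem X) (p : ℕ) : A.HasPPowerIndexIn A p :=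
  ⟨fun _ _ h => h, hyperfocalSubgroup_le A p, fun _ _ => Subgroup.map_subtype_le _⟩

/-- A stable system is the residual limit of every system with the same maps. -/
theorem sameHom_of_stable {p : ℕ} {Y Z : Subgroup Ω} {G : FusionSystem Y} {B : FusionSystem Z}
    (h₂ : IsResidualLimitOf B G p) : p.Prime → Finite Y → IsPGroup p Y → ∀ {X : Subgroup Ω} (A : FusionSystem X),
      A.hyperfocalSubgroup p = X → A.IsPPrimeResidual p A → SameHom A G → SameHom A B := by
  induction h₂ with
  | stable G p hG1 hG2 =>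
    intro _ _ _ X A _ _ h
    exact h
  | step G p D D' hD hD' hlim ih =>
    intro hpp hfin hp X A hA1 hA2 h
    have : Fact p.Prime := ⟨hpp⟩
    obtain rfl := h.eq_group
    obtain rfl : A = G := fusionSystem_ext h
    have hDA : SameHom D A := fun P =>
      hom_eq_of_pPowerIndex' hp A hA1 D A hD.1 hA2.1 hD.2 (hasPPowerIndexIn_self A p) P
    have hD'A : SameHom D' A := sameHom_pPrimeResidual hDA hD' hA2
    have hle : A.hyperfocalSubgroup p ≤ X := hyperfocalSubgroup_le A p
    exact ih hpp (Finite.of_injective (Subgroup.inclusion hle) (Subgroup.inclusion_injective hle))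
      (hp.to_le hle) A hA1 hA2 hD'A.symm

/-- Residual limits of systems with the same maps have the same maps. -/
theorem sameHom_residualLimit {p : ℕ} {X U : Subgroup Ω} {F : FusionSystem X} {A : FusionSystem U}
    (h₁ : IsResidualLimitOf A F p) : p.Prime → Finite X → IsPGroup p X → ∀ {Y V : Subgroup Ω} {G : FusionSystem Y}
      {B : FusionSystem V}, IsResidualLimitOf B G p → SameHom F G → SameHom A B := by
  induction h₁ with
  | stable F p hF1 hF2 =>
    intro hpp hfin hp Y V G B h₂ h
    have hXY := h.eq_group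
    subst hXY
    exact sameHom_of_stable h₂ hpp hfin hp F hF1 hF2 h
  | step F p D D' hD hD' hlim ih =>
    intro hpp hfin hp Y V G B h₂ h
    have : Fact p.Prime := ⟨hpp⟩
    have hle : F.hyperfocalSubgroup p ≤ _ := hyperfocalSubgroup_le F p
    cases h₂ with
    | stable _ _ hG1 hG2 =>
      have hXY := h.eq_group
      subst hXY
      exact (sameHom_of_stable (IsResidualLimitOf.step F p D D' hD hD' hlim) hpp hfin hp G hG1 hG2 h.symm).symm
    | step _ _ E E' hE hE' hlim₂ =>
      have h1 : SameHom D E := sameHom_pResidual hfin hp h hD hE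
      have h2 : SameHom D' E' := sameHom_pPrimeResidual h1 hD' hE'
      exact ih hpp (Finite.of_injective (Subgroup.inclusion hle) (Subgroup.inclusion_injective hle))
        (hp.to_le hle) hlim₂ h2

/-- The hyperfocal subgroup is monotone in the fusion system. -/
theorem hyperfocalSubgroup_mono {S : Subgroup Ω} (F : FusionSystem S) {T : Subgroup Ω} (E : FusionSystem T)
    (h : E.IsSubsystemOf F) (p : ℕ) : E.hyperfocalSubgroup p ≤ F.hyperfocalSubgroup p := by
  have hTS : T ≤ S := le_of_isSubsystemOf F E h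
  conv_lhs => unfold hyperfocalSubgroup
  rw [Subgroup.closure_le]
  rintro y ⟨P, α, x, hPT, hα, rfl⟩
  have hle : E.autGroup P ≤ F.autGroup P := autGroup_le_of_isSubsystemOf F E h hPT
  have hmem : Subgroup.inclusion hle α ∈ pResidual p (F.autGroup P) :=
    pResidual_map_le (Subgroup.inclusion hle) (Subgroup.mem_map_of_mem _ hα)
  exact mem_hyperfocalSubgroup F p (hPT.trans hTS) (Subgroup.inclusion hle α) hmem x

theorem pResidual_map_subtype_mono {M : Type*} [Group M] {p : ℕ} {A B : Subgroup M}
    (h : (pResidual p A).map A.subtype ≤ B) :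
    (pResidual p A).map A.subtype ≤ (pResidual p B).map B.subtype := by
  intro m hm
  have hgen : pResidual p A ≤ ((pResidual p B).map B.subtype).comap A.subtype := by
    unfold pResidual
    rw [Subgroup.closure_le]
    intro a ha
    have haB : (a : M) ∈ B := h (Subgroup.mem_map_of_mem _ (Subgroup.subset_closure ha))
    refine ⟨⟨a, haB⟩, Subgroup.subset_closure ?_, rfl⟩
    show Nat.Coprime (orderOf (⟨a, haB⟩ : B)) p
    have h1 : orderOf (⟨a, haB⟩ : B) = orderOf (a : M) := (Subgroup.orderOf_coe (⟨a, haB⟩ : B)).symm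
    have h2 : orderOf (a : M) = orderOf a := Subgroup.orderOf_coe a
    rw [h1, h2]
    exact ha
  obtain ⟨a, ha, rfl⟩ := hm
  exact hgen ha

/-- The `p`-residual of a subsystem of `p`-power index with the same hyperfocal subgroup has `p`-power index in
the big system. -/
theorem hasPPowerIndexIn_trans {S : Subgroup Ω} {p : ℕ} (F : FusionSystem S) {T : Subgroup Ω} (E : FusionSystem T)
    (hidx : E.HasPPowerIndexIn F p) {W : Subgroup Ω} (D : FusionSystem W) (hD : D.HasPPowerIndexIn E p)
    (hW : F.hyperfocalSubgroup p ≤ W) : D.HasPPowerIndexIn F p := by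
  have hWT : W ≤ T := le_of_isSubsystemOf E D hD.1
  refine ⟨fun P φ hφ => hidx.1 P (hD.1 P hφ), hW, fun P hPW => ?_⟩
  have h1 : (pResidual p (F.autGroup P)).map (F.autGroup P).subtype ≤ E.autGroup P := hidx.2.2 P (hPW.trans hWT)
  exact (pResidual_map_subtype_mono h1).trans (hD.2.2 P hPW)

theorem residualLimit_of_normal_pPowerIndex {S : Subgroup Ω} [Finite S] (p : ℕ) [Fact p.Prime] (hS : IsPGroup p S)
    (F : FusionSystem S) (hF : F.IsSaturated p) {T : Subgroup Ω} (E : FusionSystem T) (hE : E.IsNormalIn F p)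
    (hidx : E.HasPPowerIndexIn F p) {U V : Subgroup Ω} (Finf : FusionSystem U)
    (hFinf : Finf.IsResidualLimitOf F p) (Einf : FusionSystem V) (hEinf : Einf.IsResidualLimitOf E p) :
    SameHom Finf Einf := by
  have hpp : p.Prime := Fact.out
  have hTS : T ≤ S := le_of_isSubsystemOf F E hidx.1
  have hfinT : Finite T := finite_of_le hTS
  have hT : IsPGroup p T := hS.to_le hTS
  have hEs : E.IsSaturated p := hE.1.1
  have hle1 : F.hyperfocalSubgroup p ≤ E.hyperfocalSubgroup p :=
    hyperfocalSubgroup_le_of_isInvariantIn hS F E hEs hE.1.2.2 hidx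
  have hle2 : E.hyperfocalSubgroup p ≤ F.hyperfocalSubgroup p := hyperfocalSubgroup_mono F E hidx.1 p
  have hhyp : E.hyperfocalSubgroup p = F.hyperfocalSubgroup p := le_antisymm hle2 hle1
  have hHS : F.hyperfocalSubgroup p ≤ S := hyperfocalSubgroup_le F p
  have hfinH : Finite (F.hyperfocalSubgroup p) := finite_of_le hHS
  have hpH : IsPGroup p (F.hyperfocalSubgroup p) := hS.to_le hHS
  cases hFinf with
  | stable _ _ hF1 hF2 =>
    have hST : S ≤ T := by
      have := hidx.2.1
      rw [hF1] at this
      exact this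
    have hTS' : T = S := le_antisymm hTS hST
    have hEF : SameHom E F := fun P =>
      hom_eq_of_pPowerIndex' hS F hTS' E F hEs hF hidx (hasPPowerIndexIn_self F p) P
    exact (sameHom_residualLimit hEinf hpp hfinT hT (IsResidualLimitOf.stable F p hF1 hF2) hEF).symm
  | step _ _ D D' hD hD' hlim =>
    cases hEinf with
    | stable _ _ hE1 hE2 =>
      have hFT : F.hyperfocalSubgroup p = T := hhyp.symm.trans hE1
      have hDE : SameHom D E := fun P => hom_eq_of_pPowerIndex' hS F hFT D E hD.1 hEs hD.2 hidx P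
      have hD'E : SameHom D' E := sameHom_pPrimeResidual hDE hD' hE2
      exact sameHom_residualLimit hlim hpp hfinH hpH (IsResidualLimitOf.stable E p hE1 hE2) hD'E
    | step _ _ DE DE' hDE hDE' hlimE =>
      have hDEF : DE.HasPPowerIndexIn F p := hasPPowerIndexIn_trans F E hidx DE hDE.2 hle1
      have h1 : SameHom D DE := fun P =>
        hom_eq_of_pPowerIndex' hS F hhyp.symm D DE hD.1 hDE.1 hD.2 hDEF P
      have h2 : SameHom D' DE' := sameHom_pPrimeResidual h1 hD' hDE'
      exact sameHom_residualLimit hlim hpp hfinH hpH hlimE h2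

end Cfsg.Agent.Helper85
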