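import Mathlib

/-!
# (EIG) piece of helper80's farm for S2372/S2375

For a prime `ℓ ∤ m q` the kernel of `1 - q M` modulo `ℓ` (acting on row vectors) has at most `ℓ`
elements, when the characteristic polynomial of `M` is the `m`-th cyclotomic polynomial.
-/

set_option autoImplicit false
set_option linter.unusedVariables false

namespace Cfsg.Agent.Helper85.Tor

open Polynomial

/-- (EIG) for a prime `ℓ ∤ m q` the kernel of `1 - q M` mod `ℓ` (acting on row vectors) has at most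
`ℓ` elements -/
theorem card_ker_mod_le {l m q ℓ : ℕ} [Fact ℓ.Prime] (hm : 0 < m) (hℓm : ¬ ℓ ∣ m) (hℓq : ¬ ℓ ∣ q)
    (M : Matrix (Fin l) (Fin l) ℤ) (hchar : M.charpoly = cyclotomic m ℤ) :
    Nat.card {u : Fin l → ZMod ℓ //
      Matrix.vecMul u ((1 - (q : ℤ) • M).map (Int.cast : ℤ → ZMod ℓ)) = 0} ≤ ℓ := by
  classical
  have hNZ : NeZero ((m : ℕ) : ZMod ℓ) := ⟨by
    intro h
    exact hℓm ((ZMod.natCast_eq_zero_iff m ℓ).1 h)⟩
  have hq0 : ((q : ℕ) : ZMod ℓ) ≠ 0 := by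
    intro h
    exact hℓq ((ZMod.natCast_eq_zero_iff q ℓ).1 h)
  -- reduction of `M` modulo `ℓ`
  set Mb : Matrix (Fin l) (Fin l) (ZMod ℓ) := M.map (Int.castRingHom (ZMod ℓ)) with hMb
  have hB : (1 - (q : ℤ) • M).map (Int.cast : ℤ → ZMod ℓ) = 1 - (q : ZMod ℓ) • Mb := by
    ext i j
    rw [Matrix.map_apply, Matrix.sub_apply, Matrix.sub_apply, Matrix.smul_apply, Matrix.smul_apply,
      hMb, Matrix.map_apply, Matrix.one_apply, Matrix.one_apply]
    by_cases hij : i = j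
    · simp [hij]
    · simp [hij]
  -- the endomorphism `u ↦ u ᵥ* Mb`
  set φ : Module.End (ZMod ℓ) (Fin l → ZMod ℓ) := Matrix.toLin' Mb.transpose with hφ
  have hφu : ∀ u : Fin l → ZMod ℓ, φ u = Matrix.vecMul u Mb := by
    intro u
    rw [hφ, Matrix.toLin'_apply, Matrix.mulVec_transpose]
  have hcharφ : φ.charpoly = cyclotomic m (ZMod ℓ) := by
    rw [hφ, Matrix.charpoly_toLin', Matrix.charpoly_transpose, hMb, Matrix.charpoly_map, hchar,
      map_cyclotomic_int]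
  have hsep : (cyclotomic m (ZMod ℓ)).Separable := separable_cyclotomic m (ZMod ℓ)
  set lam : ZMod ℓ := ((q : ℕ) : ZMod ℓ)⁻¹ with hlam
  have hfr : Module.finrank (ZMod ℓ) (φ.eigenspace lam) ≤ 1 := by
    have h1 := LinearMap.finrank_eigenspace_le φ lam
    rw [hcharφ] at h1
    exact h1.trans (rootMultiplicity_le_one_of_separable hsep lam)
  -- the kernel is the eigenspace
  have hsub : ∀ u : Fin l → ZMod ℓ,
      Matrix.vecMul u ((1 - (q : ℤ) • M).map (Int.cast : ℤ → ZMod ℓ)) = 0 → u ∈ φ.eigenspace lam := by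
    intro u hu
    rw [Module.End.mem_eigenspace_iff, hφu]
    rw [hB, Matrix.vecMul_sub, Matrix.vecMul_one, Matrix.vecMul_smul, sub_eq_zero] at hu
    -- `u = q • (u ᵥ* Mb)`
    rw [hlam]
    have : ((q : ℕ) : ZMod ℓ)⁻¹ • u = ((q : ℕ) : ZMod ℓ)⁻¹ • (((q : ℕ) : ZMod ℓ) • Matrix.vecMul u Mb) := by
      rw [← hu]
    rw [this, smul_smul, inv_mul_cancel₀ hq0, one_smul]
  have hcard : Nat.card (φ.eigenspace lam) ≤ ℓ := by
    rw [Module.natCard_eq_pow_finrank (K := ZMod ℓ) (V := φ.eigenspace lam), Nat.card_eq_fintype_card,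
      ZMod.card]
    calc ℓ ^ Module.finrank (ZMod ℓ) (φ.eigenspace lam) ≤ ℓ ^ 1 :=
          Nat.pow_le_pow_right (Fact.out : ℓ.Prime).pos hfr
      _ = ℓ := pow_one ℓ
  refine le_trans ?_ hcard
  apply Nat.card_le_card_of_injective
    (fun u : {u : Fin l → ZMod ℓ //
      Matrix.vecMul u ((1 - (q : ℤ) • M).map (Int.cast : ℤ → ZMod ℓ)) = 0} =>
      (⟨u.1, hsub u.1 u.2⟩ : φ.eigenspace lam))
  intro a b hab
  apply Subtype.ext
  exact congrArg (fun x : φ.eigenspace lam => (x : Fin l → ZMod ℓ)) hab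

end Cfsg.Agent.Helper85.Tor
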