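import Cfsg.Agent.Helper88.Constrained
import Cfsg.Agent.S5076
set_option autoImplicit false

namespace Cfsg.Agent.Helper85

open Cfsg Cfsg.FusionSystem Cfsg.Agent.Helper87 Cfsg.Agent.Helper88.FS

section CentralQuot

variable {H : Type*} [Group H]

/-- A central `p`-element lies in every Sylow `p`-subgroup. -/
theorem mem_sylow_of_mem_center [Finite H] {p : ℕ} [Fact p.Prime] (T : Sylow p H) {z : H}
    (hz : z ∈ Subgroup.center H) (hzp : IsPGroup p (Subgroup.zpowers z)) : z ∈ (T : Subgroup H) := by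
  obtain ⟨T', hT'⟩ := hzp.exists_le_sylow
  obtain ⟨h, rfl⟩ := MulAction.exists_smul_eq H T' T
  have hzT' : z ∈ (T' : Subgroup H) := hT' (Subgroup.mem_zpowers z)
  rw [Sylow.coe_subgroup_smul, Subgroup.mem_pointwise_smul_iff_inv_smul_mem]
  have : (MulAut.conj h)⁻¹ • z = z := by
    show (MulAut.conj h)⁻¹ z = z
    rw [← map_inv, MulAut.conj_apply, inv_inv]
    rw [Subgroup.mem_center_iff] at hz
    rw [hz h⁻¹]
    group
  rw [this]
  exact hzT'

theorem mem_of_mk_mem_map [Finite H] {p : ℕ} [Fact p.Prime] (T : Sylow p H) (Z : Subgroup H) [Z.Normal]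
    (hZ : Z ≤ Subgroup.center H) {y : H} (hy : ∃ k : ℕ, y ^ p ^ k = 1)
    (hyT : QuotientGroup.mk' Z y ∈ (T : Subgroup H).map (QuotientGroup.mk' Z)) : y ∈ (T : Subgroup H) := by
  obtain ⟨t, ht, hty⟩ := hyT
  obtain ⟨k, hk⟩ := hy
  have hzZ : t⁻¹ * y ∈ Z := QuotientGroup.eq.mp hty
  have hzc : t⁻¹ * y ∈ Subgroup.center H := hZ hzZ
  obtain ⟨m, hm⟩ := T.2 ⟨t, ht⟩
  have hm' : t ^ p ^ m = 1 := by
    have := congrArg Subtype.val hm
    simpa using this
  have hcomm : Commute t⁻¹ y := by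
    have h1 := (Subgroup.mem_center_iff.mp hzc) t
    -- t * (t⁻¹ * y) = (t⁻¹ * y) * t
    have h2 : y = t⁻¹ * y * t := by
      calc y = t * (t⁻¹ * y) := by group
        _ = t⁻¹ * y * t := h1
    show t⁻¹ * y = y * t⁻¹
    calc t⁻¹ * y = (t⁻¹ * y * t) * t⁻¹ := by group
      _ = y * t⁻¹ := by rw [← h2]
  have hzpow : (t⁻¹ * y) ^ p ^ (k + m) = 1 := by
    have h1 : y ^ p ^ (k + m) = 1 := by rw [pow_add, pow_mul, hk, one_pow]
    have h2 : t⁻¹ ^ p ^ (k + m) = 1 := by rw [pow_add, mul_comm, pow_mul, inv_pow, hm', inv_one, one_pow]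
    rw [hcomm.mul_pow, h1, h2, one_mul]
  have hzp : IsPGroup p (Subgroup.zpowers (t⁻¹ * y)) := by
    rintro ⟨g, hg⟩
    obtain ⟨i, rfl⟩ := Subgroup.mem_zpowers_iff.mp hg
    refine ⟨k + m, Subtype.ext ?_⟩
    show ((t⁻¹ * y) ^ i) ^ p ^ (k + m) = 1
    rw [← zpow_natCast, ← zpow_mul, mul_comm, zpow_mul, zpow_natCast, hzpow, one_zpow]
  have hzT : t⁻¹ * y ∈ (T : Subgroup H) := mem_sylow_of_mem_center T hzc hzp
  have : y = t * (t⁻¹ * y) := by group
  rw [this]
  exact (T : Subgroup H).mul_mem ht hzT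

/-- The fusion system of `H / Z` (`Z` central) on the image of a Sylow `p`-subgroup is constrained when that of `H`
is. -/
theorem isConstrained_quotient_of_le_center [Finite H] {p : ℕ} [Fact p.Prime] (T : Sylow p H)
    (hF : (groupFusionSystem (T : Subgroup H)).IsConstrained p) (Z : Subgroup H) [Z.Normal]
    (hZ : Z ≤ Subgroup.center H) :
    (groupFusionSystem ((T : Subgroup H).map (QuotientGroup.mk' Z))).IsConstrained p := by
  have hπs : Function.Surjective (QuotientGroup.mk' Z) := QuotientGroup.mk'_surjective Z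
  have hTp : IsPGroup p (T : Subgroup H) := T.2
  obtain ⟨hQn, hQc⟩ := core_normal_centric_of_isConstrained (groupFusionSystem (T : Subgroup H)) hF
  have hsat : (groupFusionSystem (T : Subgroup H)).IsSaturated p := hF.1
  have hmax : ∀ U : Subgroup H, (groupFusionSystem (T : Subgroup H)).IsNormal U →
      U ≤ (groupFusionSystem (T : Subgroup H)).core := fun U h => le_sSup h
  generalize (groupFusionSystem (T : Subgroup H)).core = Q at hQn hQc hmax
  have hQT : Q ≤ T := hQn.1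
  have hsat' : (groupFusionSystem ((T : Subgroup H).map (QuotientGroup.mk' Z))).IsSaturated p := by
    have := Cfsg.Agent.S5076.result p (T.mapSurjective hπs)
    rwa [Sylow.coe_mapSurjective] at this
  have hnormal : (groupFusionSystem ((T : Subgroup H).map (QuotientGroup.mk' Z))).IsNormal
      (Q.map (QuotientGroup.mk' Z)) := by
    refine ⟨Subgroup.map_mono hQT, fun P' φ' hφ' => ?_⟩
    obtain ⟨hP'T, hφ'T, g', hg'⟩ := hφ'
    obtain ⟨g, rfl⟩ := hπs g'
    have hPmap : ((T : Subgroup H) ⊓ P'.comap (QuotientGroup.mk' Z)).map (QuotientGroup.mk' Z) = P' := by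
      apply le_antisymm
      · rintro _ ⟨x, hx, rfl⟩
        exact hx.2
      · intro x hx
        obtain ⟨t, ht, rfl⟩ := hP'T hx
        exact ⟨t, ⟨ht, hx⟩, rfl⟩
    generalize hPdef : (T : Subgroup H) ⊓ P'.comap (QuotientGroup.mk' Z) = P at hPmap
    have hPT : P ≤ T := hPdef ▸ inf_le_left
    have hPP' : ∀ x ∈ P, QuotientGroup.mk' Z x ∈ P' := fun x hx => by
      rw [← hPmap]; exact Subgroup.mem_map_of_mem _ hx
    have hcg : conjHom P g ∈ (groupFusionSystem (T : Subgroup H)).Hom P := by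
      refine ⟨hPT, fun x => ?_, g, fun x => rfl⟩
      apply mem_of_mk_mem_map T Z hZ
      · obtain ⟨k, hk⟩ := T.2 ⟨x, hPT x.2⟩
        refine ⟨k, ?_⟩
        have hk' : (x : H) ^ p ^ k = 1 := by
          have := congrArg Subtype.val hk
          simpa using this
        show (g * (x : H) * g⁻¹) ^ p ^ k = 1
        rw [conj_pow, hk']
        group
      · have h1 := hφ'T ⟨QuotientGroup.mk' Z x, hPP' x x.2⟩
        rw [hg'] at h1
        show QuotientGroup.mk' Z (g * (x : H) * g⁻¹) ∈ _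
        rw [map_mul, map_mul, map_inv]
        exact h1
    obtain ⟨ψ, hψ, hψx, hψQ⟩ := hQn.2 P (conjHom P g) hcg
    obtain ⟨hPQT, hψT, h, hh⟩ := hψ
    rw [map_subgroupOf_eq_iff] at hψQ
    have hsupmap : P' ⊔ Q.map (QuotientGroup.mk' Z) = (P ⊔ Q).map (QuotientGroup.mk' Z) := by
      rw [Subgroup.map_sup, hPmap]
    refine ⟨conjHom (P' ⊔ Q.map (QuotientGroup.mk' Z)) (QuotientGroup.mk' Z h),
      ⟨sup_le hP'T (Subgroup.map_mono hQT), ?_, QuotientGroup.mk' Z h, fun x => rfl⟩, ?_, ?_⟩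
    · intro x
      have hx : (x : H ⧸ Z) ∈ (P ⊔ Q).map (QuotientGroup.mk' Z) := hsupmap ▸ x.2
      obtain ⟨y, hy, hyx⟩ := hx
      show QuotientGroup.mk' Z h * (x : H ⧸ Z) * (QuotientGroup.mk' Z h)⁻¹ ∈ _
      rw [← hyx, ← map_inv, ← map_mul, ← map_mul]
      refine Subgroup.mem_map_of_mem _ ?_
      have := hψT ⟨y, hy⟩
      rwa [hh] at this
    · intro x
      have hx : (x : H ⧸ Z) ∈ P.map (QuotientGroup.mk' Z) := hPmap ▸ x.2
      obtain ⟨y, hy, hyx⟩ := hx
      show QuotientGroup.mk' Z h * (x : H ⧸ Z) * (QuotientGroup.mk' Z h)⁻¹ = φ' x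
      rw [hg', ← hyx, ← map_inv, ← map_mul, ← map_mul, ← map_inv, ← map_mul, ← map_mul]
      congr 1
      have := hψx ⟨y, hy⟩
      rw [hh] at this
      exact this
    · rw [map_subgroupOf_eq_iff]
      refine ⟨fun x hx => ?_, fun y hy => ?_⟩
      · obtain ⟨q, hq, hqx⟩ := hx
        show QuotientGroup.mk' Z h * (x : H ⧸ Z) * (QuotientGroup.mk' Z h)⁻¹ ∈ _
        rw [← hqx, ← map_inv, ← map_mul, ← map_mul]
        refine Subgroup.mem_map_of_mem _ ?_
        have := hψQ.1 ⟨q, (le_sup_right : Q ≤ P ⊔ Q) hq⟩ hq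
        rwa [hh] at this
      · obtain ⟨q', hq', rfl⟩ := hy
        obtain ⟨x, hxQ, hxq'⟩ := hψQ.2 q' hq'
        rw [hh] at hxq'
        refine ⟨⟨QuotientGroup.mk' Z (x : H), ?_⟩, Subgroup.mem_map_of_mem _ hxQ, ?_⟩
        · rw [hsupmap]
          exact Subgroup.mem_map_of_mem _ x.2
        · show QuotientGroup.mk' Z h * QuotientGroup.mk' Z (x : H) * (QuotientGroup.mk' Z h)⁻¹ = _
          rw [← map_inv, ← map_mul, ← map_mul, hxq']
  refine ⟨hsat', Q.map (QuotientGroup.mk' Z), hnormal, Subgroup.map_mono hQT, fun Q' hQ' => ?_⟩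
  obtain ⟨φ, hφ, hr⟩ := hQ'
  have hwc := weaklyClosed_of_isNormal _ hnormal
  have hQ'eq : Q' = Q.map (QuotientGroup.mk' Z) := by rw [← hr]; exact hwc.2 φ hφ
  rw [hQ'eq]
  rintro t' ⟨ht'T, ht'c⟩
  obtain ⟨t, ht, rfl⟩ := ht'T
  refine Subgroup.mem_map_of_mem _ ?_
  have hQsc := stronglyClosed_of_isNormal (groupFusionSystem (T : Subgroup H)) hQn
  have htN : t ∈ Subgroup.normalizer (Q : Set H) :=
    le_normalizer_of_stronglyClosed (groupFusionSystem (T : Subgroup H)) hQsc ht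
  have hfinT : Finite (T : Subgroup H) := inferInstance
  have hfinQ : Finite Q := finite_of_le hQT
  have hQp : IsPGroup p Q := hTp.to_le hQT
  -- commutators of `t` with `Q` lie in `Z`
  have hcomm : ∀ q ∈ Q, q⁻¹ * (t * q * t⁻¹) ∈ Z := by
    intro q hq
    have h1 := ht'c (QuotientGroup.mk' Z q) (Subgroup.mem_map_of_mem _ hq)
    -- h1 : mk q * mk t = mk t * mk q
    rw [← QuotientGroup.eq_one_iff, ← QuotientGroup.mk'_apply, map_mul, map_mul, map_mul, map_inv, map_inv, ← h1]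
    group
  refine mem_of_conjAut_mem_of_core hTp (groupFusionSystem (T : Subgroup H)) hsat hQn hQc hmax
    (chainStab (Z.subgroupOf Q)) ?_ (isPGroup_chainStab hQp _) ht ⟨conjAut Q t htN, ⟨?_, ?_⟩, fun y => rfl⟩
  · refine chainStab_normalized (Z.subgroupOf Q) ((groupFusionSystem (T : Subgroup H)).autGroup Q) ?_
    intro a ha m hm
    have ha' := (mem_autGroup_iff (groupFusionSystem (T : Subgroup H)) hQT a).mp ha
    obtain ⟨-, -, g, hg⟩ := ha'
    have hmc : (m : H) ∈ Subgroup.center H := hZ hm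
    show ((a m : Q) : H) ∈ Z
    have h2 : ((a m : Q) : H) = g * (m : H) * g⁻¹ := hg m
    rw [h2, (Subgroup.mem_center_iff.mp hmc) g]
    have : (m : H) * g * g⁻¹ = m := by group
    rw [this]
    exact hm
  · intro m hm
    apply Subtype.ext
    show t * (m : H) * t⁻¹ = m
    have hmc : (m : H) ∈ Subgroup.center H := hZ hm
    rw [(Subgroup.mem_center_iff.mp hmc) t]
    group
  · intro x
    show ((x⁻¹ * conjAut Q t htN x : Q) : H) ∈ Z
    exact hcomm x x.2

end CentralQuot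

end Cfsg.Agent.Helper85
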