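import Mathlib
import Cfsg.Agent.Helper30.ThreeMin.Defs

set_option autoImplicit false
set_option linter.unusedSectionVars false

/-!
Shared machinery for the pieces (T-3b)/(T-3c) of S2930: stabilizers (in `Perm α`) of a family
`P : Set (Set α)` of pairwise disjoint sets, explicit elements of such stabilizers
(swaps inside a member, the involution `flipPerm` exchanging two members along a permutation),
and the fact that such a stabilizer does not contain the alternating group.
-/

open Equiv Equiv.Perm MulAction Subgroup Cfsg.Agent.Helper30.ThreeMin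
open scoped Pointwise

universe u

namespace Cfsg.Agent.Helper85.ThreeMin

variable {α : Type u} [Fintype α] [DecidableEq α]

/-- Distinct members of `P` are disjoint. -/
def PD (P : Set (Set α)) : Prop := ∀ B ∈ P, ∀ C ∈ P, (B ∩ C).Nonempty → B = C

theorem mem_stab_of_forall (P : Set (Set α)) (g : Perm α) (h : ∀ B ∈ P, g • B ∈ P) :
    g ∈ stabilizer (Perm α) P :=
  (mem_stabilizer_set' (Set.toFinite P)).mpr h

theorem smul_mem_of_mem_stab {P : Set (Set α)} {g : Perm α} (hg : g ∈ stabilizer (Perm α) P)
    {B : Set α} (hB : B ∈ P) : g • B ∈ P :=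
  (mem_stabilizer_set' (Set.toFinite P)).mp hg hB

theorem smul_set_eq_of_forall (g : Perm α) (C : Set α) (h : ∀ x ∈ C, g x ∈ C) : g • C = C := by
  have : g ∈ stabilizer (Perm α) C := (mem_stabilizer_set' (Set.toFinite C)).mpr h
  exact mem_stabilizer_iff.mp this

theorem alt_not_le_stab (P : Set (Set α)) (hP : PD P) {D : Set α} (hD : D ∈ P) {a b c : α}
    (ha : a ∈ D) (hb : b ∈ D) (hab : a ≠ b) (hc : c ∉ D) :
    ¬ alternatingGroup α ≤ stabilizer (Perm α) P := by
  intro hle
  have hac : a ≠ c := fun h => hc (h ▸ ha)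
  have hbc : b ≠ c := fun h => hc (h ▸ hb)
  have h3 : IsThreeCycle (swap a b * swap a c) := isThreeCycle_swap_mul_swap_same hab hac hbc
  have hmem := hle h3.mem_alternatingGroup
  have hgD : (swap a b * swap a c) • D ∈ P := smul_mem_of_mem_stab hmem hD
  have h1 : a ∈ (swap a b * swap a c) • D := by
    refine ⟨b, hb, ?_⟩
    show (swap a b * swap a c) b = a
    rw [Perm.mul_apply, swap_apply_of_ne_of_ne hab.symm hbc, swap_apply_right]
  have h2 : c ∈ (swap a b * swap a c) • D := by
    refine ⟨a, ha, ?_⟩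
    show (swap a b * swap a c) a = c
    rw [Perm.mul_apply, swap_apply_left, swap_apply_of_ne_of_ne hac.symm hbc.symm]
  have := hP _ hgD _ hD ⟨a, h1, ha⟩
  rw [this] at h2
  exact hc h2

theorem swap_mem_stab (P : Set (Set α)) (hP : PD P) {D : Set α} (hD : D ∈ P) {a b : α}
    (ha : a ∈ D) (hb : b ∈ D) : swap a b ∈ stabilizer (Perm α) P := by
  apply mem_stab_of_forall
  intro C hC
  have : swap a b • C = C := by
    apply smul_set_eq_of_forall
    intro x hx
    by_cases h : C = D
    · subst h
      rw [swap_apply_def]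
      split_ifs <;> assumption
    · have hxa : x ≠ a := fun e => h (hP _ hC _ hD ⟨a, e ▸ hx, ha⟩)
      have hxb : x ≠ b := fun e => h (hP _ hC _ hD ⟨b, e ▸ hx, hb⟩)
      rw [swap_apply_of_ne_of_ne hxa hxb]
      exact hx
  rw [this]
  exact hC

theorem fixing_le_stab (P : Set (Set α)) (hP : PD P) {T : Set α} (hT : T ∈ P) :
    fixingSubgroup (Perm α) Tᶜ ≤ stabilizer (Perm α) P := by
  intro g hg
  rw [mem_fixingSubgroup_iff] at hg
  apply mem_stab_of_forall
  intro C hC
  have hgT : g • T = T := by
    have h1 : g • Tᶜ = Tᶜ := smul_set_eq_of_forall g _ (fun x hx => by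
      have := hg x hx
      rw [Perm.smul_def] at this
      rw [this]; exact hx)
    have h2 : g • T = (g • Tᶜ)ᶜ := by rw [Set.smul_set_compl, compl_compl]
    rw [h2, h1, compl_compl]
  by_cases h : C = T
  · subst h
    rw [hgT]; exact hC
  · have : g • C = C := by
      apply smul_set_eq_of_forall
      intro x hx
      have hxT : x ∈ Tᶜ := fun hxT => h (hP _ hC _ hT ⟨x, hx, hxT⟩)
      have := hg x hxT
      rw [Perm.smul_def] at this
      rw [this]; exact hx
    rw [this]; exact hC

/-- The function underlying `flipPerm`. -/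
noncomputable def flipFun (s : Perm α) (t : Set α) (x : α) : α := by
  classical exact if x ∈ t then s x else if s⁻¹ x ∈ t then s⁻¹ x else x

theorem flipFun_of_mem (s : Perm α) (t : Set α) {x : α} (hx : x ∈ t) : flipFun s t x = s x := by
  classical
  unfold flipFun
  rw [if_pos hx]

theorem flipFun_of_inv_mem (s : Perm α) (t : Set α) (hdisj : ∀ x ∈ t, s x ∉ t) {x : α}
    (hx : s⁻¹ x ∈ t) : flipFun s t x = s⁻¹ x := by
  classical
  have hxt : x ∉ t := by
    have := hdisj _ hx
    simpa using this
  unfold flipFun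
  rw [if_neg hxt, if_pos hx]

theorem flipFun_of_not (s : Perm α) (t : Set α) {x : α} (hx : x ∉ t) (hx' : s⁻¹ x ∉ t) :
    flipFun s t x = x := by
  classical
  unfold flipFun
  rw [if_neg hx, if_neg hx']

theorem flipFun_invol (s : Perm α) (t : Set α) (hdisj : ∀ x ∈ t, s x ∉ t) :
    Function.Involutive (flipFun s t) := by
  intro x
  by_cases hx : x ∈ t
  · rw [flipFun_of_mem s t hx, flipFun_of_inv_mem s t hdisj (by simpa using hx)]
    simp
  · by_cases hx' : s⁻¹ x ∈ t
    · rw [flipFun_of_inv_mem s t hdisj hx', flipFun_of_mem s t hx']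
      simp
    · rw [flipFun_of_not s t hx hx', flipFun_of_not s t hx hx']

/-- The involution exchanging `t` and `s • t` along `s` (when these are disjoint) and fixing
everything else. -/
noncomputable def flipPerm (s : Perm α) (t : Set α) (hdisj : ∀ x ∈ t, s x ∉ t) : Perm α :=
  (flipFun_invol s t hdisj).toPerm

theorem flipPerm_apply (s : Perm α) (t : Set α) (hdisj : ∀ x ∈ t, s x ∉ t) (x : α) :
    flipPerm s t hdisj x = flipFun s t x := rfl

theorem flipPerm_smul_left (s : Perm α) (t : Set α) (hdisj : ∀ x ∈ t, s x ∉ t) :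
    flipPerm s t hdisj • t = s • t := by
  ext y
  constructor
  · rintro ⟨x, hx, rfl⟩
    refine ⟨x, hx, ?_⟩
    show s x = flipPerm s t hdisj x
    rw [flipPerm_apply, flipFun_of_mem s t hx]
  · rintro ⟨x, hx, rfl⟩
    refine ⟨x, hx, ?_⟩
    show flipPerm s t hdisj x = s x
    rw [flipPerm_apply, flipFun_of_mem s t hx]

theorem flipPerm_smul_right (s : Perm α) (t : Set α) (hdisj : ∀ x ∈ t, s x ∉ t) :
    flipPerm s t hdisj • (s • t) = t := by
  ext y
  constructor
  · rintro ⟨_, ⟨x, hx, rfl⟩, rfl⟩
    have : flipPerm s t hdisj (s x) = x := by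
      rw [flipPerm_apply, flipFun_of_inv_mem s t hdisj (by simpa using hx)]
      simp
    show flipPerm s t hdisj (s x) ∈ t
    rw [this]; exact hx
  · intro hy
    refine ⟨s y, ⟨y, hy, rfl⟩, ?_⟩
    show flipPerm s t hdisj (s y) = y
    rw [flipPerm_apply, flipFun_of_inv_mem s t hdisj (by simpa using hy)]
    simp

theorem flipPerm_apply_of_not (s : Perm α) (t : Set α) (hdisj : ∀ x ∈ t, s x ∉ t) {x : α}
    (hx : x ∉ t) (hx' : x ∉ s • t) : flipPerm s t hdisj x = x := by
  rw [flipPerm_apply]
  apply flipFun_of_not s t hx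
  intro h
  exact hx' ⟨s⁻¹ x, h, by simp⟩

theorem flipPerm_mem_stab (P : Set (Set α)) (hP : PD P) (s : Perm α) (t : Set α)
    (hdisj : ∀ x ∈ t, s x ∉ t) (ht : t ∈ P) (hst : s • t ∈ P) :
    flipPerm s t hdisj ∈ stabilizer (Perm α) P := by
  apply mem_stab_of_forall
  intro C hC
  by_cases h1 : C = t
  · subst h1
    rw [flipPerm_smul_left]; exact hst
  by_cases h2 : C = s • t
  · subst h2
    rw [flipPerm_smul_right]; exact ht
  have : flipPerm s t hdisj • C = C := by
    apply smul_set_eq_of_forall
    intro x hx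
    have hxt : x ∉ t := fun hxt => h1 (hP _ hC _ ht ⟨x, hx, hxt⟩)
    have hxst : x ∉ s • t := fun hxt => h2 (hP _ hC _ hst ⟨x, hx, hxt⟩)
    rw [flipPerm_apply_of_not s t hdisj hxt hxst]
    exact hx
  rw [this]; exact hC

/-- A permutation group all of whose elements have odd prime power order is even. -/
theorem le_alternatingGroup_of_isPGroup {p : ℕ} (hp : Odd p) (S : Subgroup (Perm α))
    (hS : IsPGroup p S) : S ≤ alternatingGroup α := by
  intro g hg
  rw [Equiv.Perm.mem_alternatingGroup]
  obtain ⟨k, hk⟩ := hS ⟨g, hg⟩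
  have hk' : g ^ p ^ k = 1 := by
    have := congrArg Subtype.val hk
    simpa using this
  have h1 : (Perm.sign g) ^ p ^ k = 1 := by
    rw [← map_pow, hk', map_one]
  rcases Int.units_eq_one_or (Perm.sign g) with h | h
  · exact h
  · rw [h, (hp.pow).neg_one_pow] at h1
    exact absurd h1 (by decide)

/-- The family of translates of a set under a subgroup of `Perm α`. -/
def translates (S : Subgroup (Perm α)) (B : Set α) : Set (Set α) :=
  {D | ∃ s ∈ S, D = s • B}

theorem translates_pd (S : Subgroup (Perm α)) {B : Set α} (hB : IsBlock S B) :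
    PD (translates S B) := by
  rintro _ ⟨s, hs, rfl⟩ _ ⟨s', hs', rfl⟩ hne
  by_contra hcon
  have := hB (g₁ := ⟨s, hs⟩) (g₂ := ⟨s', hs'⟩) hcon
  exact Set.not_disjoint_iff_nonempty_inter.mpr hne this

theorem le_stab_translates (S : Subgroup (Perm α)) (B : Set α) :
    S ≤ stabilizer (Perm α) (translates S B) := by
  intro s hs
  apply mem_stab_of_forall
  rintro _ ⟨s', hs', rfl⟩
  exact ⟨s * s', S.mul_mem hs hs', by rw [mul_smul]⟩

theorem self_mem_translates (S : Subgroup (Perm α)) (B : Set α) : B ∈ translates S B :=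
  ⟨1, S.one_mem, by rw [one_smul]⟩

end Cfsg.Agent.Helper85.ThreeMin
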