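import Mathlib
import Cfsg.Agent.Helper30.ThreeMin.Defs
import Cfsg.Agent.Helper85.ThreeMinSys

set_option autoImplicit false
set_option linter.unusedSectionVars false

/-!
Piece (T-3c) of S2930, with the pieces (T-1 nested) and (T-4) as explicit hypotheses.
-/

open Equiv Equiv.Perm MulAction Subgroup Cfsg.Agent.Helper30.ThreeMin
open scoped Pointwise

universe u

namespace Cfsg.Agent.Helper85.ThreeMin

variable {α : Type u} [Fintype α] [DecidableEq α]

theorem twoOver_of_transitive_aux (S : Subgroup (Perm α)) (hS : IsPGroup 3 S)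
    (htr : IsPretransitive S α) (h27 : 27 ≤ Fintype.card α)
    (hT1 : ∀ x : α, 3 * 3 ≤ (orbit S x).ncard → ∃ B T : Set α, x ∈ B ∧ B ⊆ T ∧ T ⊆ orbit S x ∧
      IsBlock S B ∧ IsBlock S T ∧ B.ncard = 3 ∧ T.ncard * 3 = (orbit S x).ncard)
    (hT4 : ∀ (J : Subgroup (Perm α)) (_ : IsPretransitive J α) (T : Set α) (_ : 3 ≤ T.ncard)
      (_ : alternatingGroup α ⊓ fixingSubgroup (Perm α) Tᶜ ≤ J)
      (_ : ∃ g ∈ J, (g • T ∩ T).Nonempty ∧ g • T ≠ T)
      (_ : ∀ d : ℕ, d ∣ Fintype.card α → T.ncard < d → d = Fintype.card α),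
      IsPreprimitive J α) : TwoOver S := by
  classical
  have hne : Nonempty α := by
    rw [← Fintype.card_pos_iff]; omega
  obtain ⟨x⟩ := hne
  have horb : orbit S x = Set.univ := MulAction.orbit_eq_univ S x
  have hcard_orb : (orbit S x).ncard = Fintype.card α := by
    rw [horb, Set.ncard_univ, Nat.card_eq_fintype_card]
  -- card α is a power of 3
  obtain ⟨n, hn⟩ := hS.card_orbit x
  have hn' : Fintype.card α = 3 ^ n := by
    rw [← hcard_orb, ← hn, Nat.card_coe_set_eq]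
  obtain ⟨B, T, hxB, hBT, -, hB, hT, hBc, hTc⟩ := hT1 x (by rw [hcard_orb]; omega)
  rw [hcard_orb] at hTc
  -- sizes
  have hT9 : 9 ≤ T.ncard := by omega
  have hTlt : T.ncard < Fintype.card α := by omega
  -- the two families
  set P₁ : Set (Set α) := translates S B with hP₁
  set P₂ : Set (Set α) := translates S T with hP₂
  have hPD₁ : PD P₁ := translates_pd S hB
  have hPD₂ : PD P₂ := translates_pd S hT
  have hB₁ : B ∈ P₁ := self_mem_translates S B
  have hT₂ : T ∈ P₂ := self_mem_translates S T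
  have hSalt : S ≤ alternatingGroup α := le_alternatingGroup_of_isPGroup (by decide) S hS
  have hSL₁ : S ≤ stabilizer (Perm α) P₁ := le_stab_translates S B
  have hSL₂ : S ≤ stabilizer (Perm α) P₂ := le_stab_translates S T
  -- points
  obtain ⟨a, ha, b, hb, hab⟩ : ∃ a ∈ B, ∃ b ∈ B, a ≠ b := by
    have : 1 < B.ncard := by omega
    exact (Set.one_lt_ncard_iff (Set.toFinite B)).mp this |>.imp fun a h => by
      obtain ⟨b, ha, hb, hab⟩ := h; exact ⟨ha, b, hb, hab⟩
  obtain ⟨c, hcT⟩ : ∃ c, c ∉ T := by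
    by_contra hcon
    push Not at hcon
    have : T = Set.univ := Set.eq_univ_of_forall hcon
    rw [this, Set.ncard_univ, Nat.card_eq_fintype_card] at hTlt
    exact lt_irrefl _ hTlt
  have hcB : c ∉ B := fun h => hcT (hBT h)
  have haT : a ∈ T := hBT ha
  have hbT : b ∈ T := hBT hb
  -- an element of `T` outside `B`
  obtain ⟨y, hyT, hyB⟩ : ∃ y ∈ T, y ∉ B := by
    by_contra hcon
    push Not at hcon
    have : T ⊆ B := hcon
    have := Set.ncard_le_ncard this (Set.toFinite B)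
    omega
  refine ⟨stabilizer (Perm α) P₁, stabilizer (Perm α) P₂, hSL₁, hSL₂,
    alt_not_le_stab P₁ hPD₁ hB₁ ha hb hab hcB, alt_not_le_stab P₂ hPD₂ hT₂ haT hbT hab hcT, ?_⟩
  set J : Subgroup (Perm α) := (stabilizer (Perm α) P₁ ⊓ alternatingGroup α) ⊔
    (stabilizer (Perm α) P₂ ⊓ alternatingGroup α) with hJ
  have hL₁J : stabilizer (Perm α) P₁ ⊓ alternatingGroup α ≤ J := le_sup_left
  have hL₂J : stabilizer (Perm α) P₂ ⊓ alternatingGroup α ≤ J := le_sup_right
  have hSJ : S ≤ J := fun s hs => hL₁J ⟨hSL₁ hs, hSalt hs⟩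
  have hJtr : IsPretransitive J α := by
    refine ⟨fun u v => ?_⟩
    obtain ⟨g, hg⟩ := htr.exists_smul_eq u v
    exact ⟨⟨g.1, hSJ g.2⟩, hg⟩
  have hle : alternatingGroup α ⊓ fixingSubgroup (Perm α) Tᶜ ≤ J := by
    intro g hg
    exact hL₂J ⟨fixing_le_stab P₂ hPD₂ hT₂ hg.2, hg.1⟩
  -- an element of `S` moving `T` off itself
  obtain ⟨s, hs, hsx⟩ : ∃ s ∈ S, s x = c := by
    obtain ⟨g, hg⟩ := htr.exists_smul_eq x c
    exact ⟨g.1, g.2, hg⟩
  have hsT : s • T ∈ P₂ := ⟨s, hs, rfl⟩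
  have hsTne : s • T ≠ T := by
    intro h
    apply hcT
    rw [← h]
    exact ⟨x, hBT hxB, hsx⟩
  have hsTdisj : ∀ z ∈ T, s z ∉ T := by
    intro z hz hsz
    exact hsTne (hPD₂ _ hsT _ hT₂ ⟨s z, ⟨z, hz, rfl⟩, hsz⟩)
  have hdisj : ∀ z ∈ B, s z ∉ B := fun z hz hsz => hsTdisj z (hBT hz) (hBT hsz)
  have hsB : s • B ∈ P₁ := ⟨s, hs, rfl⟩
  set g : Perm α := flipPerm s B hdisj with hg
  have hgL₁ : g ∈ stabilizer (Perm α) P₁ := flipPerm_mem_stab P₁ hPD₁ s B hdisj hB₁ hsB
  have hgy : g y = y := by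
    apply flipPerm_apply_of_not s B hdisj hyB
    rintro ⟨z, hz, hzy⟩
    have : s z = y := hzy
    exact hsTdisj z (hBT hz) (this ▸ hyT)
  have hga : ∀ z ∈ B, g z ∉ T := by
    intro z hz
    have : g z = s z := by rw [hg, flipPerm_apply, flipFun_of_mem s B hz]
    rw [this]
    exact hsTdisj z (hBT hz)
  have hnb : ∃ g' ∈ J, (g' • T ∩ T).Nonempty ∧ g' • T ≠ T := by
    by_cases hsg : Perm.sign g = 1
    · refine ⟨g, hL₁J ⟨hgL₁, Equiv.Perm.mem_alternatingGroup.mpr hsg⟩, ⟨y, ⟨y, hyT, hgy⟩, hyT⟩, ?_⟩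
      intro h
      apply hga a ha
      rw [← h]
      exact ⟨a, haT, rfl⟩
    · have hsg' : Perm.sign g = -1 := (Int.units_eq_one_or _).resolve_left hsg
      have hw : swap a b ∈ stabilizer (Perm α) P₁ := swap_mem_stab P₁ hPD₁ hB₁ ha hb
      have hya : y ≠ a := fun h => hyB (h ▸ ha)
      have hyb : y ≠ b := fun h => hyB (h ▸ hb)
      refine ⟨g * swap a b, hL₁J ⟨mul_mem hgL₁ hw, ?_⟩, ⟨y, ⟨y, hyT, ?_⟩, hyT⟩, ?_⟩
      · show g * swap a b ∈ alternatingGroup α
        rw [Equiv.Perm.mem_alternatingGroup, map_mul, hsg', Perm.sign_swap hab]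
        rfl
      · show (g * swap a b) y = y
        rw [Perm.mul_apply, swap_apply_of_ne_of_ne hya hyb, hgy]
      · intro h
        apply hga b hb
        rw [← h]
        refine ⟨a, haT, ?_⟩
        show (g * swap a b) a = g b
        rw [Perm.mul_apply, swap_apply_left]
  have hdiv : ∀ d : ℕ, d ∣ Fintype.card α → T.ncard < d → d = Fintype.card α := by
    intro d hd hlt
    rw [hn'] at hd
    obtain ⟨k, hk, rfl⟩ := (Nat.dvd_prime_pow Nat.prime_three).mp hd
    rw [hn']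
    rcases Nat.lt_or_ge k n with hkn | hkn
    · exfalso
      have h1 : 3 ^ (k + 1) ≤ 3 ^ n := Nat.pow_le_pow_right (by norm_num) hkn
      rw [pow_succ] at h1
      omega
    · have : k = n := le_antisymm hk hkn
      rw [this]
  have hprim : IsPreprimitive J α := hT4 J hJtr T (by omega) hle hnb hdiv
  -- a 3-cycle in `J`
  have hay : a ≠ y := fun h => hyB (h ▸ ha)
  have hby : b ≠ y := fun h => hyB (h ▸ hb)
  have h3 : IsThreeCycle (swap a b * swap a y) := isThreeCycle_swap_mul_swap_same hab hay hby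
  have h3J : swap a b * swap a y ∈ J := by
    apply hle
    refine ⟨h3.mem_alternatingGroup, ?_⟩
    show _ ∈ fixingSubgroup (Perm α) Tᶜ
    rw [mem_fixingSubgroup_iff]
    intro z hz
    have hza : z ≠ a := fun h => hz (h ▸ haT)
    have hzb : z ≠ b := fun h => hz (h ▸ hbT)
    have hzy : z ≠ y := fun h => hz (h ▸ hyT)
    show (swap a b * swap a y) z = z
    rw [Perm.mul_apply, swap_apply_of_ne_of_ne hza hzy, swap_apply_of_ne_of_ne hza hzb]
  exact alternatingGroup_le_of_isPreprimitive_of_isThreeCycle_mem hprim h3 h3J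

end Cfsg.Agent.Helper85.ThreeMin
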