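import Mathlib
import Cfsg.Agent.Helper30.ThreeMin.Defs
import Cfsg.Agent.Helper65.ThreeMinT1
import Cfsg.Agent.Helper65.ThreeMinT4
import Cfsg.Agent.Helper85.ThreeMinT3cAux

set_option autoImplicit false

/-!
Piece (T-3c) of S2930 (helper30, board #7137): a transitive `3`-group of permutations of at
least `27` points lies in two subgroups of the symmetric group, neither containing the
alternating group, whose even parts generate the alternating group.
-/

open Equiv Equiv.Perm MulAction Subgroup Cfsg.Agent.Helper30.ThreeMin
open scoped Pointwise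

universe u

namespace Cfsg.Agent.Helper85.ThreeMin

theorem twoOver_of_transitive {α : Type u} [Fintype α] [DecidableEq α] (S : Subgroup (Perm α))
    (hS : IsPGroup 3 S) (htr : IsPretransitive S α) (h27 : 27 ≤ Fintype.card α) : TwoOver S :=
  haveI : Fact (Nat.Prime 3) := ⟨Nat.prime_three⟩
  twoOver_of_transitive_aux S hS htr h27
    (fun x hx => Cfsg.Agent.Helper65.ThreeMin.exists_nested_blocks S hS x hx)
    (fun J hJ T h3 hle hnb hdiv =>
      Cfsg.Agent.Helper65.ThreeMin.isPreprimitive_of_alt_le J hJ T h3 hle hnb hdiv)

end Cfsg.Agent.Helper85.ThreeMin
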