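import Cfsg.Agent.S5110
import Cfsg.Agent.S5114
import Cfsg.Agent.S5095
import Cfsg.Agent.Helper87.FusionRS
import Cfsg.Agent.Helper88.FusionCentric
import Cfsg.Agent.Helper85.PPowerIndex
set_option autoImplicit false

/-!
Existence of the `p'`-residual subsystem: the subsystem generated by the maps between centric subgroups that lie in every
saturated subsystem of index prime to `p`.
-/

namespace Cfsg.Agent.Helper85

open Cfsg Cfsg.FusionSystem Cfsg.Agent.Helper87 Cfsg.Agent.Helper88.FS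

variable {Ω : Type*} [Group Ω] {S : Subgroup Ω}

/-- The maps of `F` lying in every member of a family of fusion systems. -/
def interSystem (F : FusionSystem S) (𝒮 : Set (FusionSystem S)) : FusionSystem S where
  Hom P := {φ | φ ∈ F.Hom P ∧ ∀ E ∈ 𝒮, φ ∈ E.Hom P}
  le_of_mem h := F.le_of_mem h.1
  injective_of_mem h := F.injective_of_mem h.1
  conj_mem hP hg := ⟨F.conj_mem hP hg, fun E _ => E.conj_mem hP hg⟩
  comp_mem hφ hψ h := ⟨F.comp_mem hφ.1 hψ.1 h, fun E hE => E.comp_mem (hφ.2 E hE) (hψ.2 E hE) h⟩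
  inv_mem := by
    intro P φ hφ
    obtain ⟨χ, hχ, hχx⟩ := F.inv_mem hφ.1
    refine ⟨χ, ⟨hχ, fun E hE => ?_⟩, hχx⟩
    obtain ⟨χ', hχ', hχ'x⟩ := E.inv_mem (hφ.2 E hE)
    have : χ' = χ := by
      refine MonoidHom.ext (fun y => ?_)
      obtain ⟨y, x, rfl⟩ := y
      exact (hχ'x x).trans (hχx x).symm
    rw [← this]
    exact hχ'

theorem interSystem_le (F : FusionSystem S) (𝒮 : Set (FusionSystem S)) : interSystem F 𝒮 ≤ F :=
  fun _ _ h => h.1

theorem interSystem_le_of_mem (F : FusionSystem S) {𝒮 : Set (FusionSystem S)} {E : FusionSystem S} (hE : E ∈ 𝒮) :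
    interSystem F 𝒮 ≤ E := fun _ _ h => h.2 E hE

theorem le_interSystem (F : FusionSystem S) {𝒮 : Set (FusionSystem S)} {D : FusionSystem S} (hDF : D ≤ F)
    (h : ∀ E ∈ 𝒮, D ≤ E) : D ≤ interSystem F 𝒮 := fun P _ hφ => ⟨hDF P hφ, fun E hE => h E hE P hφ⟩

/-- An automorphism of `S` carrying `Q` onto `Q₀` carries `N_S(Q)` onto `N_S(Q₀)`. -/
theorem card_normalizerIn_le_of_aut [Finite S] {Q Q₀ : Subgroup Ω} (α : MulAut S) (hQS : Q ≤ S)
    (hα : ∀ x : S, (x : Ω) ∈ Q ↔ ((α x : S) : Ω) ∈ Q₀) :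
    Nat.card (normalizerIn S Q₀) ≤ Nat.card (normalizerIn S Q) := by
  have hfin : Finite (normalizerIn S Q) := finite_of_le inf_le_left
  have hnS : ∀ n : normalizerIn S Q₀, (n : Ω) ∈ S := fun n => (Subgroup.mem_inf.mp n.2).1
  have hmem : ∀ n : normalizerIn S Q₀, ((α⁻¹ ⟨(n : Ω), hnS n⟩ : S) : Ω) ∈ normalizerIn S Q := by
    intro n
    refine Subgroup.mem_inf.mpr ⟨(α⁻¹ ⟨(n : Ω), hnS n⟩ : S).2, ?_⟩
    have hn : (n : Ω) ∈ Subgroup.normalizer (Q₀ : Set Ω) := (Subgroup.mem_inf.mp n.2).2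
    rw [Subgroup.mem_normalizer_iff] at hn ⊢
    set m : S := α⁻¹ ⟨(n : Ω), hnS n⟩ with hm
    have hαm : α m = ⟨(n : Ω), hnS n⟩ := by rw [hm]; exact MulAut.apply_inv_self _ _ _
    intro h
    constructor
    · intro hh
      have h1 := (hα ⟨h, hQS hh⟩).mp hh
      have h2 : ((α (m * ⟨h, hQS hh⟩ * m⁻¹) : S) : Ω) = (n : Ω) * ((α ⟨h, hQS hh⟩ : S) : Ω) * (n : Ω)⁻¹ := by
        rw [map_mul, map_mul, map_inv, hαm]
        rfl
      have h3 : ((α (m * ⟨h, hQS hh⟩ * m⁻¹) : S) : Ω) ∈ Q₀ := by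
        rw [h2]
        exact (hn _).mp h1
      exact (hα (m * ⟨h, hQS hh⟩ * m⁻¹)).mpr h3
    · intro hh
      have hhS : h ∈ S := by
        have h1 : (m : Ω) * h * (m : Ω)⁻¹ ∈ S := hQS hh
        have h2 : h = (m : Ω)⁻¹ * ((m : Ω) * h * (m : Ω)⁻¹) * (m : Ω) := by group
        rw [h2]
        exact S.mul_mem (S.mul_mem (S.inv_mem m.2) h1) m.2
      have h1 := (hα (m * ⟨h, hhS⟩ * m⁻¹)).mp hh
      have h2 : ((α (m * ⟨h, hhS⟩ * m⁻¹) : S) : Ω) = (n : Ω) * ((α ⟨h, hhS⟩ : S) : Ω) * (n : Ω)⁻¹ := by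
        rw [map_mul, map_mul, map_inv, hαm]
        rfl
      rw [h2] at h1
      exact (hα ⟨h, hhS⟩).mpr ((hn _).mpr h1)
  let f : normalizerIn S Q₀ → normalizerIn S Q := fun n => ⟨((α⁻¹ ⟨(n : Ω), hnS n⟩ : S) : Ω), hmem n⟩
  have hf : ∀ n, ((f n : normalizerIn S Q) : Ω) = ((α⁻¹ ⟨(n : Ω), hnS n⟩ : S) : Ω) := fun _ => rfl
  refine Nat.card_le_card_of_injective f ?_
  intro n n' hnn'
  have h1 : ((α⁻¹ ⟨(n : Ω), hnS n⟩ : S) : Ω) = ((α⁻¹ ⟨(n' : Ω), hnS n'⟩ : S) : Ω) := by
    rw [← hf n, ← hf n', hnn']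
  have h2 : (α⁻¹ ⟨(n : Ω), hnS n⟩ : S) = α⁻¹ ⟨(n' : Ω), hnS n'⟩ := Subtype.ext h1
  have h3 : (⟨(n : Ω), hnS n⟩ : S) = ⟨(n' : Ω), hnS n'⟩ := (α⁻¹).injective h2
  have h4 : (n : Ω) = (n' : Ω) := congrArg (fun z : S => (z : Ω)) h3
  exact Subtype.ext h4

/-- Being fully automized passes to subsystems over the same group. -/
theorem isFullyAutomized_of_le [Finite S] {p : ℕ} [Fact p.Prime] {E F : FusionSystem S} (hEF : E ≤ F)
    {Q : Subgroup Ω} (hQ : F.IsFullyAutomized p Q) : E.IsFullyAutomized p Q := by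
  obtain ⟨hQS, R, hR⟩ := hQ
  refine ⟨hQS, ?_⟩
  have : Finite (MulAut Q) := finite_mulAut_of_le hQS
  have hAB : E.autGroup Q ≤ F.autGroup Q := autGroup_le_of_isSubsystemOf F E hEF hQS
  have hKA : autInducedBy S Q ≤ E.autGroup Q := autInducedBy_le_autGroup E hQS
  have hKB : autInducedBy S Q ≤ F.autGroup Q := hKA.trans hAB
  have hKp : IsPGroup p (autInducedBy S Q) := by
    have h1 : IsPGroup p ((autInducedBy S Q).subgroupOf (F.autGroup Q)) := hR ▸ R.2
    exact h1.of_equiv (Subgroup.subgroupOfEquivOfLe hKB)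
  have hp : IsPGroup p ((autInducedBy S Q).subgroupOf (E.autGroup Q)) :=
    hKp.of_equiv (Subgroup.subgroupOfEquivOfLe hKA).symm
  have hidxB : ¬ p ∣ (autInducedBy S Q).relIndex (F.autGroup Q) := by
    have := R.not_dvd_index
    rw [hR] at this
    exact this
  have hidx : ¬ p ∣ ((autInducedBy S Q).subgroupOf (E.autGroup Q)).index := by
    intro hdvd
    apply hidxB
    rw [← Subgroup.relIndex_mul_relIndex _ _ _ hKA hAB]
    exact Dvd.dvd.mul_right hdvd _
  exact ⟨hp.toSylow hidx, rfl⟩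

/-- Being fully normalized passes to subsystems over the same group. -/
theorem isFullyNormalized_of_le {E F : FusionSystem S} (hEF : E ≤ F) {Q : Subgroup Ω}
    (hQ : F.IsFullyNormalized Q) : E.IsFullyNormalized Q :=
  ⟨hQ.1, fun R hR => hQ.2 R (by obtain ⟨φ, hφ, hr⟩ := hR; exact ⟨φ, hEF Q hφ, hr⟩)⟩

section Residual

variable (p : ℕ) (F : FusionSystem S)

/-- The saturated subsystems of index prime to `p`. -/
def primeIndexFamily : Set (FusionSystem S) := {E | E.IsSaturated p ∧ E.HasPrimeToPIndexIn F p}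

/-- The maps lying in all of them. -/
def primeInter : FusionSystem S := interSystem F (primeIndexFamily p F)

/-- The subsystem generated by the maps of `primeInter` whose source is centric. -/
def primeResidual : FusionSystem S :=
  interSystem F {E | ∀ P : Subgroup Ω, F.IsCentric P → (primeInter p F).Hom P ⊆ E.Hom P}

theorem primeResidual_le_primeInter : primeResidual p F ≤ primeInter p F :=
  interSystem_le_of_mem F (fun _ _ => subset_rfl)

theorem primeInter_hom_subset_of_isCentric {P : Subgroup Ω} (hP : F.IsCentric P) :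
    (primeInter p F).Hom P ⊆ (primeResidual p F).Hom P :=
  fun _ hφ => ⟨hφ.1, fun _ hE => hE P hP hφ⟩

theorem primeResidual_le_of_mem {E : FusionSystem S} (hE : E ∈ primeIndexFamily p F) : primeResidual p F ≤ E :=
  fun P _ hφ => interSystem_le_of_mem F hE P (primeResidual_le_primeInter p F P hφ)

theorem isPPrimeResidual_primeResidual [Finite S] [Fact p.Prime] (hS : IsPGroup p S) (hF : F.IsSaturated p) :
    F.IsPPrimeResidual p (primeResidual p F) := by
  have hEF : primeResidual p F ≤ F := interSystem_le F _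
  have h14 : ∀ P : Subgroup Ω, F.IsCentric P →
      (Subgroup.closure {α : ↥(F.autGroup P) | ∃ k : ℕ, orderOf α = p ^ k}).map (F.autGroup P).subtype ≤
        (primeResidual p F).autGroup P := by
    intro P hP α hα
    have hPS := hP.1
    rw [mem_autGroup_iff _ hPS]
    apply primeInter_hom_subset_of_isCentric p F hP
    refine ⟨?_, fun E' hE' => ?_⟩
    · obtain ⟨a, -, rfl⟩ := hα
      exact (mem_autGroup_iff F hPS _).mp a.2
    · have := hE'.2.2 P hPS hα
      exact (mem_autGroup_iff E' hPS _).mp this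
  obtain ⟨hidx, hfr, hcen⟩ := Cfsg.Agent.S5114.result p hS F hF (primeResidual p F) hEF h14
  have hgen : ∀ E' : FusionSystem S, (∀ P ∈ {P : Subgroup Ω | F.IsCentric P},
      (primeResidual p F).Hom P ⊆ E'.Hom P) → primeResidual p F ≤ E' := fun E' hE' =>
    interSystem_le_of_mem F (fun P hP => (primeInter_hom_subset_of_isCentric p F hP).trans (hE' P hP))
  have hsatE : (primeResidual p F).IsSaturated p := by
    refine Cfsg.Agent.Helper84.saturated_of_criterion p hS (primeResidual p F) {P : Subgroup Ω | F.IsCentric P}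
      ?_ ?_ hgen ?_
    · intro P hP Q hPQ
      obtain ⟨φ, hφ, hr⟩ := hPQ
      exact isCentric_of_isConj F hP ⟨φ, hEF P hφ, hr⟩
    · intro P hP
      have hPS : P ≤ S := hP.1
      obtain ⟨Q₀, hPQ₀, hQ₀n⟩ := exists_isConj_fullyNormalized F hPS
      obtain ⟨φ, hφ, hφr⟩ := hPQ₀
      obtain ⟨α, hα, φ₀, hφ₀, hαφ⟩ := hfr P φ hφ
      have hφ₀S : ∀ x, φ₀ x ∈ S := ((primeResidual p F).le_of_mem hφ₀).2
      have hQS : φ₀.range ≤ S := by
        rintro _ ⟨x, rfl⟩
        exact hφ₀S x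
      have hEconj : (primeResidual p F).IsConj P φ₀.range := ⟨φ₀, hφ₀, rfl⟩
      have hFconjPQ : F.IsConj P φ₀.range := ⟨φ₀, hEF P hφ₀, rfl⟩
      have hFconjQQ₀ : F.IsConj φ₀.range Q₀ := isConj_trans F (isConj_symm F hFconjPQ) ⟨φ, hφ, hφr⟩
      have hαQ : ∀ x : S, (x : Ω) ∈ φ₀.range ↔ ((α x : S) : Ω) ∈ Q₀ := by
        intro x
        constructor
        · rintro ⟨y, hy⟩
          have hx : x = ⟨φ₀ y, hφ₀S y⟩ := Subtype.ext hy.symm
          rw [hx, ← hαφ y (hφ₀S y), ← hφr]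
          exact ⟨y, rfl⟩
        · intro hx
          rw [← hφr] at hx
          obtain ⟨y, hy⟩ := hx
          have h1 := hαφ y (hφ₀S y)
          have h2 : (α ⟨φ₀ y, hφ₀S y⟩ : S) = α x := Subtype.ext (h1.symm.trans hy)
          have h3 := α.injective h2
          exact ⟨y, congrArg Subtype.val h3⟩
      have hcard := card_normalizerIn_le_of_aut α hQS hαQ
      have hQn : F.IsFullyNormalized φ₀.range :=
        ⟨hQS, fun R hR => (hQ₀n.2 R (isConj_trans F (isConj_symm F hFconjQQ₀) hR)).trans hcard⟩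
      obtain ⟨hQc, hQa⟩ := fullyAutomized_fullyCentralized_of_fullyNormalized hS F hF hQn
      have hQr : F.IsReceptive φ₀.range := receptive_of_fullyCentralized hS F hF hQc
      refine ⟨φ₀.range, hEconj, isFullyAutomized_of_le hEF hQa, hQS, fun R ψ hψ hψr => ?_⟩
      have hψF : ψ ∈ F.Hom R := hEF R hψ
      obtain ⟨ψ', hψ', hψ'x⟩ := hQr.2 R ψ hψF hψr
      have hRN : R ≤ extender S R ψ := le_extender_of_mem F hψF
      have hNS : extender S R ψ ≤ S := (F.le_of_mem hψ').1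
      have hRc : F.IsCentric R :=
        isCentric_of_isConj F hP (isConj_trans F hFconjPQ (isConj_symm F ⟨ψ, hψF, hψr⟩))
      have hNc : F.IsCentric (extender S R ψ) := isCentric_of_le F hRc hRN hNS
      refine ⟨ψ', primeInter_hom_subset_of_isCentric p F hNc ⟨hψ', fun E' hE' => ?_⟩, hψ'x⟩
      have hE'F : E' ≤ F := hE'.2.1
      have hQn' : E'.IsFullyNormalized φ₀.range := isFullyNormalized_of_le hE'F hQn
      obtain ⟨hQc', -⟩ := fullyAutomized_fullyCentralized_of_fullyNormalized hS E' hE'.1 hQn'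
      have hQr' : E'.IsReceptive φ₀.range := receptive_of_fullyCentralized hS E' hE'.1 hQc'
      have hψE' : ψ ∈ E'.Hom R := primeResidual_le_of_mem p F hE' R hψ
      obtain ⟨ψ'', hψ'', hψ''x⟩ := hQr'.2 R ψ hψE' hψr
      have hagree : ∀ x : extender S R ψ, (x : Ω) ∈ R → ψ'' x = ψ' x := fun x hx =>
        (hψ''x x hx x.2).trans (hψ'x x hx x.2).symm
      obtain ⟨z, hzR, hzc, hz⟩ := Cfsg.Agent.S5095.result p hS F hF (extender S R ψ) R hRN hRc ψ'' ψ'
        (hE'F _ hψ'') hψ' hagree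
      have hcz : conjHom (extender S R ψ) (z : Ω) ∈ E'.Hom (extender S R ψ) := E'.conj_mem hNS (hNS z.2)
      have hczN : ∀ x : extender S R ψ, conjHom (extender S R ψ) (z : Ω) x ∈ extender S R ψ := fun x =>
        (extender S R ψ).mul_mem ((extender S R ψ).mul_mem z.2 x.2) ((extender S R ψ).inv_mem z.2)
      have hcomp := E'.comp_mem hcz hψ'' hczN
      refine mem_of_eq E' hcomp (fun y => ?_)
      rw [hz y]
      rfl
    · intro P hPc hPn
      exact absurd ((hcen P).mp hPc) hPn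
  exact ⟨hsatE, hidx, fun D hDs hDi => primeResidual_le_of_mem p F ⟨hDs, hDi⟩⟩

end Residual

end Cfsg.Agent.Helper85
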