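import Cfsg.Agent.Helper85.FacBasic
import Cfsg.Agent.Helper88.FusionBasic
import Cfsg.Agent.Helper88.FTransfer2
set_option autoImplicit false

/-!
# The focal subgroup and morphisms of fusion systems

The image of the focal subgroup under a morphism of fusion systems lies in the focal subgroup of the target; so a
system whose factor system has a proper focal subgroup has a proper focal subgroup itself.
-/

namespace Cfsg.Agent.Helper85

open Cfsg Cfsg.FusionSystem

variable {Ω : Type*} [Group Ω] {S : Subgroup Ω} {Ω' : Type*} [Group Ω'] {S' : Subgroup Ω'}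

/-- A morphism of fusion systems carries the focal subgroup into the focal subgroup. -/
theorem focal_map_mem (F : FusionSystem S) (E : FusionSystem S') (θ : S →* Ω') (hm : F.IsMorphism E θ) :
    ∀ y ∈ F.focalSubgroup, ∃ hy : y ∈ S, θ ⟨y, hy⟩ ∈ E.focalSubgroup := by
  intro y hy
  unfold focalSubgroup at hy
  induction hy using Subgroup.closure_induction with
  | mem y hy =>
    obtain ⟨P, φ, x, hφ, rfl⟩ := hy
    have hxS : (x : Ω) ∈ S := (F.le_of_mem hφ).1 x.2
    have hφS : φ x ∈ S := (F.le_of_mem hφ).2 x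
    refine ⟨S.mul_mem (S.inv_mem hxS) hφS, ?_⟩
    obtain ⟨φ', hφ', hP, hφv, hP', hind⟩ := hm.2 P φ hφ
    have e : (⟨(x : Ω)⁻¹ * φ x, S.mul_mem (S.inv_mem hxS) hφS⟩ : ↥S) = (⟨x, hxS⟩ : ↥S)⁻¹ * ⟨φ x, hφS⟩ :=
      Subtype.ext rfl
    rw [e, map_mul, map_inv]
    have h1 := hind x
    unfold focalSubgroup
    apply Subgroup.subset_closure
    refine ⟨imageAlong θ P, φ', ⟨θ ⟨x, hP x.2⟩, hP' x⟩, hφ', ?_⟩
    rw [h1]
  | one => exact ⟨S.one_mem, by
      have : (⟨1, S.one_mem⟩ : ↥S) = 1 := rfl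
      rw [this, map_one]; exact Subgroup.one_mem _⟩
  | mul a b _ _ ha hb =>
    obtain ⟨h1, h2⟩ := ha
    obtain ⟨h3, h4⟩ := hb
    refine ⟨S.mul_mem h1 h3, ?_⟩
    have e : (⟨a * b, S.mul_mem h1 h3⟩ : ↥S) = ⟨a, h1⟩ * ⟨b, h3⟩ := Subtype.ext rfl
    rw [e, map_mul]
    exact Subgroup.mul_mem _ h2 h4
  | inv a _ ha =>
    obtain ⟨h1, h2⟩ := ha
    refine ⟨S.inv_mem h1, ?_⟩
    have e : (⟨a⁻¹, S.inv_mem h1⟩ : ↥S) = (⟨a, h1⟩ : ↥S)⁻¹ := Subtype.ext rfl
    rw [e, map_inv]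
    exact Subgroup.inv_mem _ h2

/-- If the target of a morphism onto `S'` has a proper focal subgroup, so has the source. -/
theorem focal_lt_of_morphism (F : FusionSystem S) (E : FusionSystem S') (θ : S →* Ω') (hm : F.IsMorphism E θ)
    (hrange : θ.range = S') (hlt : E.focalSubgroup < S') : F.focalSubgroup < S := by
  refine lt_of_le_of_ne (Cfsg.Agent.Helper88.Biset.focalSubgroup_le F) (fun heq => ?_)
  apply hlt.not_ge
  intro y hy
  rw [← hrange] at hy
  obtain ⟨s, rfl⟩ := hy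
  have hs : (s : Ω) ∈ F.focalSubgroup := by rw [heq]; exact s.2
  obtain ⟨_, h2⟩ := focal_map_mem F E θ hm _ hs
  exact h2


/-- The automizer of the top group in a factor system is a `p`-group if the automizer of the top group is. -/
theorem isPGroup_autGroup_of_isFacF {Ω₁ : Type*} [Group Ω₁] {f : Ω → Ω₁} {S₀ : Subgroup Ω} [Finite S]
    {F : FusionSystem S} {S₁ : Subgroup Ω₁} {E' : FusionSystem S₁} (h : IsFacF f S₀ F E') {p : ℕ}
    (haut : IsPGroup p ↥(F.autGroup S)) : IsPGroup p ↥(E'.autGroup S₁) := by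
  rintro ⟨β, hβ⟩
  have hβ' := (Cfsg.Agent.Helper88.mem_autGroup E' le_rfl β).mp hβ
  obtain ⟨-, P, φ, hφ, hP, hind⟩ := (h.iff _ _).mp hβ'
  have hPS : P = S := by
    ext x
    rw [hP]
    exact ⟨fun hx => hx.1, fun hx => ⟨hx, h.im.map_mem hx⟩⟩
  subst hPS
  obtain ⟨k, hk⟩ := haut ⟨Cfsg.Agent.Helper88.homToAut F φ hφ, Cfsg.Agent.Helper88.homToAut_mem F φ hφ⟩
  have hk' : (Cfsg.Agent.Helper88.homToAut F φ hφ) ^ (p ^ k) = 1 := by
    have := congrArg Subtype.val hk
    simpa using this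
  have key : ∀ (n : ℕ) (x : P), (((β ^ n) ⟨f x, h.im.map_mem x.2⟩ : S₁) : Ω₁) =
      f (((Cfsg.Agent.Helper88.homToAut F φ hφ) ^ n) x : P) := by
    intro n
    induction n with
    | zero => intro x; simp
    | succ n ih =>
      intro x
      rw [pow_succ', pow_succ', MulAut.mul_apply, MulAut.mul_apply]
      have e : (β ^ n) ⟨f x, h.im.map_mem x.2⟩ =
          ⟨f (((Cfsg.Agent.Helper88.homToAut F φ hφ) ^ n) x : P),
            h.im.map_mem (((Cfsg.Agent.Helper88.homToAut F φ hφ) ^ n) x).2⟩ := Subtype.ext (ih x)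
      rw [e]
      have h1 := hind (((Cfsg.Agent.Helper88.homToAut F φ hφ) ^ n) x)
        (h.im.map_mem (((Cfsg.Agent.Helper88.homToAut F φ hφ) ^ n) x).2)
      exact h1
  refine ⟨k, ?_⟩
  apply Subtype.ext
  rw [Subgroup.coe_pow]
  show β ^ (p ^ k) = 1
  ext y
  obtain ⟨x, hx, hxy⟩ := h.exists_pre y.2
  have e : y = ⟨f x, h.im.map_mem hx⟩ := Subtype.ext hxy.symm
  rw [e]
  have := key (p ^ k) ⟨x, hx⟩
  rw [hk'] at this
  rw [this]
  rfl

end Cfsg.Agent.Helper85
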