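-- `H`-freeness passes to factor systems by normal subgroups, generic in `H` (helper85).
import Cfsg.Agent.Helper85.QuotFree
import Cfsg.Agent.Helper85.Morphism3
import Cfsg.Agent.S5134
import Cfsg.Agent.S3788

set_option autoImplicit false

namespace Cfsg.Agent.Helper85

open Cfsg Cfsg.FusionSystem

universe u v

/-- If `F` is saturated and `H`-free and `Q` is normal in `F`, then every factor system of `F` modulo `Q` is `H`-free. -/
theorem isSectionFree_factor {Ω : Type u} [Group Ω] {S : Subgroup Ω} [Finite S] (p : ℕ) [Fact p.Prime]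
    (hS : IsPGroup p S) (F : FusionSystem S) (hF : F.IsSaturated p) (Q : Subgroup Ω) (hQ : F.IsNormal Q)
    (H : Type*) [Group H] (hfree : F.IsSectionFree p H) {Ω' : Type v} [Group Ω'] {S' : Subgroup Ω'} (θ : S →* Ω')
    (E : FusionSystem S') (hE : F.IsFactorSystem Q θ E) : E.IsSectionFree p H := by
  intro P' hP'n hP'c N' hN' L' _ ι' hmod' hinv
  have h := isFacF_of_isFactorSystem hE
  have hS₀ : F.StronglyClosed Q := Cfsg.Agent.Helper87.stronglyClosed_of_isNormal F hQ
  have hEsat : E.IsSaturated p :=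
    isSaturated_of_surjectiveMorphism F E θ hS hF (Cfsg.Agent.S5134.result p hS F hF Q hS₀ θ E hE)
  obtain ⟨hPn, hPc, N, hN, L, instL, ι, hmod, π, hπ⟩ :=
    exists_model_surj p hS F hF Q hQ h hEsat P' hP'n hP'c N' hN' L' ι' hmod'
  exact hfree (h.pre P') hPn hPc N hN L ι hmod (Cfsg.Agent.S3788.involves_of_surjective π hπ hinv)

/-- The factor system of a saturated system by a normal subgroup is saturated. -/
theorem isSaturated_factor {Ω : Type u} [Group Ω] {S : Subgroup Ω} [Finite S] (p : ℕ) [Fact p.Prime]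
    (hS : IsPGroup p S) (F : FusionSystem S) (hF : F.IsSaturated p) (Q : Subgroup Ω) (hQ : F.StronglyClosed Q)
    {Ω' : Type v} [Group Ω'] {S' : Subgroup Ω'} (θ : S →* Ω') (E : FusionSystem S')
    (hE : F.IsFactorSystem Q θ E) : E.IsSaturated p :=
  isSaturated_of_surjectiveMorphism F E θ hS hF (Cfsg.Agent.S5134.result p hS F hF Q hQ θ E hE)

end Cfsg.Agent.Helper85
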