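import Cfsg.Agent.Helper78.Olsson.Defs
import Cfsg.Agent.Helper16.ContribMajor
import Cfsg.Agent.Helper77.DefectOrder

/-!
# Olsson's theorem, piece (VLEM): the valuation facts of a major subsection

Extracted from the proof of `Helper16.sum_contribE_major_ge` (board #7662, helper78, S4539).
-/

set_option autoImplicit false
set_option linter.style.haveILetI false
set_option linter.unusedSectionVars false
set_option linter.unusedVariables false

noncomputable section

namespace Cfsg.Agent.Helper85.Olsson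

open Cfsg
open scoped ComplexConjugate
open Cfsg.Agent.S4426 (cut)
open Cfsg.Agent.Helper16
open Cfsg.Agent.Helper78.Olsson

variable {G : Type*} [Group G] [Fintype G] {M : Ideal AlgInt} {p : ℕ}

open Classical in
/-- (VLEM) the valuation facts of a major subsection, extracted from
`Helper16.sum_contribE_major_ge`. -/
theorem major_facts [Fact p.Prime] (hM : IsPModular p M) {B : Set (IrrCharacter G)}
    (hB : IsPBlock M B) (H : Subgroup G) [Fintype H] (yH : H)
    (hyc : yH ∈ Subgroup.center H) (hHy : H = Subgroup.centralizer ({(yH : G)} : Set G))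
    (n : ℕ) (hy : orderOf (yH : G) ∣ p ^ n) {b : Set (IrrCharacter H)}
    (hind : IsInducedBlock M H b B) (hdef : blockDefect p b = blockDefect p B)
    (γ : ℕ) (hγ : γ ∈ unitsRange p n) :
    (H = Subgroup.centralizer ({(yH : G) ^ γ} : Set G)) ∧
    (∃ k : ℕ, orderOf ((yH : G) ^ γ) = p ^ k) ∧
    (∀ ψ : IrrCharacter G, ψ ∈ B → blockHeight p B (ψ : G → ℂ) = 0 →
      ¬ MemLocalIdeal M (((p ^ blockDefect p B : ℕ) : ℂ) *
        contribE p H ((yH : G) ^ γ) b (ψ : G → ℂ) (ψ : G → ℂ))) ∧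
    (∀ χ ψ : IrrCharacter G, χ ∈ B → ψ ∈ B → blockHeight p B (ψ : G → ℂ) = 0 →
      contribE p H ((yH : G) ^ γ) b (χ : G → ℂ) (ψ : G → ℂ) ≠ 0) ∧
    (∀ χ : IrrCharacter G, χ ∈ B →
      contribE p H ((yH : G) ^ γ) b (χ : G → ℂ) (χ : G → ℂ) ≠ 0) ∧
    (∀ χ : IrrCharacter G, χ ∈ B →
      MemLocalRing M (((p ^ blockDefect p B : ℕ) : ℂ) *
        contribE p H ((yH : G) ^ γ) b (χ : G → ℂ) (χ : G → ℂ) /
          ((p ^ blockHeight p B (χ : G → ℂ) : ℕ) : ℂ))) := by
  haveI hMp : M.IsPrime := IsPModular.isPrime hM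
  have hpr : p.Prime := Fact.out
  have hb : IsPBlock M b := hind.1
  have hyHpow : yH ^ (p ^ n) = 1 := by
    apply Subtype.ext
    rw [SubmonoidClass.coe_pow]
    exact orderOf_dvd_iff_pow_eq_one.mp hy
  obtain ⟨k₀, hk₀⟩ : ∃ k : ℕ, orderOf (yH : G) = p ^ k := by
    obtain ⟨k, -, hk⟩ := (Nat.dvd_prime_pow hpr).1 hy
    exact ⟨k, hk⟩
  have hγ' : Nat.Coprime (p ^ n) γ := by
    unfold unitsRange at hγ
    rw [Finset.mem_filter] at hγ
    exact hγ.2
  have hcop : Nat.Coprime γ (orderOf (yH : G)) :=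
    Nat.Coprime.coprime_dvd_right hy hγ'.symm
  have hH' : H = Subgroup.centralizer ({(yH : G) ^ γ} : Set G) :=
    hHy.trans (centralizer_pow_eq_of_coprime (yH : G) hcop)
  have hxγ : ∃ k : ℕ, orderOf ((yH : G) ^ γ) = p ^ k :=
    exists_orderOf_pow_eq_prime_pow hpr (yH : G) hk₀ γ
  -- the unit statement
  have hunit : ∀ ψ : IrrCharacter G, ψ ∈ B → blockHeight p B (ψ : G → ℂ) = 0 →
      ¬ MemLocalIdeal M (((p ^ blockDefect p B : ℕ) : ℂ) *
        contribE p H ((yH : G) ^ γ) b (ψ : G → ℂ) (ψ : G → ℂ)) := by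
    intro ψ hψ hψ0
    obtain ⟨A', μ', hμ', hform'⟩ := exists_pow_form hM H yH hyc n hyHpow hb ψ ψ
    rw [hdef] at hform'
    have hnv := contribE_one_not_memLocalIdeal hM H hind ψ ψ hψ hψ hψ0 hψ0
    rw [hdef] at hnv
    have h0 := hform' 0
    rw [pow_zero] at h0
    rw [h0] at hnv
    rw [hform' γ]
    exact pow_form_not_memLocalIdeal hM A' μ' hμ' hnv γ
  have hne : ∀ χ ψ : IrrCharacter G, χ ∈ B → ψ ∈ B → blockHeight p B (ψ : G → ℂ) = 0 →
      contribE p H ((yH : G) ^ γ) b (χ : G → ℂ) (ψ : G → ℂ) ≠ 0 := by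
    intro χ ψ hχ hψ hψ0
    exact contribE_ne_zero_of_unit hM ((yH : G) ^ γ) hxγ H hH' hb hB χ ψ hχ hψ hψ0
      (hunit ψ hψ hψ0)
  refine ⟨hH', hxγ, hunit, hne, ?_, ?_⟩
  · intro χ hχ
    obtain ⟨ψ, hψ, hψ0⟩ := Helper78.exists_height_zero (p := p) hMp hB
    have hne' := hne χ ψ hχ hψ hψ0
    have hrow := sum_contribE_row' hM ((yH : G) ^ γ) hxγ H hH' hb χ
    have hpos : 0 < (contribE p H ((yH : G) ^ γ) b (χ : G → ℂ) (χ : G → ℂ)).re := by
      rw [← hrow, Complex.re_sum]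
      have hnn : ∀ ζ : IrrCharacter G, 0 ≤
          (contribE p H ((yH : G) ^ γ) b (χ : G → ℂ) (ζ : G → ℂ) *
            conj (contribE p H ((yH : G) ^ γ) b (χ : G → ℂ) (ζ : G → ℂ))).re := by
        intro ζ
        rw [Complex.mul_conj, Complex.ofReal_re]
        exact Complex.normSq_nonneg _
      refine lt_of_lt_of_le ?_ (Finset.single_le_sum (fun ζ _ => hnn ζ) (Finset.mem_univ ψ))
      rw [Complex.mul_conj, Complex.ofReal_re]
      exact Complex.normSq_pos.mpr hne'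
    intro hz
    rw [hz] at hpos
    simp at hpos
  · intro χ hχ
    exact memLocalRing_contribE_div_height hM ((yH : G) ^ γ) hxγ H hH' hb χ hχ

end Cfsg.Agent.Helper85.Olsson

end
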