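import Cfsg.Agent.Helper85.KLStep
import Cfsg.Agent.Helper50.KLC
import Cfsg.Agent.Helper55.KLInd
import Cfsg.Agent.Helper37.KLG
import Cfsg.Agent.Helper87.KLB
set_option autoImplicit false

/-!
Assembly of the key lemma: an automorphism in `Aut_E(T)` whose restriction to an `E`-centric subgroup is a map of a
weakly normal subsystem `D` over `T` lies in `Aut_D(T)`.
-/

namespace Cfsg.Agent.Helper85.KL

open Cfsg Cfsg.FusionSystem

variable {Ω : Type*} [Group Ω] {S T : Subgroup Ω}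

theorem exists_pow_mem_autGroup [Finite S] (p : ℕ) [Fact p.Prime] (hS : IsPGroup p S) (F : FusionSystem S)
    (hF : F.IsSaturated p) (D : FusionSystem T) (hD : D.IsWeaklyNormalIn F p) {P : Subgroup Ω}
    (hP : TCentric F T P) (α : MulAut T) (hα : α ∈ restrSet F D P) : ∃ k : ℕ, α ^ p ^ k ∈ D.autGroup T := by
  have hTS : T ≤ S := hD.2.2.2.1.1
  have : Finite T := Finite.of_injective (Subgroup.inclusion hTS) (Subgroup.inclusion_injective hTS)
  exact Cfsg.Agent.Helper55.KLInd.exists_pow_mem_autGroup_of p hS F D hD.2.2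
    (fun X B Y Z h1 h2 h3 h4 h5 h6 h7 => Cfsg.Agent.Helper50.KL.exists_pow_mem_of_mul p X B Y Z h1 h2 h3 h4 h5 h6 h7)
    (fun hPT hPn hPc α hα => restrSet_step p hS F hF D hD hPT hPn hPc α hα) hP α hα

theorem mem_autGroup_of_resAut_mem [Finite S] (p : ℕ) [Fact p.Prime] (hS : IsPGroup p S) (F : FusionSystem S)
    (hF : F.IsSaturated p) (E D : FusionSystem T) (hE : E.IsWeaklyNormalIn F p) (hD : D.IsWeaklyNormalIn F p)
    {P : Subgroup Ω} (hPT : P ≤ T) (hPc : E.IsCentric P) (α : MulAut T) (hαE : α ∈ E.autGroup T)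
    (hαP : resAut hPT α ∈ D.Hom P) : α ∈ D.autGroup T :=
  Cfsg.Agent.Helper37.KL.mem_autGroup_of_resAut_mem_of p F E D hE
    (fun hP α hα => exists_pow_mem_autGroup p hS F hF D hD hP α hα) hPT hPc α hαE hαP

end Cfsg.Agent.Helper85.KL
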