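import Mathlib
import Cfsg.Agent.Helper43.EF.Defs
import Cfsg.Agent.Helper43.SpOrthA
import Cfsg.Agent.Helper43.LagrB
import Cfsg.Agent.Helper99.SpStructA
import Cfsg.Agent.S0776

/-!
# (STD1) for S5976 (helper43, board #7932): every involution of `Sp_{2d}(F)`, `2 ≠ 0`, is
`Sp`-conjugate to a block-diagonal `diag(E, E)` with `E` diagonal.
-/

set_option autoImplicit false
set_option linter.unusedSectionVars false
set_option linter.unusedVariables false

namespace Cfsg.Agent.Helper85.EF

open Matrix Cfsg Cfsg.Geo Cfsg.Agent.Helper13 Module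
open Cfsg.Agent.Helper99.SpStruct

section Abstract

universe u v

variable {F : Type u} [Field F] {V : Type v} [AddCommGroup V] [Module F V]
  {B : LinearMap.BilinForm F V}

/-- two vectors with nonzero pairing span a nondegenerate plane -/
theorem plane_nd (hB : B.IsAlt) {u w : V} (huw : B u w ≠ 0) :
    Nd B (Submodule.span F {u, w}) ∧ finrank F ↥(Submodule.span F {u, w}) = 2 := by
  have hwu : B w u ≠ 0 := by
    intro h
    apply huw
    rw [← hB.neg_eq, h, neg_zero]
  have hli : LinearIndependent F ![u, w] := by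
    rw [LinearIndependent.pair_iff]
    intro s t hst
    have h1 : B u (s • u + t • w) = 0 := by rw [hst, map_zero]
    rw [map_add, map_smul, map_smul, hB.self_eq_zero, smul_zero, zero_add, smul_eq_mul] at h1
    have ht : t = 0 := by
      rcases mul_eq_zero.mp h1 with h | h
      · exact h
      · exact absurd h huw
    have h2 : B w (s • u + t • w) = 0 := by rw [hst, map_zero]
    rw [map_add, map_smul, map_smul, hB.self_eq_zero, smul_zero, add_zero, smul_eq_mul] at h2
    have hs : s = 0 := by
      rcases mul_eq_zero.mp h2 with h | h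
      · exact h
      · exact absurd h hwu
    exact ⟨hs, ht⟩
  have hrange : Set.range ![u, w] = {u, w} := by
    ext z
    simp only [Set.mem_range, Set.mem_insert_iff, Set.mem_singleton_iff]
    constructor
    · rintro ⟨j, rfl⟩
      fin_cases j
      · left; rfl
      · right; rfl
    · rintro (rfl | rfl)
      · exact ⟨0, rfl⟩
      · exact ⟨1, rfl⟩
  constructor
  · rw [nd_iff]
    intro x hx hx'
    obtain ⟨s, t, rfl⟩ := Submodule.mem_span_pair.mp hx
    have h1 := hx' u (Submodule.subset_span (by simp))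
    rw [map_add, map_smul, map_smul, hB.self_eq_zero, smul_zero, zero_add, smul_eq_mul] at h1
    have ht : t = 0 := by
      rcases mul_eq_zero.mp h1 with h | h
      · exact h
      · exact absurd h huw
    have h2 := hx' w (Submodule.subset_span (by simp))
    rw [map_add, map_smul, map_smul, hB.self_eq_zero, smul_zero, add_zero, smul_eq_mul] at h2
    have hs : s = 0 := by
      rcases mul_eq_zero.mp h2 with h | h
      · exact h
      · exact absurd h hwu
    rw [hs, ht, zero_smul, zero_smul, add_zero]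
  · rw [← hrange, finrank_span_eq_card hli, Fintype.card_fin]

variable [FiniteDimensional F V]

/-- a hyperbolic family of eigenvectors of an isometric involution in every invariant
nondegenerate subspace -/
theorem exists_hyp_family (h2 : (2 : F) ≠ 0) (hB : B.IsAlt) (φ : V →ₗ[F] V)
    (hφ2 : ∀ v, φ (φ v) = v) (hφB : ∀ u v, B (φ u) (φ v) = B u v) :
    ∀ k : ℕ, ∀ W : Submodule F V, Nd B W → (∀ w ∈ W, φ w ∈ W) → finrank F ↥W = 2 * k →
      ∃ (e f : Fin k → V) (ε : Fin k → F),
        (∀ i, e i ∈ W) ∧ (∀ i, f i ∈ W) ∧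
        (∀ i j, B (e i) (e j) = 0) ∧ (∀ i j, B (f i) (f j) = 0) ∧
        (∀ i j, B (e i) (f j) = if i = j then -1 else 0) ∧
        (∀ i, φ (e i) = ε i • e i) ∧ (∀ i, φ (f i) = ε i • f i) := by
  intro k
  induction k with
  | zero =>
    intro W _ _ _
    exact ⟨fun i => i.elim0, fun i => i.elim0, fun i => i.elim0, fun i => i.elim0,
      fun i => i.elim0, fun i => i.elim0, fun i => i.elim0, fun i => i.elim0,
      fun i => i.elim0, fun i => i.elim0⟩
  | succ k ih =>
    intro W hW hWφ hdim
    have hWne : W ≠ ⊥ := by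
      intro h
      rw [h, finrank_bot] at hdim
      omega
    obtain ⟨w₀, hw₀, hw₀0⟩ := Submodule.exists_mem_ne_zero_of_ne_bot hWne
    -- an eigenvector
    obtain ⟨u, ε₀, huW, hu0, hφu, hε⟩ : ∃ (u : V) (ε₀ : F), u ∈ W ∧ u ≠ 0 ∧ φ u = ε₀ • u ∧
        ε₀ * ε₀ = 1 := by
      by_cases h : w₀ + φ w₀ = 0
      · refine ⟨w₀, -1, hw₀, hw₀0, ?_, by ring⟩
        rw [neg_smul, one_smul]
        exact (eq_neg_of_add_eq_zero_right h)
      · refine ⟨w₀ + φ w₀, 1, W.add_mem hw₀ (hWφ _ hw₀), h, ?_, by ring⟩
        rw [map_add, hφ2, one_smul, add_comm]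
    -- a partner
    have hex : ∃ w ∈ W, B w u ≠ 0 := by
      by_contra hcon
      push Not at hcon
      exact hu0 (nd_iff.mp hW u huW hcon)
    obtain ⟨w, hwW, hwu⟩ := hex
    have huw : B u w ≠ 0 := by
      intro h
      apply hwu
      rw [← hB.neg_eq, h, neg_zero]
    set w' : V := w + ε₀ • φ w with hw'
    have hw'W : w' ∈ W := W.add_mem hwW (W.smul_mem _ (hWφ _ hwW))
    have hφw' : φ w' = ε₀ • w' := by
      rw [hw', map_add, map_smul, hφ2, smul_add, smul_smul, hε, one_smul, add_comm]
    have hBuφw : B u (φ w) = ε₀ * B u w := by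
      have := hφB u (φ w)
      rw [hφ2, hφu, map_smul, LinearMap.smul_apply, smul_eq_mul] at this
      exact this.symm
    have hBuw' : B u w' = 2 * B u w := by
      rw [hw', map_add, map_smul, hBuφw, smul_eq_mul, ← mul_assoc, hε]
      ring
    set c : F := B u w' with hc
    have hc0 : c ≠ 0 := by
      intro h0
      apply mul_ne_zero h2 huw
      rw [← hBuw']
      exact h0
    set f₀ : V := (-c⁻¹) • w' with hf₀
    have hf₀W : f₀ ∈ W := W.smul_mem _ hw'W
    have hBuf₀ : B u f₀ = -1 := by
      rw [hf₀, map_smul, smul_eq_mul, ← hc]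
      field_simp
    have hφf₀ : φ f₀ = ε₀ • f₀ := by
      rw [hf₀, map_smul, hφw', smul_comm]
    have hBf₀u : B f₀ u = 1 := by
      rw [← hB.neg_eq, hBuf₀, neg_neg]
    -- the plane
    set P : Submodule F V := Submodule.span F {u, f₀} with hP
    obtain ⟨hPnd, hPdim⟩ : Nd B P ∧ finrank F ↥P = 2 :=
      plane_nd hB (u := u) (w := f₀) (by rw [hBuf₀]; norm_num)
    have huP : u ∈ P := Submodule.subset_span (by simp)
    have hf₀P : f₀ ∈ P := Submodule.subset_span (by simp)
    have hPW : P ≤ W := by
      rw [hP, Submodule.span_le]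
      rintro z (rfl | rfl)
      · exact huW
      · exact hf₀W
    have hPφ : ∀ z ∈ P, φ z ∈ P := by
      intro z hz
      obtain ⟨s, t, rfl⟩ := Submodule.mem_span_pair.mp hz
      rw [map_add, map_smul, map_smul, hφu, hφf₀]
      exact P.add_mem (P.smul_mem _ (P.smul_mem _ huP)) (P.smul_mem _ (P.smul_mem _ hf₀P))
    set W' : Submodule F V := W ⊓ B.orthogonal P with hW'
    have hW'nd : Nd B W' := hPnd.inf_orth hB.isRefl hPW hW
    have hW'dim : finrank F ↥W' = 2 * k := by
      have := hPnd.finrank_inf_orth hB.isRefl hPW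
      show finrank F ↥(W ⊓ B.orthogonal P) = 2 * k
      omega
    have horth : ∀ z ∈ P, ∀ y ∈ W', B z y = 0 := by
      intro z hz y hy
      have := (Submodule.mem_inf.mp hy).2
      rw [LinearMap.BilinForm.mem_orthogonal_iff] at this
      exact this z hz
    have horth' : ∀ z ∈ P, ∀ y ∈ W', B y z = 0 := by
      intro z hz y hy
      rw [← hB.neg_eq, horth z hz y hy, neg_zero]
    have hW'φ : ∀ y ∈ W', φ y ∈ W' := by
      intro y hy
      refine Submodule.mem_inf.mpr ⟨hWφ _ (Submodule.mem_inf.mp hy).1, ?_⟩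
      rw [LinearMap.BilinForm.mem_orthogonal_iff]
      intro z hz
      show B z (φ y) = 0
      have := hφB (φ z) y
      rw [hφ2] at this
      rw [this]
      exact horth _ (hPφ z hz) y hy
    obtain ⟨e', f', ε', he'W, hf'W, hee, hff, hef, hφe, hφf⟩ := ih W' hW'nd hW'φ hW'dim
    refine ⟨Fin.cons u e', Fin.cons f₀ f', Fin.cons ε₀ ε', ?_, ?_, ?_, ?_, ?_, ?_, ?_⟩
    · intro i
      refine Fin.cases ?_ (fun i => ?_) i
      · simpa using huW
      · exact (Submodule.mem_inf.mp (he'W i)).1
    · intro i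
      refine Fin.cases ?_ (fun i => ?_) i
      · simpa using hf₀W
      · exact (Submodule.mem_inf.mp (hf'W i)).1
    · intro i j
      refine Fin.cases ?_ (fun i => ?_) i <;> refine Fin.cases ?_ (fun j => ?_) j
      · simpa using hB.self_eq_zero u
      · simpa using horth u huP _ (he'W j)
      · simpa using horth' u huP _ (he'W i)
      · simpa using hee i j
    · intro i j
      refine Fin.cases ?_ (fun i => ?_) i <;> refine Fin.cases ?_ (fun j => ?_) j
      · simpa using hB.self_eq_zero f₀
      · simpa using horth f₀ hf₀P _ (hf'W j)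
      · simpa using horth' f₀ hf₀P _ (hf'W i)
      · simpa using hff i j
    · intro i j
      refine Fin.cases ?_ (fun i => ?_) i <;> refine Fin.cases ?_ (fun j => ?_) j
      · simpa using hBuf₀
      · have h0 : (0 : Fin (k + 1)) ≠ j.succ := (Fin.succ_ne_zero j).symm
        simpa [h0] using horth u huP _ (hf'W j)
      · have h0 : i.succ ≠ (0 : Fin (k + 1)) := Fin.succ_ne_zero i
        simpa [h0] using horth' f₀ hf₀P _ (he'W i)
      · simpa using hef i j
    · intro i
      refine Fin.cases ?_ (fun i => ?_) i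
      · simpa using hφu
      · simpa using hφe i
    · intro i
      refine Fin.cases ?_ (fun i => ?_) i
      · simpa using hφf₀
      · simpa using hφf i

end Abstract

section Concrete

variable {F : Type*} [Field F] {d : ℕ}

local notation "Vec" => (Fin d ⊕ Fin d → F)
local notation "Mat" => Matrix (Fin d ⊕ Fin d) (Fin d ⊕ Fin d) F
local notation "⟪" x ", " y "⟫" => Cfsg.sympForm d F x y

open Cfsg.Agent.S0776 Cfsg.Agent.Helper43.EF Cfsg.Agent.Helper43.SpOrth Cfsg.Agent.Helper43.Lagr

/-- (STD1) every involution of `Sp` is `Sp`-conjugate to a block-diagonal `diag(E, E)`,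
`E` diagonal with entries `±1` -/
theorem exists_conj_diag (h2 : (2 : F) ≠ 0) {x : GL (Fin d ⊕ Fin d) F} (hx : x ∈ Cfsg.spGL d F)
    (hx2 : (x : Mat) * (x : Mat) = 1) :
    ∃ g ∈ Cfsg.spGL d F, ∃ ε : Fin d → F,
      ((g⁻¹ : GL (Fin d ⊕ Fin d) F) : Mat) * (x : Mat) * (g : Mat) =
        Matrix.fromBlocks (Matrix.diagonal ε) 0 0 (Matrix.diagonal ε) := by
  classical
  set φ : Vec →ₗ[F] Vec := Matrix.mulVecLin (x : Mat) with hφ
  have hφa : ∀ v : Vec, φ v = (x : Mat) *ᵥ v := fun v => rfl
  have hφ2 : ∀ v, φ (φ v) = v := by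
    intro v
    rw [hφa, hφa, Matrix.mulVec_mulVec, hx2, Matrix.one_mulVec]
  have hφB : ∀ u v, omega d F (φ u) (φ v) = omega d F u v := by
    intro u v
    rw [omega_apply, omega_apply, hφa, hφa]
    exact (mem_spGL_iff x).1 hx u v
  have hnd : Nd (omega d F) (⊤ : Submodule F Vec) := by
    rw [nd_iff]
    intro u _ hu
    apply (omega_nondegenerate (F := F) d).2 u
    intro y
    exact hu y trivial
  have hdim : finrank F ↥(⊤ : Submodule F Vec) = 2 * d := by
    rw [finrank_top, Module.finrank_fintype_fun_eq_card, Fintype.card_sum, Fintype.card_fin]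
    ring
  obtain ⟨e, f, ε, -, -, hee, hff, hef, hφe, hφf⟩ :=
    exists_hyp_family h2 (omega_isAlt d) φ hφ2 hφB d ⊤ hnd (fun _ _ => trivial) hdim
  -- the matrix with columns `e j`, `f j`
  set G : Mat := Matrix.of (fun a b => Sum.elim e f b a) with hG
  have hcol : ∀ b, G.col b = Sum.elim e f b := fun b => rfl
  have hfe : ∀ i j, omega d F (f i) (e j) = if i = j then 1 else 0 := by
    intro i j
    rw [← (omega_isAlt (F := F) d).neg_eq, hef j i]
    by_cases h : i = j
    · subst h; simp
    · have h' : j ≠ i := fun hh => h hh.symm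
      simp [h, h']
  have hGs : G ∈ Matrix.symplecticGroup (Fin d) F := by
    apply mem_symplecticGroup_of_cols
    intro a b
    rw [hcol, hcol, ← omega_apply]
    rcases a with i | i <;> rcases b with j | j
    · rw [J_apply_inl_inl]; exact hee i j
    · rw [J_apply_inl_inr]; exact hef i j
    · rw [J_apply_inr_inl]; exact hfe i j
    · rw [J_apply_inr_inr]; exact hff i j
  set g : GL (Fin d ⊕ Fin d) F := sympToGL ⟨G, hGs⟩ with hg
  have hgG : (g : Mat) = G := rfl
  refine ⟨g, sympToGL_mem _, ε, ?_⟩
  have hkey : (x : Mat) * G = G * Matrix.fromBlocks (Matrix.diagonal ε) 0 0 (Matrix.diagonal ε) := by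
    ext a b
    have h1 : ((x : Mat) * G) a b = ((x : Mat) *ᵥ (G.col b)) a := rfl
    rw [h1, hcol, ← hφa]
    rcases b with j | j
    · rw [Sum.elim_inl, hφe j, Matrix.mul_apply, Fintype.sum_sum_type]
      simp only [Matrix.fromBlocks_apply₁₁, Matrix.fromBlocks_apply₂₁, Matrix.zero_apply,
        mul_zero, Finset.sum_const_zero, add_zero, Matrix.diagonal_apply, mul_ite,
        Finset.sum_ite_eq', Finset.mem_univ, if_true]
      rw [Pi.smul_apply, smul_eq_mul, mul_comm]
      rfl
    · rw [Sum.elim_inr, hφf j, Matrix.mul_apply, Fintype.sum_sum_type]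
      simp only [Matrix.fromBlocks_apply₁₂, Matrix.fromBlocks_apply₂₂, Matrix.zero_apply,
        mul_zero, Finset.sum_const_zero, zero_add, Matrix.diagonal_apply, mul_ite,
        Finset.sum_ite_eq', Finset.mem_univ, if_true]
      rw [Pi.smul_apply, smul_eq_mul, mul_comm]
      rfl
  rw [mul_assoc, hgG, hkey, ← mul_assoc, ← hgG, gl_inv_mul, one_mul]

end Concrete

end Cfsg.Agent.Helper85.EF
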