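-- Subgroups of the permutations of the 24 points given by lists of tables; normalizer and strong-closure
-- computations at table level (helper85; on top of helper7's table / chain machinery).
import Cfsg.Agent.Helper7.TableIso
import Cfsg.Agent.Helper63.PGroup
import Cfsg.Agent.Helper85.SimpleCrit

set_option autoImplicit false

namespace Cfsg.Agent.Helper85.Tab

open Cfsg Cfsg.Agent.Helper7

/-! ### Tables of products and inverses -/

theorem tableOf_mul (g g' : Equiv.Perm GolayPt) : tableOf (g * g') = compT (tableOf g) (tableOf g') :=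
  (((isTable_tableOf g).mul (isTable_tableOf g')).eq_tableOf).symm

theorem tableOf_one : tableOf (1 : Equiv.Perm GolayPt) = idT := (isTable_one.eq_tableOf).symm

theorem tableOf_inv (g : Equiv.Perm GolayPt) : tableOf g⁻¹ = invT (tableOf g) :=
  (((isTable_tableOf g).inv).eq_tableOf).symm

theorem tableOf_eq {l : List ℕ} {g : Equiv.Perm GolayPt} (h : IsTable l g) : tableOf g = l :=
  h.eq_tableOf.symm

theorem tableOf_injective : Function.Injective tableOf := by
  intro g g' h
  have h1 := isTable_tableOf g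
  rw [h] at h1
  exact h1.inj (isTable_tableOf g')

theorem mem_of_tabled {T : Subgroup (Equiv.Perm GolayPt)} {l : List ℕ} {g : Equiv.Perm GolayPt}
    (h : Tabled T l) (hg : IsTable l g) : g ∈ T := by
  obtain ⟨g', hg', hl⟩ := h
  rw [hg.inj hl]
  exact hg'

theorem tabled_tableOf {T : Subgroup (Equiv.Perm GolayPt)} {g : Equiv.Perm GolayPt} (hg : g ∈ T) :
    Tabled T (tableOf g) := ⟨g, hg, isTable_tableOf g⟩

/-! ### The subgroup given by a closed list of tables -/

/-- The list of tables contains the identity and is closed under products and inverses. -/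
def closedChk (tabs : List (List ℕ)) : Bool :=
  tabs.contains idT &&
    tabs.all (fun l => tabs.contains (invT l) && tabs.all (fun l' => tabs.contains (compT l l')))

/-- The subgroup of all permutations whose table is in the list. -/
def tabSub (tabs : List (List ℕ)) (h : closedChk tabs = true) : Subgroup (Equiv.Perm GolayPt) where
  carrier := {g | tableOf g ∈ tabs}
  mul_mem' := by
    intro g g' hg hg'
    rw [closedChk, Bool.and_eq_true, List.all_eq_true] at h
    have h1 := h.2 _ hg
    rw [Bool.and_eq_true, List.all_eq_true] at h1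
    have h2 := h1.2 _ hg'
    rw [List.contains_iff_mem] at h2
    show tableOf (g * g') ∈ tabs
    rw [tableOf_mul]
    exact h2
  one_mem' := by
    rw [closedChk, Bool.and_eq_true, List.contains_iff_mem] at h
    show tableOf 1 ∈ tabs
    rw [tableOf_one]
    exact h.1
  inv_mem' := by
    intro g hg
    rw [closedChk, Bool.and_eq_true, List.all_eq_true] at h
    have h1 := h.2 _ hg
    rw [Bool.and_eq_true, List.contains_iff_mem] at h1
    show tableOf g⁻¹ ∈ tabs
    rw [tableOf_inv]
    exact h1.1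

theorem mem_tabSub {tabs : List (List ℕ)} {h : closedChk tabs = true} {g : Equiv.Perm GolayPt} :
    g ∈ tabSub tabs h ↔ tableOf g ∈ tabs := Iff.rfl

theorem tabled_tabSub {tabs : List (List ℕ)} (h : closedChk tabs = true) {H : Subgroup (Equiv.Perm GolayPt)}
    {l : List ℕ} (hl : l ∈ tabs) (hH : Tabled H l) : Tabled (tabSub tabs h) l := by
  obtain ⟨g, -, hg⟩ := hH
  refine ⟨g, ?_, hg⟩
  rw [mem_tabSub, tableOf_eq hg]
  exact hl

theorem tabSub_le {tabs : List (List ℕ)} (h : closedChk tabs = true) {H : Subgroup (Equiv.Perm GolayPt)}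
    (hH : ∀ l ∈ tabs, Tabled H l) : tabSub tabs h ≤ H := by
  intro g hg
  exact mem_of_tabled (hH _ hg) (isTable_tableOf g)

theorem card_tabSub {tabs : List (List ℕ)} (h : closedChk tabs = true) (hnd : tabs.Nodup)
    {H : Subgroup (Equiv.Perm GolayPt)} (hH : ∀ l ∈ tabs, Tabled H l) :
    Nat.card (tabSub tabs h) = tabs.length := by
  apply card_of_tables _ _ hnd
  · intro g hg
    exact ⟨tableOf g, hg, isTable_tableOf g⟩
  · intro l hl
    obtain ⟨g, hg1, hg2⟩ := tabled_tabSub h hl (hH l hl)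
    exact ⟨g, hg1, hg2⟩

/-! ### Conjugation at table level -/

/-- Table of `g * x * g⁻¹`. -/
def conjT (lg lx : List ℕ) : List ℕ := compT (compT lg lx) (invT lg)

theorem IsTable.conj {lg lx : List ℕ} {g x : Equiv.Perm GolayPt} (hg : IsTable lg g) (hx : IsTable lx x) :
    IsTable (conjT lg lx) (g * x * g⁻¹) := (hg.mul hx).mul hg.inv

/-- One step of a strong-closure computation. -/
theorem conj_step {H S T : Subgroup (Equiv.Perm GolayPt)}
    (hcl : ∀ t ∈ T, ∀ g ∈ H, g * t * g⁻¹ ∈ S → g * t * g⁻¹ ∈ T) {lt lg : List ℕ} (ht : Tabled T lt)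
    (hg : Tabled H lg) (hS : Tabled S (conjT lg lt)) : Tabled T (conjT lg lt) := by
  obtain ⟨t, htT, hlt⟩ := ht
  obtain ⟨g, hgH, hlg⟩ := hg
  have h1 := IsTable.conj hlg hlt
  exact ⟨g * t * g⁻¹, hcl t htT g hgH (mem_of_tabled hS h1), h1⟩

/-! ### Ambient versions of `SelfNorm` and `NoStrClosed` -/

variable {P : Type*} [Group P]

/-- Elements of `H` normalizing `S` lie in `S`. -/
def SelfNormIn (H S : Subgroup P) : Prop :=
  ∀ g ∈ H, (∀ x, x ∈ S ↔ g * x * g⁻¹ ∈ S) → g ∈ S

/-- No proper nontrivial subgroup of `S` is closed under `H`-conjugation inside `S`. -/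
def NoStrClosedIn (H S : Subgroup P) : Prop :=
  ∀ T : Subgroup P, T ≤ S → (∀ t ∈ T, ∀ g ∈ H, g * t * g⁻¹ ∈ S → g * t * g⁻¹ ∈ T) → T = ⊥ ∨ T = S

theorem selfNorm_subgroupOf {H S : Subgroup P} (hSH : S ≤ H) (h : SelfNormIn H S) :
    SelfNorm (S.subgroupOf H) := by
  intro g hg
  rw [Subgroup.mem_normalizer_iff] at hg
  have hgS : (g : P) ∈ S := by
    apply h g g.2
    intro x
    by_cases hx : x ∈ H
    · have := hg ⟨x, hx⟩
      rw [Subgroup.mem_subgroupOf, Subgroup.mem_subgroupOf] at this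
      exact this
    · constructor
      · intro hxS
        exact absurd (hSH hxS) hx
      · intro hxS
        exfalso
        apply hx
        have h1 : (g : P)⁻¹ * ((g : P) * x * (g : P)⁻¹) * (g : P) ∈ H :=
          H.mul_mem (H.mul_mem (H.inv_mem g.2) (hSH hxS)) g.2
        have e : (g : P)⁻¹ * ((g : P) * x * (g : P)⁻¹) * (g : P) = x := by group
        rw [e] at h1
        exact h1
  exact ⟨g, Subgroup.mem_subgroupOf.2 hgS, fun x _ => rfl⟩

theorem noStrClosed_subgroupOf {H S : Subgroup P} (hSH : S ≤ H) (h : NoStrClosedIn H S) :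
    NoStrClosed (S.subgroupOf H) := by
  intro T hT hcl
  have hT' : T.map H.subtype ≤ S := by
    rintro _ ⟨t, ht, rfl⟩
    exact Subgroup.mem_subgroupOf.1 (hT ht)
  have hcl' : ∀ t ∈ T.map H.subtype, ∀ g ∈ H, g * t * g⁻¹ ∈ S → g * t * g⁻¹ ∈ T.map H.subtype := by
    rintro _ ⟨t, ht, rfl⟩ g hg hgt
    have := hcl t ht ⟨g, hg⟩ (Subgroup.mem_subgroupOf.2 hgt)
    exact ⟨_, this, rfl⟩
  rcases h _ hT' hcl' with h1 | h1
  · left
    rw [eq_bot_iff]
    intro t ht
    have : (t : P) ∈ T.map H.subtype := ⟨t, ht, rfl⟩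
    rw [h1, Subgroup.mem_bot] at this
    rw [Subgroup.mem_bot]
    exact Subtype.ext this
  · right
    apply le_antisymm hT
    intro t ht
    have : (t : P) ∈ T.map H.subtype := by
      rw [h1]
      exact Subgroup.mem_subgroupOf.1 ht
    obtain ⟨t', ht', e⟩ := this
    have : t' = t := Subtype.ext e
    rw [← this]
    exact ht'

/-- If the centre of `S` is `{1, z}`, every element normalizing `S` centralizes `z`. -/
theorem conj_eq_of_center_unique (S : Subgroup P) (z : P) (hzS : z ∈ S)
    (hzc : ∀ x ∈ S, z * x = x * z) (hZ : ∀ y ∈ S, (∀ x ∈ S, y * x = x * y) → y = 1 ∨ y = z)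
    (g : P) (hg : ∀ x, x ∈ S ↔ g * x * g⁻¹ ∈ S) : g * z * g⁻¹ = z := by
  have h1 : g * z * g⁻¹ ∈ S := (hg z).1 hzS
  have h2 : ∀ x ∈ S, g * z * g⁻¹ * x = x * (g * z * g⁻¹) := by
    intro x hx
    have hx' : g⁻¹ * x * g ∈ S := by
      rw [hg]
      have e : g * (g⁻¹ * x * g) * g⁻¹ = x := by group
      rw [e]
      exact hx
    have := hzc _ hx'
    calc g * z * g⁻¹ * x = g * (z * (g⁻¹ * x * g)) * g⁻¹ := by group
      _ = g * ((g⁻¹ * x * g) * z) * g⁻¹ := by rw [this]
      _ = x * (g * z * g⁻¹) := by group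
  rcases hZ _ h1 h2 with h3 | h3
  · have : z = 1 := by
      have e : z = g⁻¹ * (g * z * g⁻¹) * g := by group
      rw [e, h3]
      group
    rw [this]
    group
  · exact h3

/-- Strong closure: in a finite `p`-group `S` whose centre is `{1, z}`, a nontrivial strongly closed subgroup
contains `z`; so if every strongly closed subgroup containing `z` is `S`, there is no proper nontrivial one. -/
theorem noStrClosedIn_of_center {H S : Subgroup P} [Finite S] (p : ℕ) [Fact p.Prime] (hSp : IsPGroup p S)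
    (hSH : S ≤ H) (z : P)
    (hZ : ∀ y ∈ S, (∀ x ∈ S, y * x = x * y) → y = 1 ∨ y = z)
    (hgen : ∀ T : Subgroup P, T ≤ S → (∀ t ∈ T, ∀ g ∈ H, g * t * g⁻¹ ∈ S → g * t * g⁻¹ ∈ T) → z ∈ T → S ≤ T) :
    NoStrClosedIn H S := by
  intro T hTS hcl
  by_cases hT : T = ⊥
  · left; exact hT
  right
  apply le_antisymm hTS
  apply hgen T hTS hcl
  -- `T ∩ S` is a nontrivial normal subgroup of `S`
  have hnorm : (T.subgroupOf S).Normal := by
    constructor
    intro t ht s
    rw [Subgroup.mem_subgroupOf] at ht ⊢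
    have h1 : ((s : P) * (t : P) * (s : P)⁻¹) ∈ S := S.mul_mem (S.mul_mem s.2 t.2) (S.inv_mem s.2)
    exact hcl _ ht _ (hSH s.2) h1
  have hne : T.subgroupOf S ≠ ⊥ := by
    intro h
    apply hT
    rw [eq_bot_iff]
    intro t ht
    have : (⟨t, hTS ht⟩ : S) ∈ T.subgroupOf S := Subgroup.mem_subgroupOf.2 ht
    rw [h, Subgroup.mem_bot] at this
    rw [Subgroup.mem_bot]
    exact congrArg Subtype.val this
  have hmeet := Cfsg.Agent.Helper63.normal_inf_center_ne_bot hSp (T.subgroupOf S) hne
  obtain ⟨⟨y, hy⟩, hy1⟩ := (Subgroup.ne_bot_iff_exists_ne_one).1 hmeet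
  obtain ⟨hyT, hyZ⟩ := Subgroup.mem_inf.1 hy
  rw [Subgroup.mem_subgroupOf] at hyT
  have hyc : ∀ x ∈ S, (y : P) * x = x * (y : P) := by
    intro x hx
    have := (Subgroup.mem_center_iff.1 hyZ) ⟨x, hx⟩
    exact (congrArg Subtype.val this).symm
  rcases hZ _ y.2 hyc with h1 | h1
  · exfalso
    apply hy1
    exact Subtype.ext (Subtype.ext h1)
  · rw [← h1]
    exact hyT

end Cfsg.Agent.Helper85.Tab
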