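import Mathlib
import Cfsg.Prelude.Def_Characters

/-!
# S0984 sub-tree LOC (helper85): definitions

`fixSp ρ K`: the fixed space of a subgroup `K` in a representation `ρ`.
`Rep6 G`: a `6`-dimensional complex representation of `G` with trivial determinant, real character,
faithful, and without nonzero `G`-fixed vector.
-/

set_option autoImplicit false

namespace Cfsg.Agent.Helper85.A7

open scoped ComplexConjugate

universe u

variable {G : Type u} [Group G]

/-- the fixed space of the subgroup `K` in the representation `ρ` -/
def fixSp {V : Type*} [AddCommGroup V] [Module ℂ V] (ρ : Representation ℂ G V) (K : Subgroup G) :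
    Submodule ℂ V where
  carrier := {v | ∀ k ∈ K, ρ k v = v}
  add_mem' := by
    intro v w hv hw k hk
    rw [map_add, hv k hk, hw k hk]
  zero_mem' := by
    intro k _
    rw [map_zero]
  smul_mem' := by
    intro c v hv k hk
    rw [map_smul, hv k hk]

theorem mem_fixSp {V : Type*} [AddCommGroup V] [Module ℂ V] (ρ : Representation ℂ G V)
    (K : Subgroup G) (v : V) : v ∈ fixSp ρ K ↔ ∀ k ∈ K, ρ k v = v := Iff.rfl

theorem fixSp_anti {V : Type*} [AddCommGroup V] [Module ℂ V] (ρ : Representation ℂ G V)
    {K L : Subgroup G} (h : K ≤ L) : fixSp ρ L ≤ fixSp ρ K := by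
  intro v hv k hk
  exact hv k (h hk)

theorem fixSp_sup {V : Type*} [AddCommGroup V] [Module ℂ V] (ρ : Representation ℂ G V)
    (K L : Subgroup G) : fixSp ρ (K ⊔ L) = fixSp ρ K ⊓ fixSp ρ L := by
  apply le_antisymm
  · exact le_inf (fixSp_anti ρ le_sup_left) (fixSp_anti ρ le_sup_right)
  · intro v hv k hk
    obtain ⟨hK, hL⟩ := hv
    rw [Subgroup.sup_eq_closure] at hk
    induction hk using Subgroup.closure_induction with
    | mem x hx =>
      rcases hx with hx | hx
      · exact hK x hx
      · exact hL x hx
    | one => rw [map_one, Module.End.one_apply]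
    | mul x y _ _ hx hy => rw [map_mul, Module.End.mul_apply, hy, hx]
    | inv x _ hx =>
      conv_lhs => rw [← hx]
      rw [← Module.End.mul_apply, ← map_mul, inv_mul_cancel, map_one, Module.End.one_apply]

/-- the representation-side data of LOC -/
structure Rep6 (G : Type u) [Group G] where
  ρ : Representation ℂ G (Fin 6 → ℂ)
  det_one : ∀ g, LinearMap.det (ρ g) = 1
  real : ∀ g, conj (ρ.character g) = ρ.character g
  faithful : ∀ g, ρ g = 1 → g = 1
  fix_top : fixSp ρ ⊤ = ⊥

end Cfsg.Agent.Helper85.A7
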