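import Mathlib
import Cfsg.Agent.Helper62.Ore.Defs

/-!
# (QC) piece of helper62's farm for S2444 (Thompson: every element of `SL_n(F_q)` is a commutator)

Existence of `K` from Claim C.
-/

set_option autoImplicit false

namespace Cfsg.Agent.Helper85.Ore

open Polynomial Module Cfsg.Agent.Helper62.Ore

variable {F : Type*} [Field F] {V : Type*} [AddCommGroup V] [Module F V]

/-- (QC) existence of `K` from Claim C (Claim C for `P = range Γ` is the hypothesis `hC`). -/
theorem exists_K_of_claimC {W : Type*} [AddCommGroup W] [Module F W] [FiniteDimensional F W]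
    {m : ℕ} (hm : finrank F W = m + 1) (Γ : Module.End F W)
    (hker : finrank F (LinearMap.ker Γ) = 1)
    (hdisj : Disjoint (LinearMap.ker Γ) (LinearMap.range Γ))
    (hC : ∀ R : ↥(LinearMap.range Γ) ≃ₗ[F] ↥(LinearMap.range Γ),
      ∃ (Δ : Module.End F ↥(LinearMap.range Γ)) (c : ↥(LinearMap.range Γ)),
        IsNilpotent Δ ∧ Cyc m ((R : ↥(LinearMap.range Γ) →ₗ[F] ↥(LinearMap.range Γ)) ∘ₗ Δ) c) :
    ∃ (K : Module.End F W) (κ b₀ : W), Γ κ = 0 ∧ κ ∉ LinearMap.range Γ ∧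
      finrank F (LinearMap.range Γ) = m ∧ (∀ x, K x ∈ LinearMap.range Γ) ∧
      b₀ ∈ LinearMap.range Γ ∧ LinearIndependent F (fun i : Fin m => (K ^ (i : ℕ)) b₀) ∧
      IsNilpotent (Γ ∘ₗ K) := by
  classical
  have hrank : finrank F (LinearMap.range Γ) = m := by
    have := LinearMap.finrank_range_add_finrank_ker Γ
    omega
  -- `Γ` restricted to its range
  let ΓP : ↥(LinearMap.range Γ) →ₗ[F] ↥(LinearMap.range Γ) :=
    Γ.rangeRestrict ∘ₗ (LinearMap.range Γ).subtype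
  have hΓP : ∀ p : ↥(LinearMap.range Γ), ((ΓP p : ↥(LinearMap.range Γ)) : W) = Γ (p : W) := by
    intro p; rfl
  have hinj : Function.Injective ΓP := by
    rw [← LinearMap.ker_eq_bot, LinearMap.ker_eq_bot']
    intro p hp
    have h1 : Γ (p : W) = 0 := by
      rw [← hΓP p, hp]; rfl
    have h2 : (p : W) ∈ LinearMap.ker Γ ⊓ LinearMap.range Γ := ⟨h1, p.2⟩
    rw [hdisj.eq_bot] at h2
    exact Subtype.ext ((Submodule.mem_bot F).1 h2)
  let E : ↥(LinearMap.range Γ) ≃ₗ[F] ↥(LinearMap.range Γ) := LinearEquiv.ofInjectiveEndo ΓP hinj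
  have hE : ∀ p, E p = ΓP p := fun p => rfl
  obtain ⟨Δ, c, hnil, hcyc⟩ := hC E.symm
  -- the projection onto the range along the kernel
  let π : W →ₗ[F] ↥(LinearMap.range Γ) :=
    (E.symm : ↥(LinearMap.range Γ) →ₗ[F] ↥(LinearMap.range Γ)) ∘ₗ Γ.rangeRestrict
  have hπ : ∀ p : ↥(LinearMap.range Γ), π (p : W) = p := by
    intro p
    show E.symm (Γ.rangeRestrict (p : W)) = p
    have : Γ.rangeRestrict (p : W) = E p := rfl
    rw [this, LinearEquiv.symm_apply_apply]
  have hΓR : ∀ q : ↥(LinearMap.range Γ), Γ ((E.symm q : ↥(LinearMap.range Γ)) : W) = (q : W) := by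
    intro q
    rw [← hΓP, ← hE, LinearEquiv.apply_symm_apply]
  let RΔ : Module.End F ↥(LinearMap.range Γ) :=
    (E.symm : ↥(LinearMap.range Γ) →ₗ[F] ↥(LinearMap.range Γ)) ∘ₗ Δ
  let K : Module.End F W := (LinearMap.range Γ).subtype ∘ₗ RΔ ∘ₗ π
  have hK : ∀ x, K x = ((RΔ (π x) : ↥(LinearMap.range Γ)) : W) := fun x => rfl
  -- a nonzero vector of the kernel
  have hpos : 0 < finrank F ↥(LinearMap.ker Γ) := by omega
  obtain ⟨κ', hκ'⟩ := Module.finrank_pos_iff_exists_ne_zero.1 hpos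
  have hκ0 : (κ' : W) ≠ 0 := fun h => hκ' (Subtype.ext h)
  -- powers of `K` on `c`
  have hKpow : ∀ i : ℕ, (K ^ i) (c : W) = (((RΔ ^ i) c : ↥(LinearMap.range Γ)) : W) := by
    intro i
    induction i with
    | zero => simp
    | succ i ih =>
      rw [pow_succ', Module.End.mul_apply, ih, hK, hπ, pow_succ', Module.End.mul_apply]
  -- powers of `Γ K`
  have hΓK : ∀ x, (Γ ∘ₗ K) x = ((Δ (π x) : ↥(LinearMap.range Γ)) : W) := by
    intro x
    show Γ (K x) = _
    rw [hK]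
    exact hΓR (Δ (π x))
  have hΓKpow : ∀ k : ℕ, ∀ x, ((Γ ∘ₗ K) ^ (k + 1)) x
      = (((Δ ^ (k + 1)) (π x) : ↥(LinearMap.range Γ)) : W) := by
    intro k
    induction k with
    | zero => intro x; simpa using hΓK x
    | succ k ih =>
      intro x
      rw [pow_succ', Module.End.mul_apply, ih, hΓK, hπ, pow_succ' Δ (k + 1), Module.End.mul_apply]
  refine ⟨K, (κ' : W), (c : W), κ'.2, ?_, hrank, ?_, c.2, ?_, ?_⟩
  · intro hmem
    have h2 : (κ' : W) ∈ LinearMap.ker Γ ⊓ LinearMap.range Γ := ⟨κ'.2, hmem⟩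
    rw [hdisj.eq_bot] at h2
    exact hκ0 ((Submodule.mem_bot F).1 h2)
  · intro x
    rw [hK]
    exact (RΔ (π x)).2
  · have h1 : LinearIndependent F
        (fun i : Fin m => (LinearMap.range Γ).subtype ((RΔ ^ (i : ℕ)) c)) :=
      hcyc.map' (LinearMap.range Γ).subtype (Submodule.ker_subtype _)
    convert h1 using 2 with i
    exact hKpow i
  · obtain ⟨n, hn⟩ := hnil
    refine ⟨n + 1, ?_⟩
    apply LinearMap.ext
    intro x
    rw [hΓKpow n x, pow_succ, hn, zero_mul]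
    simp

end Cfsg.Agent.Helper85.Ore
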