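import Mathlib

/-!
# (NT30) piece of helper80's farm for S2372/S2375: a primitive prime divisor of `Φ₃₀(q)`

For `q ≥ 2` there is a prime `r ≥ 31` dividing `Φ₃₀(q) = q^8 + q^7 - q^5 - q^4 - q^3 + q + 1` such that
`q` has multiplicative order `30` modulo `r`.
-/

set_option autoImplicit false
set_option linter.unusedVariables false

namespace Cfsg.Agent.Helper85.Tor

open Polynomial

/-- `Φ₁₅` explicitly -/
theorem NT30_cyclotomic_fifteen :
    cyclotomic 15 ℤ = X ^ 8 - X ^ 7 + X ^ 5 - X ^ 4 + X ^ 3 - X + 1 := by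
  have h1 : expand ℤ 5 (cyclotomic 3 ℤ) = cyclotomic (3 * 5) ℤ * cyclotomic 3 ℤ :=
    cyclotomic_expand_eq_cyclotomic_mul (by norm_num) (by norm_num) ℤ
  have h3 : cyclotomic 3 ℤ ≠ 0 := cyclotomic_ne_zero 3 ℤ
  apply mul_right_cancel₀ h3
  rw [show (15 : ℕ) = 3 * 5 from rfl, ← h1, cyclotomic_three]
  simp only [map_add, map_pow, expand_X, map_one]
  ring

/-- `Φ₃₀` explicitly -/
theorem NT30_cyclotomic_thirty :
    cyclotomic 30 ℤ = X ^ 8 + X ^ 7 - X ^ 5 - X ^ 4 - X ^ 3 + X + 1 := by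
  have h1 : expand ℤ 2 (cyclotomic 15 ℤ) = cyclotomic (15 * 2) ℤ * cyclotomic 15 ℤ :=
    cyclotomic_expand_eq_cyclotomic_mul (by norm_num) (by norm_num) ℤ
  have h3 : cyclotomic 15 ℤ ≠ 0 := cyclotomic_ne_zero 15 ℤ
  apply mul_right_cancel₀ h3
  rw [show (30 : ℕ) = 15 * 2 from rfl, ← h1, NT30_cyclotomic_fifteen]
  simp only [map_add, map_sub, map_pow, expand_X, map_one]
  ring

theorem NT30_mod2 : ∀ x : ZMod 2, x ^ 8 + x ^ 7 + x + 1 - (x ^ 5 + x ^ 4 + x ^ 3) = 1 := by decide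
theorem NT30_mod3 : ∀ x : ZMod 3, x ^ 8 + x ^ 7 + x + 1 - (x ^ 5 + x ^ 4 + x ^ 3) = 1 := by decide
theorem NT30_mod5 : ∀ x : ZMod 5, x ^ 8 + x ^ 7 + x + 1 - (x ^ 5 + x ^ 4 + x ^ 3) = 1 := by decide

/-- (NT30) -/
theorem exists_prime_E8 (q : ℕ) (hq : 2 ≤ q) :
    ∃ r : ℕ, r.Prime ∧ r ∣ q ^ 8 + q ^ 7 - q ^ 5 - q ^ 4 - q ^ 3 + q + 1 ∧ 31 ≤ r ∧
      orderOf (q : ZMod r) = 30 := by
  set N0 : ℕ := q ^ 8 + q ^ 7 - q ^ 5 - q ^ 4 - q ^ 3 + q + 1 with hN0
  -- no truncation in the natural subtractions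
  have hq1 : 1 ≤ q := by omega
  have e5 : q ^ 5 ≤ q ^ 7 := Nat.pow_le_pow_right hq1 (by norm_num)
  have e4 : q ^ 4 ≤ q ^ 7 := Nat.pow_le_pow_right hq1 (by norm_num)
  have e3 : q ^ 3 ≤ q ^ 7 := Nat.pow_le_pow_right hq1 (by norm_num)
  have e8 : 2 * q ^ 7 ≤ q ^ 8 := by
    have : q ^ 8 = q * q ^ 7 := by ring
    rw [this]
    exact Nat.mul_le_mul_right _ hq
  have hN : N0 + (q ^ 5 + q ^ 4 + q ^ 3) = q ^ 8 + q ^ 7 + q + 1 := by
    rw [hN0]; omega
  have hN3 : 3 ≤ N0 := by omega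
  -- the value in any commutative ring
  have hcast : ∀ (R : Type) [CommRing R], ((N0 : ℕ) : R)
      = (q : R) ^ 8 + (q : R) ^ 7 + (q : R) + 1 - ((q : R) ^ 5 + (q : R) ^ 4 + (q : R) ^ 3) := by
    intro R _
    have := congrArg (Nat.cast : ℕ → R) hN
    push_cast at this
    rw [eq_sub_iff_add_eq]
    exact this
  obtain ⟨r, hr, hrN⟩ := Nat.exists_prime_and_dvd (show N0 ≠ 1 by omega)
  have hzero : ((N0 : ℕ) : ZMod r) = 0 := (ZMod.natCast_eq_zero_iff N0 r).2 hrN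
  -- `r ∉ {2, 3, 5}`
  have hr2 : r ≠ 2 := by
    rintro rfl
    have h := hcast (ZMod 2)
    rw [hzero, NT30_mod2] at h
    exact absurd h (by decide)
  have hr3 : r ≠ 3 := by
    rintro rfl
    have h := hcast (ZMod 3)
    rw [hzero, NT30_mod3] at h
    exact absurd h (by decide)
  have hr5 : r ≠ 5 := by
    rintro rfl
    have h := hcast (ZMod 5)
    rw [hzero, NT30_mod5] at h
    exact absurd h (by decide)
  have hr30 : ¬ r ∣ 30 := by
    intro h
    have h30 : (30 : ℕ) = 2 * (3 * 5) := by norm_num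
    rw [h30] at h
    rcases (Nat.Prime.dvd_mul hr).1 h with h | h
    · exact hr2 ((Nat.prime_dvd_prime_iff_eq hr Nat.prime_two).1 h)
    · rcases (Nat.Prime.dvd_mul hr).1 h with h | h
      · exact hr3 ((Nat.prime_dvd_prime_iff_eq hr Nat.prime_three).1 h)
      · exact hr5 ((Nat.prime_dvd_prime_iff_eq hr Nat.prime_five).1 h)
  have : Fact r.Prime := ⟨hr⟩
  have : NeZero ((30 : ℕ) : ZMod r) := ⟨by
    intro h
    exact hr30 ((ZMod.natCast_eq_zero_iff 30 r).1 h)⟩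
  -- `q` is a root of `Φ₃₀` modulo `r`
  have hroot : IsRoot (cyclotomic 30 (ZMod r)) (q : ZMod r) := by
    rw [← map_cyclotomic_int 30 (ZMod r), NT30_cyclotomic_thirty, IsRoot.def]
    simp only [Polynomial.map_add, Polynomial.map_sub, Polynomial.map_pow, Polynomial.map_one,
      map_X, eval_add, eval_sub, eval_pow, eval_X, eval_one]
    have h := hcast (ZMod r)
    rw [hzero] at h
    rw [h]
    ring
  have hprim : IsPrimitiveRoot (q : ZMod r) 30 := isRoot_cyclotomic_iff.1 hroot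
  have hord : orderOf (q : ZMod r) = 30 := hprim.eq_orderOf.symm
  refine ⟨r, hr, hrN, ?_, hord⟩
  -- `30 ∣ r - 1`
  have hq0 : (q : ZMod r) ≠ 0 := by
    intro h
    have := hprim.pow_eq_one
    rw [h, zero_pow (by norm_num)] at this
    exact zero_ne_one this
  have hdvd : 30 ∣ r - 1 := by
    have := ZMod.orderOf_dvd_card_sub_one hq0
    rwa [hord] at this
  have hr1 : 2 ≤ r := hr.two_le
  have : 30 ≤ r - 1 := Nat.le_of_dvd (by omega) hdvd
  omega

end Cfsg.Agent.Helper85.Tor
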