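import Mathlib
import Cfsg.Agent.Helper81.ResA2.Defs
import Cfsg.Agent.Helper63.PGroup

/-!
# S5289 piece (ALL2) sub-farm leaf (CEN) (sub-architect helper81, architect helper77)

A normal subgroup of order `p` of a finite `p`-group is central (this is helper63's
`le_center_of_normal_of_card_eq_prime`, restated under the sub-farm header).
-/

set_option autoImplicit false
universe u
namespace Cfsg.Agent.Helper85.ResA2
open Cfsg.Agent.Helper81.ResA2
variable {G : Type u} [Group G] {p : ℕ} [hp : Fact p.Prime] {N : Subgroup G}

/-- (CEN) a normal subgroup of order `p` of a finite `p`-group is central. -/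
theorem le_center_of_normal_of_card_prime [Finite G] (hG : IsPGroup p G) (H : Subgroup G) [H.Normal]
    (hH : Nat.card H = p) : H ≤ Subgroup.center G :=
  Cfsg.Agent.Helper63.le_center_of_normal_of_card_eq_prime hG H hH

end Cfsg.Agent.Helper85.ResA2
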