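import Mathlib
import Cfsg.Agent.Helper81.ResA2.Defs

/-!
# S5289 piece (ALL2) sub-farm leaf (CY) (sub-architect helper81, architect helper77)

Cosets of a normal subgroup of index `p`: every `h ∈ H` is `h₀ ^ i * k`.
-/

set_option autoImplicit false
universe u
namespace Cfsg.Agent.Helper85.ResA2
open Cfsg.Agent.Helper81.ResA2
variable {G : Type u} [Group G] {p : ℕ} [hp : Fact p.Prime] {N : Subgroup G}

/-- (CY) cosets of a normal subgroup of index `p`: `K ⊴ H`, `|H| = p |K|`, `h₀ ∈ H ∖ K`: every `h ∈ H` is `h₀^i k`. -/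
theorem exists_pow_mul [Finite G] (H K : Subgroup G) (hKH : K ≤ H) (hn : ∀ h ∈ H, ∀ k ∈ K, h * k * h⁻¹ ∈ K)
    (hcard : Nat.card H = p * Nat.card K) (h₀ : G) (h₀H : h₀ ∈ H) (h₀K : h₀ ∉ K) :
    ∀ h ∈ H, ∃ i : ℕ, ∃ k ∈ K, h = h₀ ^ i * k := by
  have hnorm : (K.subgroupOf H).Normal := by
    constructor
    intro k hk h
    rw [Subgroup.mem_subgroupOf] at hk ⊢
    have := hn h.1 h.2 k.1 hk
    simpa using this
  have hcardK : Nat.card (K.subgroupOf H) = Nat.card K :=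
    Nat.card_congr (Subgroup.subgroupOfEquivOfLe hKH).toEquiv
  have hQ : Nat.card (H ⧸ K.subgroupOf H) = p := by
    have h1 := Subgroup.card_eq_card_quotient_mul_card_subgroup (K.subgroupOf H)
    rw [hcard, hcardK] at h1
    have hKpos : 0 < Nat.card K := Nat.card_pos
    exact (Nat.eq_of_mul_eq_mul_right hKpos h1).symm
  have hq₀ne : (QuotientGroup.mk ⟨h₀, h₀H⟩ : H ⧸ K.subgroupOf H) ≠ 1 := by
    intro h
    rw [QuotientGroup.eq_one_iff, Subgroup.mem_subgroupOf] at h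
    exact h₀K h
  have htop : Subgroup.zpowers (QuotientGroup.mk ⟨h₀, h₀H⟩ : H ⧸ K.subgroupOf H) = ⊤ :=
    zpowers_eq_top_of_prime_card hQ hq₀ne
  intro h hh
  have hmem : (QuotientGroup.mk ⟨h, hh⟩ : H ⧸ K.subgroupOf H) ∈
      Subgroup.zpowers (QuotientGroup.mk ⟨h₀, h₀H⟩ : H ⧸ K.subgroupOf H) := by
    rw [htop]; trivial
  rw [← mem_powers_iff_mem_zpowers, Submonoid.mem_powers_iff] at hmem
  obtain ⟨i, hi⟩ := hmem
  refine ⟨i, (h₀ ^ i)⁻¹ * h, ?_, by group⟩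
  have h2 : (QuotientGroup.mk ((⟨h₀, h₀H⟩ : H) ^ i) : H ⧸ K.subgroupOf H) =
      QuotientGroup.mk ⟨h, hh⟩ := by
    rw [QuotientGroup.mk_pow]; exact hi
  rw [QuotientGroup.eq, Subgroup.mem_subgroupOf] at h2
  simpa using h2

end Cfsg.Agent.Helper85.ResA2
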