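import Cfsg.Agent.Helper85.A7R1
import Cfsg.Agent.Helper48.A7R4
import Cfsg.Agent.Helper14.A7R6g

/-!
# S0984 sub-tree LOC (helper85): (R6) the Frobenius case, from (R1), (R4), (R6g)
-/

set_option autoImplicit false

namespace Cfsg.Agent.Helper85.A7

open Cfsg
open scoped ComplexConjugate

universe u

variable {G : Type u} [Group G]

theorem sum_subgroup_eq_finsum' (K : Subgroup G) [Fintype K] (f : G → ℂ) :
    ∑ k : K, f (k : G) = ∑ᶠ g ∈ (K : Set G), f g := by
  rw [← finsum_eq_sum_of_fintype (fun k : K => f (k : G))]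
  exact finsum_set_coe_eq_finsum_mem (K : Set G)

/-- `Σ_{k ∈ K} χ(k) = |K| · dim V^K`, in `finsum` form -/
theorem finsum_character_eq [Finite G] (D : Rep6 G) (K : Subgroup G) :
    ∑ᶠ g ∈ (K : Set G), D.ρ.character g =
      (Nat.card K : ℂ) * (Module.finrank ℂ (fixSp D.ρ K) : ℂ) := by
  classical
  have : Fintype K := Fintype.ofFinite _
  rw [← sum_subgroup_eq_finsum', sum_character_eq_card_mul_finrank, Nat.card_eq_fintype_card]

/-- (R6) the Frobenius case: character values and fixed spaces -/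
theorem frobenius_core [Finite G] (D : Rep6 G) (R : Subgroup G) (hR : Nat.card R = 9)
    (hRc : ∀ x ∈ R, ∀ y ∈ R, x * y = y * x) (a : G) (ha : orderOf a = 4)
    (haR : ∀ r ∈ R, a * r * a⁻¹ ∈ R) (hfpf : ∀ c ∈ R, a ^ 2 * c * (a ^ 2)⁻¹ = c → c = 1) :
    D.ρ.character a = 0 ∧ D.ρ.character (a ^ 2) = 2 ∧
      Module.finrank ℂ (fixSp D.ρ (R ⊔ Subgroup.zpowers a)) = 1 ∧
      Module.finrank ℂ (fixSp D.ρ (Subgroup.zpowers a)) = 2 := by
  classical
  have ha4 : a ^ 4 = 1 := by rw [← ha]; exact pow_orderOf_eq_one a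
  obtain ⟨hc36, hc18, hsumN, hsumN2⟩ := Cfsg.Agent.Helper14.A7.frobenius_group R hR hRc a ha haR hfpf
  have hclass : ∀ g h : G, D.ρ.character (h * g * h⁻¹) = D.ρ.character g :=
    fun g h => Representation.char_conj D.ρ g h
  have hN := hsumN D.ρ.character hclass
  have hN2 := hsumN2 D.ρ.character hclass
  rw [finsum_character_eq, hc36] at hN
  rw [finsum_character_eq, hc18] at hN2
  rw [finsum_character_eq, hR] at hN hN2
  -- multiplicities of `a` and `a^3`
  obtain ⟨d0, d1, d2, hsum, hev, hχa, hχa2, hfa⟩ := Cfsg.Agent.Helper48.A7.char_pow_four D a ha4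
  have ha34 : (a ^ 3) ^ 4 = 1 := by rw [← pow_mul, pow_mul', ha4, one_pow]
  obtain ⟨d0', d1', d2', hsum', hev', hχa3, hχa32, hfa3⟩ := Cfsg.Agent.Helper48.A7.char_pow_four D (a ^ 3) ha34
  have ha36 : (a ^ 3) ^ 2 = a ^ 2 := by
    rw [← pow_mul]
    have : a ^ (3 * 2) = a ^ 4 * a ^ 2 := by rw [← pow_add]
    rw [this, ha4, one_mul]
  have hzp : Subgroup.zpowers (a ^ 3) = Subgroup.zpowers a := by
    have : a ^ 3 = a⁻¹ := by
      apply eq_inv_of_mul_eq_one_left
      rw [← pow_succ]; exact ha4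
    rw [this, Subgroup.zpowers_inv]
  rw [hzp, hfa] at hfa3
  rw [ha36, hχa2] at hχa32
  -- the fixed space dimensions
  set m1 := Module.finrank ℂ (fixSp D.ρ R) with hm1
  set e0 := Module.finrank ℂ (fixSp D.ρ (R ⊔ Subgroup.zpowers a)) with he0
  set f := Module.finrank ℂ (fixSp D.ρ (R ⊔ Subgroup.zpowers (a ^ 2))) with hf
  have hle1 : e0 ≤ f := by
    apply Submodule.finrank_mono
    apply fixSp_anti
    apply sup_le_sup_left
    rw [Subgroup.zpowers_le]
    exact Subgroup.pow_mem _ (Subgroup.mem_zpowers a) 2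
  have hle2 : f ≤ m1 := by
    apply Submodule.finrank_mono
    apply fixSp_anti
    exact le_sup_left
  have hle3 : m1 ≤ 6 := by
    have := Submodule.finrank_le (fixSp D.ρ R)
    simpa using this
  have hne6 : m1 ≠ 6 := by
    intro h6
    have htop : fixSp D.ρ R = ⊤ := by
      apply Submodule.eq_top_of_finrank_eq
      rw [← hm1, h6]; simp
    have htriv : ∀ r ∈ R, r = 1 := by
      intro r hr
      apply D.faithful
      apply LinearMap.ext
      intro v
      have hv : v ∈ fixSp D.ρ R := by rw [htop]; exact Submodule.mem_top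
      rw [Module.End.one_apply]
      exact hv r hr
    have hbot : R = ⊥ := by
      rw [Subgroup.eq_bot_iff_forall]
      exact htriv
    rw [hbot, Subgroup.card_bot] at hR
    omega
  rw [hχa, hχa2, hχa3] at hN
  rw [hχa2] at hN2
  -- integer forms
  have e1 : (d0' : ℤ) + d2' - 2 * d1' = (d0 : ℤ) + d2 - 2 * d1 := by exact_mod_cast hχa32.symm
  have e2 : (36 : ℤ) * e0 = 9 * m1 + 9 * (((d0 : ℤ) - d2) + ((d0 : ℤ) + d2 - 2 * d1) +
      ((d0' : ℤ) - d2')) := by exact_mod_cast hN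
  have e3 : (18 : ℤ) * f = 9 * m1 + 9 * ((d0 : ℤ) + d2 - 2 * d1) := by exact_mod_cast hN2
  obtain ⟨k, hk⟩ := hev
  obtain ⟨k', hk'⟩ := hev'
  have hd0 : d0 = 2 := by omega
  have hd1 : d1 = 1 := by omega
  have hd2 : d2 = 2 := by omega
  refine ⟨?_, ?_, ?_, ?_⟩
  · rw [hχa, hd0, hd2]; norm_num
  · rw [hχa2, hd0, hd1, hd2]; norm_num
  · omega
  · rw [hfa, hd0]

end Cfsg.Agent.Helper85.A7
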