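import Cfsg.Agent.Helper17.Embed
import Cfsg.Agent.Helper17.SylowKit

/-!
# S0984 (helper85): (FIN) a simple group of order 2520 with a subgroup of index 7 is `A_7`
-/

set_option autoImplicit false

namespace Cfsg.Agent.Helper85.A7

universe u

variable {G : Type u} [Group G]

theorem card_alternatingGroup_seven : Nat.card (alternatingGroup (Fin 7)) = 2520 := by
  have h := two_mul_card_alternatingGroup (α := Fin 7)
  rw [Fintype.card_perm, Fintype.card_fin] at h
  rw [Nat.card_eq_fintype_card]
  have : Nat.factorial 7 = 5040 := by norm_num [Nat.factorial]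
  omega

/-- (FIN) -/
theorem iso_of_index_seven [Finite G] [IsSimpleGroup G] (hcard : Nat.card G = 2520)
    (H : Subgroup G) (hH : H.index = 7) : Nonempty (G ≃* alternatingGroup (Fin 7)) := by
  have hG : ¬ IsMulCommutative G := by
    apply Cfsg.Agent.Helper17.not_comm_of_simple_of_not_prime
    rw [hcard]; norm_num
  have hne : H ≠ ⊤ := by
    intro h
    rw [h, Subgroup.index_top] at hH
    omega
  have key : ∀ n, H.index = n →
      ∃ f : G →* ↥(alternatingGroup (Fin n)), Function.Injective f := by
    intro n hn
    subst hn
    exact Cfsg.Agent.Helper17.exists_embedding_alternating hG H hne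
  obtain ⟨f, hf⟩ := key 7 hH
  have hbij : Function.Bijective f := by
    rw [Nat.bijective_iff_injective_and_card]
    exact ⟨hf, by rw [hcard, card_alternatingGroup_seven]⟩
  exact ⟨MulEquiv.ofBijective f hbij⟩

end Cfsg.Agent.Helper85.A7
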