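import Cfsg.Agent.Helper85.A7Loc
import Cfsg.Agent.Helper85.A7Fin
import Cfsg.Agent.Helper79.CharComplete

/-!
# S0984 (helper85): from the two global inputs (GLOBAL) to `G ≃* A₇` via LOC and FIN
-/

set_option autoImplicit false

namespace Cfsg.Agent.Helper85.A7

open Cfsg
open scoped ComplexConjugate

universe u

/-- the final assembly: GLOBAL ⟹ LOC ⟹ FIN -/
theorem iso_of_global {G : Type u} [Group G] [Finite G] [IsSimpleGroup G]
    (h : Nat.card G = 2520)
    (hglob : (∀ x : G, orderOf x = 7 → Subgroup.centralizer ({x} : Set G) = Subgroup.zpowers x) ∧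
      ∃ χ : IrrCharacter G, charDegree (χ : G → ℂ) = 6 ∧
        ∀ g, conj ((χ : G → ℂ) g) = (χ : G → ℂ) g) :
    Nonempty (G ≃* alternatingGroup (Fin 7)) := by
  obtain ⟨h7, χ, hdeg, hreal⟩ := hglob
  have h7' : ∀ x : G, orderOf x = 7 → ∀ c : G, c * x = x * c → c ∈ Subgroup.zpowers x := by
    intro x hx c hc
    rw [← h7 x hx, Subgroup.mem_centralizer_singleton_iff]
    exact hc
  have h6 : (χ : G → ℂ) 1 = 6 := by
    rw [Cfsg.Agent.Helper79.irr_one χ, hdeg]
    norm_num
  obtain ⟨H, hH⟩ := exists_index_seven h h7' (χ : G → ℂ) χ.2 h6 hreal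
  exact iso_of_index_seven h H hH

end Cfsg.Agent.Helper85.A7
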