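import Cfsg.Agent.Helper37.A7G2

/-!
# S0984 sub-tree LOC (helper85): (G1) proper subgroups have index at least 7
-/

set_option autoImplicit false

namespace Cfsg.Agent.Helper85.A7

universe u

variable {G : Type u} [Group G]

/-- (G1) proper subgroups have index at least 7 -/
theorem seven_le_index [Finite G] [IsSimpleGroup G] (hcard : Nat.card G = 2520) (H : Subgroup G)
    (hH : H ≠ ⊤) : 7 ≤ H.index := by
  by_contra hlt
  have hle : H.index ≤ 6 := by omega
  have h1 := Cfsg.Agent.Helper37.A7.card_dvd_index_factorial_aux H hH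
  rw [hcard] at h1
  have h2 : H.index.factorial ∣ Nat.factorial 6 := Nat.factorial_dvd_factorial hle
  have h3 : 2520 ∣ Nat.factorial 6 := dvd_trans h1 h2
  norm_num [Nat.factorial] at h3

end Cfsg.Agent.Helper85.A7
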