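import Cfsg.Agent.Helper85.A7Core
import Cfsg.Agent.Helper82.A7R0
import Cfsg.Agent.Helper37.A7G2
import Cfsg.Agent.Helper86.A7G3a
import Cfsg.Agent.Helper82.A7G3b
import Cfsg.Agent.Helper89.A7G4
import Cfsg.Agent.Helper55.A7G5a
import Cfsg.Agent.Helper55.A7G5c
import Cfsg.Agent.Helper14.A7G5b
import Cfsg.Agent.Helper17.A7G6
import Cfsg.Agent.Helper17.A7G7aux
import Cfsg.Agent.Helper14.A7G8

/-!
# S0984 sub-tree LOC (helper85): assembly
-/

set_option autoImplicit false

namespace Cfsg.Agent.Helper85.A7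

open Cfsg
open scoped ComplexConjugate

universe u

variable {G : Type u} [Group G]

theorem fact2520_two : (2520 : ℕ).factorization 2 = 3 := by
  have : (2520 : ℕ) = 2 ^ 3 * 315 := by norm_num
  rw [this, Nat.factorization_mul (by norm_num) (by norm_num), Nat.factorization_pow]
  simp [Nat.factorization_eq_zero_of_not_dvd (show ¬ 2 ∣ 315 by norm_num),
    Nat.Prime.factorization_self Nat.prime_two]

theorem fact2520_three : (2520 : ℕ).factorization 3 = 2 := by
  have : (2520 : ℕ) = 3 ^ 2 * 280 := by norm_num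
  rw [this, Nat.factorization_mul (by norm_num) (by norm_num), Nat.factorization_pow]
  simp [Nat.factorization_eq_zero_of_not_dvd (show ¬ 3 ∣ 280 by norm_num),
    Nat.Prime.factorization_self Nat.prime_three]

theorem card_sylow_two [Finite G] (hcard : Nat.card G = 2520) (S : Sylow 2 G) :
    Nat.card (S : Subgroup G) = 8 := by
  have : Fact (Nat.Prime 2) := ⟨Nat.prime_two⟩
  rw [Sylow.card_eq_multiplicity, hcard, fact2520_two]
  norm_num

theorem card_sylow_three [Finite G] (hcard : Nat.card G = 2520) (R : Sylow 3 G) :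
    Nat.card (R : Subgroup G) = 9 := by
  have : Fact (Nat.Prime 3) := ⟨Nat.prime_three⟩
  rw [Sylow.card_eq_multiplicity, hcard, fact2520_three]
  norm_num

theorem orderOf_conj' (g t : G) : orderOf (g * t * g⁻¹) = orderOf t := by
  have h : SemiconjBy g t (g * t * g⁻¹) := by
    unfold SemiconjBy
    group
  exact (h.orderOf_eq g).symm

/-- every involution lies in a Sylow 2-subgroup -/
theorem exists_sylow_two_mem [Finite G] (s : G) (hs : orderOf s = 2) :
    ∃ S : Sylow 2 G, s ∈ (S : Subgroup G) := by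
  have : Fact (Nat.Prime 2) := ⟨Nat.prime_two⟩
  have hp : IsPGroup 2 (Subgroup.zpowers s) := by
    apply IsPGroup.of_card (n := 1)
    rw [Nat.card_zpowers, hs, pow_one]
  obtain ⟨S, hS⟩ := hp.exists_le_sylow
  exact ⟨S, hS (Subgroup.mem_zpowers s)⟩

/-- elements of a Sylow 2-subgroup of order 8 without elements of order 4 square to 1 -/
theorem sq_eq_one_of_no_order_four [Finite G] (hcard : Nat.card G = 2520) (S : Sylow 2 G)
    (h4 : ¬ ∃ b ∈ (S : Subgroup G), orderOf b = 4) : ∀ x ∈ (S : Subgroup G), x ^ 2 = 1 := by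
  intro x hx
  have hdvd : orderOf x ∣ 8 := by
    have h1 : orderOf (⟨x, hx⟩ : (S : Subgroup G)) ∣ Nat.card (S : Subgroup G) :=
      orderOf_dvd_natCard _
    rw [card_sylow_two hcard S, Subgroup.orderOf_mk] at h1
    exact h1
  have hle : orderOf x ≤ 8 := Nat.le_of_dvd (by norm_num) hdvd
  have hpos : 0 < orderOf x := Nat.pos_of_dvd_of_pos hdvd (by norm_num)
  have hcases : orderOf x = 1 ∨ orderOf x = 2 ∨ orderOf x = 4 ∨ orderOf x = 8 := by
    interval_cases h : orderOf x <;> simp_all
  rcases hcases with h | h | h | h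
  · rw [orderOf_eq_one_iff] at h
    rw [h, one_pow]
  · rw [← h]
    exact pow_orderOf_eq_one x
  · exact absurd ⟨x, hx, h⟩ h4
  · exfalso
    apply h4
    refine ⟨x ^ 2, Subgroup.pow_mem _ hx 2, ?_⟩
    rw [orderOf_pow' x (by norm_num : (2 : ℕ) ≠ 0), h]
    norm_num

/-- (INV) all involutions are conjugate -/
theorem invol_conj [Finite G] [IsSimpleGroup G] (hcard : Nat.card G = 2520) :
    ∀ s t : G, orderOf s = 2 → orderOf t = 2 → IsConj s t := by
  intro s t hs ht
  have : Fact (Nat.Prime 2) := ⟨Nat.prime_two⟩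
  obtain ⟨S, hsS⟩ := exists_sylow_two_mem s hs
  obtain ⟨S', htS'⟩ := exists_sylow_two_mem t ht
  obtain ⟨g, hg⟩ := MulAction.exists_smul_eq G S' S
  -- `t' = g t g⁻¹ ∈ S`
  have ht'S : g * t * g⁻¹ ∈ (S : Subgroup G) := by
    rw [← hg, Sylow.coe_subgroup_smul, Subgroup.mem_pointwise_smul_iff_inv_smul_mem]
    simp only [MulAut.smul_def, MulAut.conj_inv_apply]
    have : g⁻¹ * (g * t * g⁻¹) * g = t := by group
    rw [this]
    exact htS'
  have ht' : orderOf (g * t * g⁻¹) = 2 := by
    rw [orderOf_conj' g t]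
    exact ht
  have hconj : IsConj t (g * t * g⁻¹) := isConj_iff.mpr ⟨g, rfl⟩
  by_cases h4 : ∃ b ∈ (S : Subgroup G), orderOf b = 4
  · obtain ⟨b, hbS, hb⟩ := h4
    have h1 := Cfsg.Agent.Helper86.A7.invol_conj_of_order_four hcard S b hbS hb s hsS hs
    have h2 := Cfsg.Agent.Helper86.A7.invol_conj_of_order_four hcard S b hbS hb _ ht'S ht'
    exact h1.trans (h2.symm.trans hconj.symm)
  · have hexp := sq_eq_one_of_no_order_four hcard S h4
    have h1 := Cfsg.Agent.Helper82.A7.invol_conj_of_exponent_two hcard S hexp s hsS _ ht'S hs ht'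
    exact h1.trans hconj.symm


theorem orderOf_mul_of_commute_invol (s1 s2 : G) (h1 : orderOf s1 = 2) (h2 : orderOf s2 = 2)
    (h12 : s1 * s2 = s2 * s1) (hne : s1 ≠ s2) : orderOf (s1 * s2) = 2 := by
  have e1 : s1 ^ 2 = 1 := by rw [← h1]; exact pow_orderOf_eq_one s1
  have e2 : s2 ^ 2 = 1 := by rw [← h2]; exact pow_orderOf_eq_one s2
  apply orderOf_eq_prime
  · have hc : Commute s1 s2 := h12
    rw [hc.mul_pow, e1, e2, one_mul]
  · intro h
    apply hne
    have : s1 = s2⁻¹ := eq_inv_of_mul_eq_one_left h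
    rw [this]
    have : s2 * s2 = 1 := by rw [← pow_two]; exact e2
    exact inv_eq_of_mul_eq_one_left this

/-- an involution `s` with `s c s⁻¹ ∈ ⟨c⟩` normalizes `⟨c⟩` -/
theorem mem_normalizer_zpowers_of_invol (s c : G) (hs : orderOf s = 2)
    (h : s * c * s⁻¹ ∈ Subgroup.zpowers c) :
    s ∈ Subgroup.normalizer ((Subgroup.zpowers c : Subgroup G) : Set G) := by
  have e1 : s ^ 2 = 1 := by rw [← hs]; exact pow_orderOf_eq_one s
  have hfw : ∀ x ∈ Subgroup.zpowers c, s * x * s⁻¹ ∈ Subgroup.zpowers c := by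
    intro x hx
    obtain ⟨k, rfl⟩ := Subgroup.mem_zpowers_iff.mp hx
    have : s * c ^ k * s⁻¹ = (s * c * s⁻¹) ^ k := by
      rw [conj_zpow]
    rw [this]
    exact Subgroup.zpow_mem _ h k
  rw [Subgroup.mem_normalizer_iff]
  intro x
  constructor
  · exact hfw x
  · intro hx
    have h2 := hfw _ hx
    have : s * (s * x * s⁻¹) * s⁻¹ = x := by
      have hs2 : s * s = 1 := by rw [← pow_two]; exact e1
      have hsi : s⁻¹ = s := inv_eq_of_mul_eq_one_left hs2
      rw [hsi]
      calc s * (s * x * s) * s = (s * s) * x * (s * s) := by group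
        _ = x := by rw [hs2, one_mul, mul_one]
    rw [this] at h2
    exact h2

/-- the case distinction on `N_G(R)` -/
theorem cases_of_normalizer [Finite G] [IsSimpleGroup G] (hcard : Nat.card G = 2520)
    (R : Sylow 3 G) (hN : Nat.card (Subgroup.normalizer ((R : Subgroup G) : Set G)) = 36) :
    (∃ H : Subgroup G, H.index = 7) ∨
      ∃ a ∈ Subgroup.normalizer ((R : Subgroup G) : Set G), orderOf a = 4 ∧
        Subgroup.normalizer ((R : Subgroup G) : Set G) = (R : Subgroup G) ⊔ Subgroup.zpowers a ∧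
        ∀ c ∈ (R : Subgroup G), a ^ 2 * c * (a ^ 2)⁻¹ = c → c = 1 := by
  have hinv := invol_conj hcard
  have hR9 := card_sylow_three hcard R
  by_cases hc : ∃ t : G, orderOf t = 2 ∧ ∀ r ∈ (R : Subgroup G), t * r = r * t
  · obtain ⟨t, ht, htR⟩ := hc
    exact Or.inl (Cfsg.Agent.Helper17.A7.index_seven_of_central_involution_aux hcard
      (fun R' hN' H hH hle h8 => Cfsg.Agent.Helper37.A7.index_eq_seven_of_normalizer_le hcard R' hN' H hH hle h8)
      hinv R hN t ht htR)
  · have hc' : ∀ t : G, orderOf t = 2 → ∃ r ∈ (R : Subgroup G), t * r ≠ r * t := by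
      intro t ht
      by_contra hcon
      push Not at hcon
      exact hc ⟨t, ht, hcon⟩
    rcases Cfsg.Agent.Helper55.A7.normalizer_two_part R hN with ⟨a, haN, ha, hNeq⟩ | ⟨s1, hs1N, s2, hs2N, h1, h2, h12, hne, hNeq⟩
    · right
      refine ⟨a, haN, ha, hNeq, ?_⟩
      have ha2 : orderOf (a ^ 2) = 2 := by
        rw [orderOf_pow' a (by norm_num : (2 : ℕ) ≠ 0), ha]
        norm_num
      have haR : ∀ r ∈ (R : Subgroup G), a * r * a⁻¹ ∈ (R : Subgroup G) := by
        intro r hr
        exact (Subgroup.mem_normalizer_iff.mp haN r).mp hr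
      exact Cfsg.Agent.Helper55.A7.fpf_of_order_four (R : Subgroup G) hR9 a ha haR (hc' _ ha2)
    · exfalso
      have h1R : ∀ r ∈ (R : Subgroup G), s1 * r * s1⁻¹ ∈ (R : Subgroup G) := by
        intro r hr
        exact (Subgroup.mem_normalizer_iff.mp hs1N r).mp hr
      have h2R : ∀ r ∈ (R : Subgroup G), s2 * r * s2⁻¹ ∈ (R : Subgroup G) := by
        intro r hr
        exact (Subgroup.mem_normalizer_iff.mp hs2N r).mp hr
      have h3 := orderOf_mul_of_commute_invol s1 s2 h1 h2 h12 hne
      obtain ⟨t1, t2, c1, c2, ht1, ht2, hc1R, hc2R, hc1, hc2, htc1, htc2, hnot, hRc1, hRc2,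
        hs1c1, hs2c1, hs1c2, hs2c2⟩ :=
        Cfsg.Agent.Helper14.A7.klein_decomposition (R : Subgroup G) hR9 s1 s2 h1 h2 h12 hne h1R h2R (hc' _ h1) (hc' _ h2)
          (hc' _ h3)
      have hord : ∀ t ∈ ({s1, s2, s1 * s2} : Set G), orderOf t = 2 := by
        intro t ht
        rcases ht with rfl | rfl | rfl
        · exact h1
        · exact h2
        · exact h3
      -- `N(R)` normalizes `⟨c1⟩`
      have hK : Subgroup.normalizer ((R : Subgroup G) : Set G) ≤
          Subgroup.normalizer ((Subgroup.zpowers c1 : Subgroup G) : Set G) := by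
        rw [hNeq]
        apply sup_le
        · intro r hr
          rw [Subgroup.mem_normalizer_iff]
          intro x
          have hcomm : ∀ y ∈ Subgroup.zpowers c1, r * y * r⁻¹ = y := by
            intro y hy
            obtain ⟨k, rfl⟩ := Subgroup.mem_zpowers_iff.mp hy
            have : Commute r (c1 ^ k) := (show Commute r c1 from hRc1 r hr).zpow_right k
            rw [this.eq, mul_inv_cancel_right]
          constructor
          · intro hx
            rw [hcomm x hx]; exact hx
          · intro hx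
            have h5 : r * (r * x * r⁻¹) * r⁻¹ = r * x * r⁻¹ := hcomm _ hx
            have h6 : r * x * r⁻¹ = x := mul_left_cancel (mul_right_cancel h5)
            rw [← h6]; exact hx
        · rw [Subgroup.closure_le]
          intro s hs
          rcases hs with rfl | rfl
          · exact mem_normalizer_zpowers_of_invol _ c1 h1 hs1c1
          · exact mem_normalizer_zpowers_of_invol _ c1 h2 hs2c1
      have hn1 : ∀ n ∈ Subgroup.normalizer ((R : Subgroup G) : Set G),
          n * c1 * n⁻¹ ∈ Subgroup.zpowers c1 := by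
        intro n hn
        exact (Subgroup.mem_normalizer_iff.mp (hK hn) c1).mp (Subgroup.mem_zpowers c1)
      exact Cfsg.Agent.Helper17.A7.klein_case_false hcard hinv R hc t1 t2 c1 c2 (hord t1 ht1) (hord t2 ht2) hc1R hc2R
        hc1 hc2 htc1 htc2 hnot hn1

theorem sum_subgroup_eq_finsum (K : Subgroup G) [Fintype K] (f : G → ℂ) :
    ∑ k : K, f (k : G) = ∑ᶠ g ∈ (K : Set G), f g := by
  rw [← finsum_eq_sum_of_fintype (fun k : K => f (k : G))]
  exact finsum_set_coe_eq_finsum_mem (K : Set G)

theorem zpowers_four_eq [Finite G] (a : G) (ha : orderOf a = 4) :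
    ((Subgroup.zpowers a : Subgroup G) : Set G) = {1, a, a ^ 2, a ^ 3} := by
  classical
  ext x
  simp only [SetLike.mem_coe, Set.mem_insert_iff, Set.mem_singleton_iff]
  rw [mem_zpowers_iff_mem_range_orderOf, ha]
  simp only [Finset.mem_image, Finset.mem_range]
  constructor
  · rintro ⟨i, hi, rfl⟩
    interval_cases i <;> simp
  · rintro (rfl | rfl | rfl | rfl)
    · exact ⟨0, by norm_num, by simp⟩
    · exact ⟨1, by norm_num, by simp⟩
    · exact ⟨2, by norm_num, rfl⟩
    · exact ⟨3, by norm_num, rfl⟩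

theorem finsum_zpowers_four [Finite G] (a : G) (ha : orderOf a = 4) (h : G → ℂ) :
    ∑ᶠ k ∈ ((Subgroup.zpowers a : Subgroup G) : Set G), h k = h 1 + h a + h (a ^ 2) + h (a ^ 3) := by
  rw [zpowers_four_eq a ha]
  have h1 : a ≠ 1 := by
    intro h; rw [h, orderOf_one] at ha; omega
  have h2 : a ^ 2 ≠ 1 := by
    intro h
    have := orderOf_dvd_of_pow_eq_one h
    rw [ha] at this; omega
  have h3 : a ^ 3 ≠ 1 := by
    intro h
    have := orderOf_dvd_of_pow_eq_one h
    rw [ha] at this; omega
  have h12 : a ^ 2 ≠ a := by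
    intro h; apply h1
    have : a * a = a * 1 := by rw [← pow_two, h, mul_one]
    exact mul_left_cancel this
  have h13 : a ^ 3 ≠ a := by
    intro h; apply h2
    have : a * a ^ 2 = a * 1 := by rw [← pow_succ', h, mul_one]
    exact mul_left_cancel this
  have h23 : a ^ 3 ≠ a ^ 2 := by
    intro h; apply h1
    have : a ^ 2 * a = a ^ 2 * 1 := by rw [← pow_succ, h, mul_one]
    exact mul_left_cancel this
  rw [finsum_mem_insert, finsum_mem_insert, finsum_mem_pair]
  · ring
  · exact fun h => h23 h.symm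
  · simp only [Set.mem_insert_iff, Set.mem_singleton_iff, not_or]
    exact ⟨fun h => h12 h.symm, fun h => h13 h.symm⟩
  · exact Set.toFinite _
  · simp only [Set.mem_insert_iff, Set.mem_singleton_iff, not_or]
    exact ⟨fun h => h1 h.symm, fun h => h2 h.symm, fun h => h3 h.symm⟩
  · exact Set.toFinite _

/-- the fixed-vector glue in the Frobenius case -/
theorem index_seven_of_frobenius [Finite G] [IsSimpleGroup G] (hcard : Nat.card G = 2520)
    (D : Rep6 G) (R : Sylow 3 G)
    (hN : Nat.card (Subgroup.normalizer ((R : Subgroup G) : Set G)) = 36) (a : G)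
    (haN : a ∈ Subgroup.normalizer ((R : Subgroup G) : Set G)) (ha : orderOf a = 4)
    (hNeq : Subgroup.normalizer ((R : Subgroup G) : Set G) =
      (R : Subgroup G) ⊔ Subgroup.zpowers a)
    (hfpf : ∀ c ∈ (R : Subgroup G), a ^ 2 * c * (a ^ 2)⁻¹ = c → c = 1) :
    ∃ H : Subgroup G, H.index = 7 := by
  classical
  have : Fact (Nat.Prime 2) := ⟨Nat.prime_two⟩
  have hinv := invol_conj hcard
  have hR9 := card_sylow_three hcard R
  have hRc : ∀ x ∈ (R : Subgroup G), ∀ y ∈ (R : Subgroup G), x * y = y * x := by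
    intro x hx y hy
    have : Fact (Nat.Prime 3) := ⟨Nat.prime_three⟩
    have hmc := IsPGroup.isMulCommutative_of_card_eq_prime_sq (p := 3) (G := ↥(R : Subgroup G))
      (by rw [hR9]; norm_num)
    have := hmc.is_comm.comm (⟨x, hx⟩ : ↥(R : Subgroup G)) ⟨y, hy⟩
    exact congrArg Subtype.val this
  have haR : ∀ r ∈ (R : Subgroup G), a * r * a⁻¹ ∈ (R : Subgroup G) := by
    intro r hr
    exact (Subgroup.mem_normalizer_iff.mp haN r).mp hr
  obtain ⟨hχa, hχa2, hfN, hfa⟩ := frobenius_core D (R : Subgroup G) hR9 hRc a ha haR hfpf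
  -- a Sylow 2-subgroup containing `a`
  obtain ⟨S, haS⟩ : ∃ S : Sylow 2 G, a ∈ (S : Subgroup G) := by
    have hp : IsPGroup 2 (Subgroup.zpowers a) := by
      apply IsPGroup.of_card (n := 2)
      rw [Nat.card_zpowers, ha]; norm_num
    obtain ⟨S, hS⟩ := hp.exists_le_sylow
    exact ⟨S, hS (Subgroup.mem_zpowers a)⟩
  have hS8 := card_sylow_two hcard S
  have hKS : Subgroup.zpowers a ≤ (S : Subgroup G) := by
    rw [Subgroup.zpowers_le]; exact haS
  have ha2 : orderOf (a ^ 2) = 2 := by
    rw [orderOf_pow' a (by norm_num : (2 : ℕ) ≠ 0), ha]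
    norm_num
  have ha4 : a ^ 4 = 1 := by rw [← ha]; exact pow_orderOf_eq_one a
  -- the character sums
  have : Fintype (S : Subgroup G) := Fintype.ofFinite _
  have : Fintype (Subgroup.zpowers a) := Fintype.ofFinite _
  have hsumS : ∑ᶠ g ∈ ((S : Subgroup G) : Set G), D.ρ.character g =
      8 * (Module.finrank ℂ (fixSp D.ρ (S : Subgroup G)) : ℂ) := by
    rw [← sum_subgroup_eq_finsum, sum_character_eq_card_mul_finrank, ← Nat.card_eq_fintype_card,
      hS8]
    norm_num
  have hsumK : ∑ᶠ g ∈ ((Subgroup.zpowers a : Subgroup G) : Set G), D.ρ.character g = 8 := by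
    rw [← sum_subgroup_eq_finsum, sum_character_eq_card_mul_finrank, ← Nat.card_eq_fintype_card,
      Nat.card_zpowers, ha, hfa]
    norm_num
  have hsplit : ∑ᶠ g ∈ ((S : Subgroup G) : Set G), D.ρ.character g =
      ∑ᶠ g ∈ ((Subgroup.zpowers a : Subgroup G) : Set G), D.ρ.character g +
      ∑ᶠ g ∈ (((S : Subgroup G) : Set G) \ ((Subgroup.zpowers a : Subgroup G) : Set G)),
        D.ρ.character g := by
    have hU : ((S : Subgroup G) : Set G) = ((Subgroup.zpowers a : Subgroup G) : Set G) ∪
        (((S : Subgroup G) : Set G) \ ((Subgroup.zpowers a : Subgroup G) : Set G)) := by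
      rw [Set.union_sdiff_cancel]
      exact hKS
    conv_lhs => rw [hU]
    exact finsum_mem_union Set.disjoint_sdiff_right (Set.toFinite _) (Set.toFinite _)
  have hncard : (((S : Subgroup G) : Set G) \
      ((Subgroup.zpowers a : Subgroup G) : Set G)).ncard = 4 := by
    rw [Set.ncard_sdiff (show ((Subgroup.zpowers a : Subgroup G) : Set G) ⊆ _ from hKS)
      (Set.toFinite _)]
    have h1 : ((S : Subgroup G) : Set G).ncard = 8 := by
      rw [← hS8]; rfl
    have h2 : ((Subgroup.zpowers a : Subgroup G) : Set G).ncard = 4 := by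
      have : Nat.card (Subgroup.zpowers a) = 4 := by rw [Nat.card_zpowers, ha]
      rw [← this]; rfl
    rw [h1, h2]
  have hchar_invol : ∀ s : G, orderOf s = 2 → D.ρ.character s = 2 := by
    intro s hs
    obtain ⟨g, hg⟩ := isConj_iff.mp (hinv (a ^ 2) s ha2 hs)
    rw [← hg, Representation.char_conj, hχa2]
  rcases Cfsg.Agent.Helper14.A7.sylow_two_cases hcard S a haS ha with hD | ⟨u, huS, huK, hu, hua⟩
  · -- dihedral type
    have houter : ∑ᶠ g ∈ (((S : Subgroup G) : Set G) \
        ((Subgroup.zpowers a : Subgroup G) : Set G)), D.ρ.character g = 8 := by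
      have hcongr : ∑ᶠ g ∈ (((S : Subgroup G) : Set G) \
          ((Subgroup.zpowers a : Subgroup G) : Set G)), D.ρ.character g =
          ∑ᶠ g ∈ (((S : Subgroup G) : Set G) \
          ((Subgroup.zpowers a : Subgroup G) : Set G)), (2 : ℂ) := by
        apply finsum_mem_congr rfl
        intro g hg
        exact hchar_invol g (hD g hg.1 hg.2)
      rw [hcongr, finsum_mem_eq_finite_toFinset_sum _ (Set.toFinite _), Finset.sum_const,
        ← Set.ncard_eq_toFinset_card _ (Set.toFinite _), hncard]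
      norm_num
    have hfS : Module.finrank ℂ (fixSp D.ρ (S : Subgroup G)) = 2 := by
      rw [hsplit, hsumK, houter] at hsumS
      have h3 : (8 : ℂ) * 2 = 8 * (Module.finrank ℂ (fixSp D.ρ (S : Subgroup G)) : ℂ) := by
        rw [← hsumS]; norm_num
      have h4 : (2 : ℂ) = (Module.finrank ℂ (fixSp D.ρ (S : Subgroup G)) : ℂ) :=
        mul_left_cancel₀ (by norm_num) h3
      exact_mod_cast h4.symm
    have hle : fixSp D.ρ (S : Subgroup G) ≤ fixSp D.ρ (Subgroup.zpowers a) :=
      fixSp_anti D.ρ hKS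
    have heq : fixSp D.ρ (S : Subgroup G) = fixSp D.ρ (Subgroup.zpowers a) :=
      Submodule.eq_of_le_of_finrank_eq hle (by rw [hfS, hfa])
    set H : Subgroup G := ((R : Subgroup G) ⊔ Subgroup.zpowers a) ⊔ (S : Subgroup G) with hH
    have hfixH : fixSp D.ρ H = fixSp D.ρ ((R : Subgroup G) ⊔ Subgroup.zpowers a) := by
      rw [hH, fixSp_sup, inf_eq_left, heq]
      exact fixSp_anti D.ρ le_sup_right
    have hHtop : H ≠ ⊤ := by
      intro htop
      have h5 : Module.finrank ℂ (fixSp D.ρ H) = 1 := by rw [hfixH, hfN]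
      rw [htop, D.fix_top, finrank_bot] at h5
      exact zero_ne_one h5
    refine ⟨H, Cfsg.Agent.Helper37.A7.index_eq_seven_of_normalizer_le hcard R hN H hHtop ?_ ?_⟩
    · rw [hNeq]; exact le_sup_left
    · rw [← hS8]
      exact Subgroup.card_dvd_of_le le_sup_right
  · -- type `C4 × C2`: contradiction
    exfalso
    have hu2 : u ^ 2 = 1 := by rw [← hu]; exact pow_orderOf_eq_one u
    have hcomm : Commute u a := hua
    -- the outer part is `u • ⟨a⟩`
    have hout : (((S : Subgroup G) : Set G) \ ((Subgroup.zpowers a : Subgroup G) : Set G)) =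
        (fun k => u * k) '' ((Subgroup.zpowers a : Subgroup G) : Set G) := by
      symm
      apply Set.eq_of_subset_of_ncard_le
      · rintro _ ⟨k, hk, rfl⟩
        refine ⟨Subgroup.mul_mem _ huS (hKS hk), ?_⟩
        intro hmem
        apply huK
        have : u = u * k * k⁻¹ := by group
        rw [this]
        exact Subgroup.mul_mem _ hmem (Subgroup.inv_mem _ hk)
      · rw [hncard, Set.ncard_image_of_injective _ (mul_right_injective u)]
        have : Nat.card (Subgroup.zpowers a) = 4 := by rw [Nat.card_zpowers, ha]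
        rw [← this]; rfl
      · exact Set.toFinite _
    have houter : ∑ᶠ g ∈ (((S : Subgroup G) : Set G) \
        ((Subgroup.zpowers a : Subgroup G) : Set G)), D.ρ.character g =
        D.ρ.character (u * 1) + D.ρ.character (u * a) + D.ρ.character (u * a ^ 2) +
          D.ρ.character (u * a ^ 3) := by
      rw [hout, finsum_mem_image (fun x _ y _ h => mul_right_injective u h)]
      exact finsum_zpowers_four a ha (fun k => D.ρ.character (u * k))
    -- values
    have hv0 : D.ρ.character (u * 1) = 2 := by rw [mul_one]; exact hchar_invol u hu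
    have hua2 : orderOf (u * a ^ 2) = 2 := by
      apply orderOf_mul_of_commute_invol u (a ^ 2) hu ha2 (hcomm.pow_right 2).eq
      intro h
      apply huK
      rw [h]
      exact Subgroup.pow_mem _ (Subgroup.mem_zpowers a) 2
    have hv2 : D.ρ.character (u * a ^ 2) = 2 := hchar_invol _ hua2
    -- `b = u a`, `b' = u a^3 = b⁻¹`
    have hb4 : (u * a) ^ 4 = 1 := by
      rw [hcomm.mul_pow, ha4, mul_one]
      have : u ^ 4 = (u ^ 2) ^ 2 := by rw [← pow_mul]
      rw [this, hu2, one_pow]
    have hb2 : (u * a) ^ 2 = a ^ 2 := by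
      rw [hcomm.mul_pow, hu2, one_mul]
    have hbinv : (u * a)⁻¹ = u * a ^ 3 := by
      apply inv_eq_of_mul_eq_one_right
      have h1 : Commute u (a ^ 3) := hcomm.pow_right 3
      calc u * a * (u * a ^ 3) = u * (a * u) * a ^ 3 := by group
        _ = u * (u * a) * a ^ 3 := by rw [hcomm.eq]
        _ = (u * u) * (a * a ^ 3) := by group
        _ = 1 := by rw [← pow_two, hu2, ← pow_succ', ha4, one_mul]
    have hb'4 : (u * a ^ 3) ^ 4 = 1 := by
      rw [← hbinv, inv_pow, hb4, inv_one]
    have hb'2 : (u * a ^ 3) ^ 2 = a ^ 2 := by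
      rw [← hbinv, inv_pow, hb2]
      apply inv_eq_of_mul_eq_one_right
      rw [← pow_add]; exact ha4
    obtain ⟨d0, d1, d2, hsum, hev, hχb, hχb2, hfb⟩ := Cfsg.Agent.Helper48.A7.char_pow_four D (u * a) hb4
    obtain ⟨d0', d1', d2', hsum', hev', hχb', hχb2', hfb'⟩ := Cfsg.Agent.Helper48.A7.char_pow_four D (u * a ^ 3) hb'4
    rw [hb2, hχa2] at hχb2
    rw [hb'2, hχa2] at hχb2'
    have hzp : Subgroup.zpowers (u * a ^ 3) = Subgroup.zpowers (u * a) := by
      rw [← hbinv, Subgroup.zpowers_inv]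
    rw [hzp, hfb] at hfb'
    -- arithmetic
    have e1 : (d0 : ℤ) + d2 - 2 * d1 = 2 := by exact_mod_cast hχb2.symm
    have e1' : (d0' : ℤ) + d2' - 2 * d1' = 2 := by exact_mod_cast hχb2'.symm
    obtain ⟨k, hk⟩ := hev
    obtain ⟨k', hk'⟩ := hev'
    rw [hsplit, hsumK, houter, hv0, hv2, hχb, hχb'] at hsumS
    have e2 : (8 : ℤ) + (2 + ((d0 : ℤ) - d2) + 2 + ((d0' : ℤ) - d2')) =
        8 * (Module.finrank ℂ (fixSp D.ρ (S : Subgroup G)) : ℤ) := by exact_mod_cast hsumS
    omega


/-- **LOC**: a simple group of order 2520 with self-centralizing elements of order 7 and a real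
irreducible character of degree 6 has a subgroup of index 7. -/
theorem exists_index_seven [Finite G] [IsSimpleGroup G] (hcard : Nat.card G = 2520)
    (h7 : ∀ x : G, orderOf x = 7 → ∀ c : G, c * x = x * c → c ∈ Subgroup.zpowers x)
    (χ : G → ℂ) (hχ : IsIrrCharacter G χ) (h6 : χ 1 = 6) (hreal : ∀ g, conj (χ g) = χ g) :
    ∃ H : Subgroup G, H.index = 7 := by
  obtain ⟨D, -⟩ := Cfsg.Agent.Helper82.A7.exists_rep6 hcard χ hχ h6 hreal
  rcases Cfsg.Agent.Helper89.A7.exists_index_seven_or_normalizer_sylow_three hcard h7 with h | ⟨R, hN⟩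
  · exact h
  rcases cases_of_normalizer hcard R hN with h | ⟨a, haN, ha, hNeq, hfpf⟩
  · exact h
  exact index_seven_of_frobenius hcard D R hN a haN ha hNeq hfpf

end Cfsg.Agent.Helper85.A7
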