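import Cfsg.Agent.Helper85.A7Defs

/-!
# S0984 sub-tree LOC (helper85): (R1) `Σ_{k ∈ K} χ(k) = |K| · dim V^K`
-/

set_option autoImplicit false

namespace Cfsg.Agent.Helper85.A7

open Cfsg

universe u

variable {G : Type u} [Group G]

/-- (R1) `Σ_{k ∈ K} χ(k) = |K| · dim V^K` -/
theorem sum_character_eq_card_mul_finrank {V : Type*} [AddCommGroup V] [Module ℂ V]
    [FiniteDimensional ℂ V] (ρ : Representation ℂ G V) (K : Subgroup G) [Fintype K] :
    ∑ k : K, ρ.character (k : G) = (Fintype.card K : ℂ) * (Module.finrank ℂ (fixSp ρ K) : ℂ) := by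
  classical
  set ρK : Representation ℂ K V := ρ.comp K.subtype with hρK
  have hcard : (Fintype.card K : ℂ) ≠ 0 := Nat.cast_ne_zero.mpr Fintype.card_ne_zero
  have : Invertible (Fintype.card K : ℂ) := invertibleOfNonzero hcard
  have hinv : ρK.invariants = fixSp ρ K := by
    ext v
    rw [Representation.mem_invariants, mem_fixSp]
    constructor
    · intro h k hk
      exact h ⟨k, hk⟩
    · intro h k
      exact h k k.2
  have htr := (Representation.isProj_averageMap ρK).trace
  have havg : ρK.averageMap = (Fintype.card K : ℂ)⁻¹ • ∑ s : K, ρ (s : G) := by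
    rw [Representation.averageMap, GroupAlgebra.average, map_smul, map_sum, invOf_eq_inv]
    congr 1
    refine Finset.sum_congr rfl (fun s _ => ?_)
    rw [Representation.asAlgebraHom_of]
    rfl
  rw [havg, map_smul, map_sum, smul_eq_mul, hinv] at htr
  have hchar : ∑ k : K, ρ.character (k : G) = ∑ s : K, LinearMap.trace ℂ V (ρ (s : G)) := rfl
  rw [hchar, ← htr]
  field_simp

end Cfsg.Agent.Helper85.A7
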