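import Cfsg.Agent.Helper88.FusionStrongInv
import Cfsg.Agent.Helper88.FusionInvariant
set_option autoImplicit false

/-!
The core of a fusion system `E` over `T` under a group `A` of automorphisms of `T`: the maps of `E` all of whose
transports along elements of `A` are again maps of `E`. It is a fusion system over `T`, contained in `E` and invariant
under `A`. Also: the Frattini property (`Helper88.FS.Fr`) is closed under composition and inverses as soon as `E` is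
invariant under `Aut_F(T)`.
-/

namespace Cfsg.Agent.Helper85

open Cfsg Cfsg.FusionSystem Cfsg.Agent.Helper87 Cfsg.Agent.Helper88.FS

variable {Ω : Type*} [Group Ω] {S T : Subgroup Ω}

/-- The map `θ` with source `P ≤ T` can be transported inside `E` along the automorphism `α` of `T`. -/
def Transportable (E : FusionSystem T) (α : MulAut T) {P : Subgroup Ω} (hPT : P ≤ T) (θ : P →* Ω) : Prop :=
  ∀ P' : Subgroup Ω, (∀ y, y ∈ P' ↔ ∃ x : P, ((α ⟨x, hPT x.2⟩ : T) : Ω) = y) →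
    ∃ χ ∈ E.Hom P', ∀ (x : P) (hx : ((α ⟨x, hPT x.2⟩ : T) : Ω) ∈ P') (hθx : θ x ∈ T),
      χ ⟨((α ⟨x, hPT x.2⟩ : T) : Ω), hx⟩ = ((α ⟨θ x, hθx⟩ : T) : Ω)

theorem imgT_spec (α : MulAut T) {P : Subgroup Ω} (hPT : P ≤ T) :
    ∀ y, y ∈ imgT α P ↔ ∃ x : P, ((α ⟨x, hPT x.2⟩ : T) : Ω) = y := by
  intro y
  rw [mem_imgT_iff]
  constructor
  · rintro ⟨x, hx, rfl⟩
    exact ⟨⟨x, hx⟩, rfl⟩
  · rintro ⟨x, rfl⟩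
    exact ⟨⟨x, hPT x.2⟩, x.2, rfl⟩

theorem transportable_conj (E : FusionSystem T) (α : MulAut T) {P : Subgroup Ω} (hPT : P ≤ T) {g : Ω}
    (hg : g ∈ T) : Transportable E α hPT (conjHom P g) := by
  intro P' hP'
  have hP'T : P' ≤ T := by
    intro y hy
    obtain ⟨x, rfl⟩ := (hP' y).mp hy
    exact (α _).2
  refine ⟨conjHom P' ((α ⟨g, hg⟩ : T) : Ω), E.conj_mem hP'T (α ⟨g, hg⟩).2, fun x hx hθx => ?_⟩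
  have e : (⟨conjHom P g x, hθx⟩ : T) = ⟨g, hg⟩ * ⟨x, hPT x.2⟩ * ⟨g, hg⟩⁻¹ := Subtype.ext rfl
  rw [e, map_mul, map_mul, map_inv]
  rfl

theorem transportable_comp (E : FusionSystem T) (α : MulAut T) {P Q : Subgroup Ω} (hPT : P ≤ T) (hQT : Q ≤ T)
    {φ : P →* Ω} {ψ : Q →* Ω} (tφ : Transportable E α hPT φ) (tψ : Transportable E α hQT ψ)
    (h : ∀ x : P, φ x ∈ Q) : Transportable E α hPT (ψ.comp (φ.codRestrict Q h)) := by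
  intro P' hP'
  obtain ⟨χ₁, hχ₁, h1⟩ := tφ P' hP'
  have hQ' := imgT_spec α hQT
  obtain ⟨χ₂, hχ₂, h2⟩ := tψ (imgT α Q) hQ'
  have hφT : ∀ x : P, φ x ∈ T := fun x => hQT (h x)
  have h' : ∀ y : P', χ₁ y ∈ imgT α Q := by
    rintro ⟨y, hy⟩
    obtain ⟨x, rfl⟩ := (hP' y).mp hy
    rw [h1 x hy (hφT x)]
    exact (hQ' _).mpr ⟨⟨φ x, h x⟩, rfl⟩
  refine ⟨χ₂.comp (χ₁.codRestrict (imgT α Q) h'), E.comp_mem hχ₁ hχ₂ h', fun x hx hθx => ?_⟩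
  have e : (χ₁.codRestrict (imgT α Q) h') ⟨((α ⟨x, hPT x.2⟩ : T) : Ω), hx⟩ =
      ⟨((α ⟨φ x, hφT x⟩ : T) : Ω), (hQ' _).mpr ⟨⟨φ x, h x⟩, rfl⟩⟩ := Subtype.ext (h1 x hx (hφT x))
  show χ₂ ((χ₁.codRestrict (imgT α Q) h') ⟨((α ⟨x, hPT x.2⟩ : T) : Ω), hx⟩) = _
  rw [e]
  exact h2 ⟨φ x, h x⟩ _ hθx

theorem transportable_inv (E : FusionSystem T) (α : MulAut T) {P : Subgroup Ω} (hPT : P ≤ T)
    {φ : P →* Ω} (hφT : ∀ x : P, φ x ∈ T) (tφ : Transportable E α hPT φ) {ρ : φ.range →* Ω}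
    (hρ : ∀ x : P, ρ ⟨φ x, ⟨x, rfl⟩⟩ = (x : Ω)) (hRT : φ.range ≤ T) : Transportable E α hRT ρ := by
  intro R' hR'
  have hP₁ := imgT_spec α hPT
  obtain ⟨χ, hχ, h1⟩ := tφ (imgT α P) hP₁
  obtain ⟨ρ', hρ', h2⟩ := E.inv_mem hχ
  have hz : ∀ x : P, ((α ⟨x, hPT x.2⟩ : T) : Ω) ∈ imgT α P := fun x => (hP₁ _).mpr ⟨x, rfl⟩
  have hEq : χ.range = R' := by
    ext y
    rw [hR' y]
    constructor
    · rintro ⟨⟨z, hz'⟩, rfl⟩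
      obtain ⟨x, rfl⟩ := (hP₁ z).mp hz'
      exact ⟨⟨φ x, ⟨x, rfl⟩⟩, (h1 x hz' (hφT x)).symm⟩
    · rintro ⟨⟨_, ⟨x, rfl⟩⟩, rfl⟩
      exact ⟨⟨_, hz x⟩, h1 x (hz x) (hφT x)⟩
  obtain ⟨ρ'', hρ'', h3⟩ := exists_hom_of_eq E hEq hρ'
  refine ⟨ρ'', hρ'', ?_⟩
  rintro ⟨_, ⟨x, rfl⟩⟩ hx hθx
  have hA : ((α ⟨φ x, hφT x⟩ : T) : Ω) ∈ χ.range := ⟨⟨_, hz x⟩, h1 x (hz x) (hφT x)⟩
  have e0 : ρ'' ⟨((α ⟨φ x, hφT x⟩ : T) : Ω), hx⟩ = ρ' ⟨((α ⟨φ x, hφT x⟩ : T) : Ω), hA⟩ := h3 _ hA hx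
  have e : (⟨((α ⟨φ x, hφT x⟩ : T) : Ω), hA⟩ : χ.range) = ⟨χ ⟨_, hz x⟩, ⟨_, rfl⟩⟩ :=
    Subtype.ext (h1 x (hz x) (hφT x)).symm
  show ρ'' ⟨((α ⟨φ x, hφT x⟩ : T) : Ω), hx⟩ = _
  rw [e0, e, h2]
  have e2 : (⟨ρ ⟨φ x, ⟨x, rfl⟩⟩, hθx⟩ : T) = ⟨x, hPT x.2⟩ := Subtype.ext (hρ x)
  rw [e2]

/-- The core of `E` under the group `A` of automorphisms of `T`. -/
def coreSystem (E : FusionSystem T) (A : Subgroup (MulAut T)) : FusionSystem T where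
  Hom P := {θ | θ ∈ E.Hom P ∧ ∀ α ∈ A, ∀ hPT : P ≤ T, Transportable E α hPT θ}
  le_of_mem h := E.le_of_mem h.1
  injective_of_mem h := E.injective_of_mem h.1
  conj_mem hP hg := ⟨E.conj_mem hP hg, fun α _ hPT => transportable_conj E α hPT hg⟩
  comp_mem hφ hψ h := ⟨E.comp_mem hφ.1 hψ.1 h, fun α hα hPT =>
    transportable_comp E α hPT (E.le_of_mem hψ.1).1 (hφ.2 α hα hPT) (hψ.2 α hα (E.le_of_mem hψ.1).1) h⟩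
  inv_mem hφ := by
    obtain ⟨ρ, hρ, hρx⟩ := E.inv_mem hφ.1
    exact ⟨ρ, ⟨hρ, fun α hα hRT =>
      transportable_inv E α (E.le_of_mem hφ.1).1 (E.le_of_mem hφ.1).2 (hφ.2 α hα _) hρx hRT⟩, hρx⟩

theorem mem_coreSystem_iff (E : FusionSystem T) (A : Subgroup (MulAut T)) {P : Subgroup Ω} (θ : P →* Ω) :
    θ ∈ (coreSystem E A).Hom P ↔ θ ∈ E.Hom P ∧ ∀ α ∈ A, ∀ hPT : P ≤ T, Transportable E α hPT θ := Iff.rfl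

theorem coreSystem_le (E : FusionSystem T) (A : Subgroup (MulAut T)) (P : Subgroup Ω) :
    (coreSystem E A).Hom P ⊆ E.Hom P := fun _ h => h.1

/-- The core is invariant under `A`. -/
theorem coreSystem_transportable (E : FusionSystem T) (A : Subgroup (MulAut T)) {P : Subgroup Ω} (hPT : P ≤ T)
    {θ : P →* Ω} (hθ : θ ∈ (coreSystem E A).Hom P) {β : MulAut T} (hβ : β ∈ A) :
    Transportable (coreSystem E A) β hPT θ := by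
  intro P' hP'
  obtain ⟨χ, hχ, h1⟩ := hθ.2 β hβ hPT P' hP'
  refine ⟨χ, ⟨hχ, fun α hα hP'T => ?_⟩, h1⟩
  intro P'' hP''
  have hP''' : ∀ y, y ∈ P'' ↔ ∃ x : P, (((α * β) ⟨x, hPT x.2⟩ : T) : Ω) = y := by
    intro y
    rw [hP'' y]
    constructor
    · rintro ⟨⟨z, hz⟩, rfl⟩
      obtain ⟨x, rfl⟩ := (hP' z).mp hz
      exact ⟨x, rfl⟩
    · rintro ⟨x, rfl⟩
      exact ⟨⟨_, (hP' _).mpr ⟨x, rfl⟩⟩, rfl⟩
  obtain ⟨χ', hχ', h2⟩ := hθ.2 (α * β) (A.mul_mem hα hβ) hPT P'' hP'''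
  refine ⟨χ', hχ', ?_⟩
  rintro ⟨y, hy⟩ hx hθx
  obtain ⟨x, rfl⟩ := (hP' y).mp hy
  have hθT : θ x ∈ T := (E.le_of_mem hθ.1).2 x
  have h3 := h2 x hx hθT
  have e1 : (⟨χ ⟨((β ⟨x, hPT x.2⟩ : T) : Ω), hy⟩, hθx⟩ : T) = β ⟨θ x, hθT⟩ := Subtype.ext (h1 x hy hθT)
  rw [e1]
  exact h3

/-- Invariance of a system over `T` under a group of automorphisms of `T`. -/
def AutInv (E : FusionSystem T) (A : Subgroup (MulAut T)) : Prop :=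
  ∀ {P : Subgroup Ω} (hPT : P ≤ T) {θ : P →* Ω}, θ ∈ E.Hom P → ∀ {α : MulAut T}, α ∈ A → Transportable E α hPT θ

theorem autInv_coreSystem (E : FusionSystem T) (A : Subgroup (MulAut T)) : AutInv (coreSystem E A) A :=
  fun hPT _ hθ _ hα => coreSystem_transportable E A hPT hθ hα

/-- If `E` is contained in its core, it is invariant. -/
theorem autInv_of_le_core (E : FusionSystem T) (A : Subgroup (MulAut T))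
    (h : ∀ P : Subgroup Ω, E.Hom P ⊆ (coreSystem E A).Hom P) : AutInv E A :=
  fun hPT _ hθ _ hα => (h _ hθ).2 _ hα hPT

/-! ### The Frattini property under invariance -/

/-- Composition of a map with the Frattini property with a map of the subsystem. -/
theorem fr_comp_mem {E : FusionSystem T} {F : FusionSystem S} (hAI : AutInv E (F.autGroup T))
    {P Q : Subgroup Ω} {φ : P →* Ω} (h : Fr E F φ) (hφQ : ∀ x : P, φ x ∈ Q) {θ : Q →* Ω} (hθ : θ ∈ E.Hom Q) :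
    Fr E F (θ.comp (φ.codRestrict Q hφQ)) := by
  obtain ⟨α, hα, φ₀, hφ₀, hx⟩ := h
  have hPT : P ≤ T := (E.le_of_mem hφ₀).1
  have hφ₀T : ∀ x : P, φ₀ x ∈ T := (E.le_of_mem hφ₀).2
  have hQT : Q ≤ T := (E.le_of_mem hθ).1
  have hαinv : α⁻¹ ∈ F.autGroup T := (F.autGroup T).inv_mem hα
  have hP₁Q : φ.range ≤ Q := by
    rintro y ⟨x, rfl⟩
    exact hφQ x
  have hP₁T : φ.range ≤ T := hP₁Q.trans hQT
  have hθ₁ : θ.comp (Subgroup.inclusion hP₁Q) ∈ E.Hom φ.range := restrict_mem E hθ hP₁Q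
  have hφx : ∀ x : P, ((α⁻¹ ⟨φ x, hP₁T ⟨x, rfl⟩⟩ : T) : Ω) = φ₀ x := by
    intro x
    have e : (⟨φ x, hP₁T ⟨x, rfl⟩⟩ : T) = α ⟨φ₀ x, hφ₀T x⟩ := Subtype.ext (hx x (hφ₀T x))
    rw [e, MulAut.inv_apply_self]
  have hP' : ∀ y, y ∈ φ₀.range ↔ ∃ z : φ.range, ((α⁻¹ ⟨z, hP₁T z.2⟩ : T) : Ω) = y := by
    intro y
    constructor
    · rintro ⟨x, rfl⟩
      exact ⟨⟨φ x, ⟨x, rfl⟩⟩, hφx x⟩
    · rintro ⟨⟨_, ⟨x, rfl⟩⟩, rfl⟩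
      exact ⟨x, (hφx x).symm⟩
  obtain ⟨χ, hχ, hχx⟩ := hAI hP₁T hθ₁ hαinv _ hP'
  refine ⟨α, hα, χ.comp (φ₀.codRestrict φ₀.range (fun x => ⟨x, rfl⟩)),
    E.comp_mem hφ₀ hχ (fun x => ⟨x, rfl⟩), fun x hx' => ?_⟩
  have hθT : θ ⟨φ x, hφQ x⟩ ∈ T := (E.le_of_mem hθ).2 _
  have h1 := hχx ⟨φ x, ⟨x, rfl⟩⟩ (by rw [hφx x]; exact ⟨x, rfl⟩) hθT
  have e : (⟨φ₀ x, ⟨x, rfl⟩⟩ : φ₀.range) =
      ⟨((α⁻¹ ⟨φ x, hP₁T ⟨x, rfl⟩⟩ : T) : Ω), by rw [hφx x]; exact ⟨x, rfl⟩⟩ := Subtype.ext (hφx x).symm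
  have h2 : (χ.comp (φ₀.codRestrict φ₀.range (fun x => ⟨x, rfl⟩))) x = ((α⁻¹ ⟨θ ⟨φ x, hφQ x⟩, hθT⟩ : T) : Ω) := by
    show χ ⟨φ₀ x, ⟨x, rfl⟩⟩ = _
    rw [e]
    exact h1
  have h3 : (⟨(χ.comp (φ₀.codRestrict φ₀.range (fun x => ⟨x, rfl⟩))) x, hx'⟩ : T) = α⁻¹ ⟨θ ⟨φ x, hφQ x⟩, hθT⟩ :=
    Subtype.ext h2
  rw [h3, MulAut.apply_inv_self]
  rfl

/-- Composition of two maps with the Frattini property. -/
theorem fr_comp {E : FusionSystem T} {F : FusionSystem S} (hAI : AutInv E (F.autGroup T))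
    {P Q : Subgroup Ω} {φ : P →* Ω} (h : Fr E F φ) (hφQ : ∀ x : P, φ x ∈ Q) {ψ : Q →* Ω} (hψ : Fr E F ψ) :
    Fr E F (ψ.comp (φ.codRestrict Q hφQ)) := by
  obtain ⟨α₂, hα₂, ψ₀, hψ₀, hψx⟩ := hψ
  obtain ⟨α, hα, φ₀, hφ₀, hx⟩ := fr_comp_mem hAI h hφQ hψ₀
  refine ⟨α₂ * α, (F.autGroup T).mul_mem hα₂ hα, φ₀, hφ₀, fun x hx' => ?_⟩
  have h1 := hx x hx'
  have hψ₀T : ψ₀ ⟨φ x, hφQ x⟩ ∈ T := (E.le_of_mem hψ₀).2 _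
  have h2 := hψx ⟨φ x, hφQ x⟩ hψ₀T
  show ψ ⟨φ x, hφQ x⟩ = _
  rw [h2, MulAut.mul_apply]
  congr 2
  exact Subtype.ext h1

/-- The inverse of a map with the Frattini property has the Frattini property. -/
theorem fr_inv {E : FusionSystem T} {F : FusionSystem S} (hAI : AutInv E (F.autGroup T))
    {P : Subgroup Ω} {φ : P →* Ω} (h : Fr E F φ) {ρ : φ.range →* Ω} (hρ : ∀ x : P, ρ ⟨φ x, ⟨x, rfl⟩⟩ = (x : Ω)) :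
    Fr E F ρ := by
  obtain ⟨α, hα, φ₀, hφ₀, hx⟩ := h
  have hPT : P ≤ T := (E.le_of_mem hφ₀).1
  have hφ₀T : ∀ x : P, φ₀ x ∈ T := (E.le_of_mem hφ₀).2
  have hαinv : α⁻¹ ∈ F.autGroup T := (F.autGroup T).inv_mem hα
  have hP₀T : φ₀.range ≤ T := by
    rintro y ⟨x, rfl⟩
    exact hφ₀T x
  obtain ⟨ρ₀, hρ₀, hρ₀x⟩ := E.inv_mem hφ₀
  have hP' : ∀ y, y ∈ φ.range ↔ ∃ z : φ₀.range, ((α ⟨z, hP₀T z.2⟩ : T) : Ω) = y := by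
    intro y
    constructor
    · rintro ⟨x, rfl⟩
      exact ⟨⟨φ₀ x, ⟨x, rfl⟩⟩, (hx x (hφ₀T x)).symm⟩
    · rintro ⟨⟨_, ⟨x, rfl⟩⟩, rfl⟩
      exact ⟨x, hx x (hφ₀T x)⟩
  obtain ⟨χ, hχ, hχx⟩ := hAI hP₀T hρ₀ hα _ hP'
  refine ⟨α⁻¹, hαinv, χ, hχ, ?_⟩
  rintro ⟨_, ⟨x, rfl⟩⟩ hx'
  have hxT : ρ₀ ⟨φ₀ x, ⟨x, rfl⟩⟩ ∈ T := by rw [hρ₀x x]; exact hPT x.2
  have h1 := hχx ⟨φ₀ x, ⟨x, rfl⟩⟩ (by rw [← hx x (hφ₀T x)]; exact ⟨x, rfl⟩) hxT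
  have e : (⟨φ x, ⟨x, rfl⟩⟩ : φ.range) =
      ⟨((α ⟨φ₀ x, hφ₀T x⟩ : T) : Ω), by rw [← hx x (hφ₀T x)]; exact ⟨x, rfl⟩⟩ := Subtype.ext (hx x (hφ₀T x))
  have h2 : χ ⟨φ x, ⟨x, rfl⟩⟩ = ((α ⟨ρ₀ ⟨φ₀ x, ⟨x, rfl⟩⟩, hxT⟩ : T) : Ω) := by
    rw [e]
    exact h1
  have h3 : (⟨χ ⟨φ x, ⟨x, rfl⟩⟩, hx'⟩ : T) = α ⟨ρ₀ ⟨φ₀ x, ⟨x, rfl⟩⟩, hxT⟩ := Subtype.ext h2
  rw [h3, MulAut.inv_apply_self, hρ x]
  exact (hρ₀x x).symm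

/-- Moving the Frattini property along an equality of sources. -/
theorem fr_of_eq {E : FusionSystem T} {F : FusionSystem S} {A B : Subgroup Ω} (h : A = B) {ρA : A →* Ω}
    {ρB : B →* Ω} (hAB : ∀ (y : Ω) (hA : y ∈ A) (hB : y ∈ B), ρB ⟨y, hB⟩ = ρA ⟨y, hA⟩) (hA : Fr E F ρA) :
    Fr E F ρB := by
  subst h
  have : ρB = ρA := MonoidHom.ext (fun y => hAB y y.2 y.2)
  rwa [this]

end Cfsg.Agent.Helper85
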