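import Cfsg.Agent.Helper85.PPowerNormal
import Cfsg.Agent.S5097
import Cfsg.Agent.S5099
set_option autoImplicit false

/-!
Fusion systems over a direct product `S = S₁ × S₂` with strongly closed factors: the full subsystem on `S₁` and the part
of the centralizer system of `S₂` on `S₁`.
-/

namespace Cfsg.Agent.Helper85

open Cfsg Cfsg.FusionSystem Cfsg.Agent.Helper87 Cfsg.Agent.Helper88.FS

variable {Ω : Type*} [Group Ω] {S : Subgroup Ω}

/-- Transport of a map of the system along an automorphism of the system on a subgroup `N`. -/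
theorem transport_of_isIso (F : FusionSystem S) {N : Subgroup Ω} (α : MulAut N) (hα : IsIso F (α : N ≃* N))
    {P : Subgroup Ω} (hPN : P ≤ N) {θ : P →* Ω} (hθ : θ ∈ F.Hom P) (hθN : ∀ x : P, θ x ∈ N)
    (P' : Subgroup Ω) (hP' : ∀ y, y ∈ P' ↔ ∃ x : P, ((α ⟨x, hPN x.2⟩ : N) : Ω) = y) :
    ∃ χ ∈ F.Hom P', ∀ (x : P) (hx : ((α ⟨x, hPN x.2⟩ : N) : Ω) ∈ P'),
      χ ⟨((α ⟨x, hPN x.2⟩ : N) : Ω), hx⟩ = ((α ⟨θ x, hθN x⟩ : N) : Ω) := by
  have hP'eq : P' = imageSub (α : N ≃* N) P := by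
    ext y
    rw [hP' y]
    constructor
    · rintro ⟨x, rfl⟩
      exact mem_imageSub (α : N ≃* N) P ⟨x, hPN x.2⟩ x.2
    · rintro ⟨x, hx, rfl⟩
      exact ⟨⟨x, hx⟩, rfl⟩
  subst hP'eq
  have he : IsIso F (restrictIso (α : N ≃* N) hPN) := isIso_restrictIso F hα hPN
  have hθ' : (N.subtype.comp (α : N ≃* N).toMonoidHom).comp (θ.codRestrict N hθN) ∈ F.Hom P :=
    F.comp_mem hθ hα hθN
  have hχ := comp_iso_mem F he.symm hθ'
  refine ⟨_, hχ, fun x hx => ?_⟩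
  have e1 : (⟨((α ⟨x, hPN x.2⟩ : N) : Ω), hx⟩ : imageSub (α : N ≃* N) P) =
      restrictIso (α : N ≃* N) hPN x := Subtype.ext rfl
  rw [e1]
  simp only [MonoidHom.comp_apply, MulEquiv.coe_toMonoidHom, MulEquiv.symm_apply_apply]
  rfl

/-- Every fusion system is invariant under its own automorphism group of the underlying group. -/
theorem autInv_self {T : Subgroup Ω} (E : FusionSystem T) : AutInv E (E.autGroup T) := by
  intro P hPT θ hθ α hα P' hP'
  have hαiso : IsIso E (α : T ≃* T) := (mem_autGroup_iff E le_rfl α).mp hα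
  obtain ⟨χ, hχ, hχx⟩ := transport_of_isIso E α hαiso hPT hθ (E.le_of_mem hθ).2 P' hP'
  exact ⟨χ, hχ, fun x hx _ => hχx x hx⟩

/-- Extension of an automorphism of the system on a strongly closed subgroup `T` to `T C_S(T)`. -/
theorem exists_aut_extension [Finite S] {p : ℕ} [Fact p.Prime] (hS : IsPGroup p S) (F : FusionSystem S)
    (hF : F.IsSaturated p) {T : Subgroup Ω} (hT : F.StronglyClosed T) {α : MulAut T} (hα : α ∈ F.autGroup T) :
    ∃ β : MulAut ↥(T ⊔ centralizerIn S T), β ∈ F.autGroup (T ⊔ centralizerIn S T) ∧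
      ∀ x : T, ((β (Subgroup.inclusion le_sup_left x) : ↥(T ⊔ centralizerIn S T)) : Ω) = ((α x : T) : Ω) := by
  have hTC : F.StronglyClosed (T ⊔ centralizerIn S T) := stronglyClosed_sup_centralizerIn hS F hF hT
  have hinv : ∀ γ ∈ F.autGroup (T ⊔ centralizerIn S T), ∀ x : ↥(T ⊔ centralizerIn S T),
      ((γ x : ↥(T ⊔ centralizerIn S T)) : Ω) ∈ T ↔ (x : Ω) ∈ T :=
    fun γ hγ x => aut_mem_iff_of_stronglyClosed F hT hTC.1 hγ x
  obtain ⟨β, hβ⟩ := resAutHom_surjective hS F hF hT hTC.1 hinv ⟨α, hα⟩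
  refine ⟨β, β.2, fun x => ?_⟩
  have h1 := resAutHom_apply F hTC.1 le_sup_left hinv β x
  rw [hβ] at h1
  exact h1.symm

/-- Restriction of a saturated system to a strongly closed direct factor is saturated. -/
theorem isSaturated_restrict_factor [Finite S] {p : ℕ} [Fact p.Prime] (F : FusionSystem S) (hF : F.IsSaturated p)
    {S₁ : Subgroup Ω} (h₁ : F.StronglyClosed S₁)
    (hdec : ∀ g ∈ S, ∃ g₁ ∈ S₁, ∃ g₂ ∈ Subgroup.centralizer (S₁ : Set Ω), g = g₁ * g₂)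
    (R : FusionSystem S₁) (hR : ∀ P : Subgroup Ω, P ≤ S₁ → R.Hom P = F.Hom P) : R.IsSaturated p := by
  intro P hP
  have hPS : P ≤ S := hP.trans h₁.1
  obtain ⟨Q, hPQ, hQa, hQr⟩ := hF P hPS
  have hQS₁ : Q ≤ S₁ := by
    obtain ⟨φ, hφ, rfl⟩ := hPQ
    rintro _ ⟨x, rfl⟩
    exact h₁.2 P hP φ hφ x
  refine ⟨Q, ?_, ?_, ?_⟩
  · obtain ⟨φ, hφ, hr⟩ := hPQ
    exact ⟨φ, by rw [hR P hP]; exact hφ, hr⟩
  · refine ⟨hQS₁, ?_⟩
    obtain ⟨Sy, hSy⟩ := hQa.2
    have hA : R.autGroup Q = F.autGroup Q := by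
      ext γ
      rw [mem_autGroup_iff R hQS₁, mem_autGroup_iff F hQa.1]
      unfold IsIso
      rw [hR Q hQS₁]
    have hB : autInducedBy S₁ Q = autInducedBy S Q := by
      ext γ
      rw [mem_autInducedBy_iff, mem_autInducedBy_iff]
      constructor
      · rintro ⟨g, hg, h⟩
        exact ⟨g, h₁.1 hg, h⟩
      · rintro ⟨g, hg, h⟩
        obtain ⟨g₁, hg₁, g₂, hg₂, rfl⟩ := hdec g hg
        refine ⟨g₁, hg₁, fun x => ?_⟩
        rw [h x]
        have hc := Subgroup.mem_centralizer_iff.mp hg₂ x (hQS₁ x.2)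
        calc g₁ * g₂ * (x : Ω) * (g₁ * g₂)⁻¹ = g₁ * (g₂ * (x : Ω)) * g₂⁻¹ * g₁⁻¹ := by group
          _ = g₁ * ((x : Ω) * g₂) * g₂⁻¹ * g₁⁻¹ := by rw [hc]
          _ = g₁ * (x : Ω) * g₁⁻¹ := by group
    rw [hA, hB]
    exact ⟨Sy, hSy⟩
  · refine ⟨hQS₁, fun P' φ hφ hrange => ?_⟩
    have hP'S₁ : P' ≤ S₁ := (R.le_of_mem hφ).1
    have hφF : φ ∈ F.Hom P' := by rw [← hR P' hP'S₁]; exact hφ
    obtain ⟨ψ, hψ, hψx⟩ := hQr.2 P' φ hφF hrange
    have hle : extender S₁ P' φ ≤ extender S P' φ := by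
      unfold extender
      apply Subgroup.closure_mono
      rintro g ⟨hg, hgN, h, hh, hx⟩
      exact ⟨h₁.1 hg, hgN, h, h₁.1 hh, hx⟩
    have hext₁ : extender S₁ P' φ ≤ S₁ := by
      unfold extender
      rw [Subgroup.closure_le]
      rintro g ⟨hg, -⟩
      exact hg
    refine ⟨ψ.comp (Subgroup.inclusion hle), ?_, fun x hP hN => hψx x hP (hle hN)⟩
    rw [hR _ hext₁]
    exact restrict_mem F hψ hle

end Cfsg.Agent.Helper85
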