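import Cfsg.Agent.Helper85.DirectFactor
set_option autoImplicit false

namespace Cfsg.Agent.Helper85

open Cfsg Cfsg.FusionSystem Cfsg.Agent.Helper87 Cfsg.Agent.Helper88.FS

variable {Ω : Type*} [Group Ω] {S : Subgroup Ω}

theorem le_centralizerIn_of_comm {S₁ S₂ : Subgroup Ω} (h2S : S₂ ≤ S)
    (hcomm : ∀ a ∈ S₁, ∀ b ∈ S₂, a * b = b * a) : S₂ ≤ centralizerIn S S₁ :=
  fun b hb => ⟨h2S hb, Subgroup.mem_centralizer_iff.mpr (fun a ha => hcomm a ha b hb)⟩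

theorem le_normalizer_of_comm {P S₂ : Subgroup Ω} (hcomm : ∀ a ∈ P, ∀ b ∈ S₂, a * b = b * a) :
    P ≤ Subgroup.normalizer (S₂ : Set Ω) := by
  intro a ha
  apply Subgroup.centralizer_le_normalizer
  rw [Subgroup.mem_centralizer_iff]
  intro b hb
  exact (hcomm a ha b hb).symm

theorem mem_sup_of_comm {P S₂ : Subgroup Ω} (hcomm : ∀ a ∈ P, ∀ b ∈ S₂, a * b = b * a) (y : Ω) :
    y ∈ P ⊔ S₂ ↔ ∃ a ∈ P, ∃ b ∈ S₂, a * b = y := by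
  rw [← SetLike.mem_coe, Subgroup.coe_mul_of_left_le_normalizer_right P S₂ (le_normalizer_of_comm hcomm)]
  exact Set.mem_mul

/-- The part on `S₁` of the centralizer system of `S₂` is invariant under `Aut_F(S₁)`. -/
theorem autInv_centralizer_factor [Finite S] {p : ℕ} [Fact p.Prime] (hS : IsPGroup p S) (F : FusionSystem S)
    (hF : F.IsSaturated p) {S₁ S₂ : Subgroup Ω} (h1 : F.StronglyClosed S₁) (h2 : F.StronglyClosed S₂)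
    (hcomm : ∀ a ∈ S₁, ∀ b ∈ S₂, a * b = b * a) (R' : FusionSystem S₁)
    (hR' : ∀ P : Subgroup Ω, P ≤ S₁ → R'.Hom P = F.centralizerHom S₂ P) : AutInv R' (F.autGroup S₁) := by
  intro P hPS₁ θ hθ α hα P' hP'
  rw [hR' P hPS₁] at hθ
  obtain ⟨hθF, -, -, ψ, hψ, hψx, hψfix⟩ := hθ
  obtain ⟨β, hβ, hβx⟩ := exists_aut_extension hS F hF h1 hα
  have hTC : F.StronglyClosed (S₁ ⊔ centralizerIn S S₁) := stronglyClosed_sup_centralizerIn hS F hF h1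
  have hβiso : IsIso F (β : ↥(S₁ ⊔ centralizerIn S S₁) ≃* ↥(S₁ ⊔ centralizerIn S S₁)) :=
    (mem_autGroup_iff F hTC.1 β).mp hβ
  have hS₂TC : S₂ ≤ S₁ ⊔ centralizerIn S S₁ := (le_centralizerIn_of_comm h2.1 hcomm).trans le_sup_right
  have hle : P ⊔ S₂ ≤ S₁ ⊔ centralizerIn S S₁ := sup_le (hPS₁.trans le_sup_left) hS₂TC
  have hP'S₁ : P' ≤ S₁ := by
    intro y hy
    obtain ⟨x, rfl⟩ := (hP' y).mp hy
    exact (α _).2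
  have hβS₂ : ∀ x : ↥(S₁ ⊔ centralizerIn S S₁), ((β x : ↥(S₁ ⊔ centralizerIn S S₁)) : Ω) ∈ S₂ ↔ (x : Ω) ∈ S₂ :=
    fun x => aut_mem_iff_of_stronglyClosed F h2 hTC.1 hβ x
  have hβP : ∀ x : P, ((β ⟨x, hle (Subgroup.mem_sup_left x.2)⟩ : ↥(S₁ ⊔ centralizerIn S S₁)) : Ω) =
      ((α ⟨x, hPS₁ x.2⟩ : S₁) : Ω) := fun x => hβx ⟨x, hPS₁ x.2⟩
  have hcP : ∀ a ∈ P, ∀ b ∈ S₂, a * b = b * a := fun a ha b hb => hcomm a (hPS₁ ha) b hb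
  have hcP' : ∀ a ∈ P', ∀ b ∈ S₂, a * b = b * a := fun a ha b hb => hcomm a (hP'S₁ ha) b hb
  have hB : ∀ y, y ∈ P' ⊔ S₂ ↔
      ∃ x : ↥(P ⊔ S₂), ((β ⟨x, hle x.2⟩ : ↥(S₁ ⊔ centralizerIn S S₁)) : Ω) = y := by
    intro y
    constructor
    · intro hy
      obtain ⟨a', ha', b', hb', rfl⟩ := (mem_sup_of_comm hcP' y).mp hy
      obtain ⟨a, rfl⟩ := (hP' a').mp ha'
      have hbS₂ : ((β⁻¹ ⟨b', hS₂TC hb'⟩ : ↥(S₁ ⊔ centralizerIn S S₁)) : Ω) ∈ S₂ := by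
        rw [← hβS₂, MulAut.apply_inv_self]
        exact hb'
      refine ⟨⟨(a : Ω) * (β⁻¹ ⟨b', hS₂TC hb'⟩ : ↥(S₁ ⊔ centralizerIn S S₁)),
        Subgroup.mul_mem _ (Subgroup.mem_sup_left a.2) (Subgroup.mem_sup_right hbS₂)⟩, ?_⟩
      have e : (⟨(a : Ω) * (β⁻¹ ⟨b', hS₂TC hb'⟩ : ↥(S₁ ⊔ centralizerIn S S₁)), hle (Subgroup.mul_mem _
          (Subgroup.mem_sup_left a.2) (Subgroup.mem_sup_right hbS₂))⟩ : ↥(S₁ ⊔ centralizerIn S S₁)) =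
          ⟨a, hle (Subgroup.mem_sup_left a.2)⟩ * β⁻¹ ⟨b', hS₂TC hb'⟩ := Subtype.ext rfl
      rw [e, map_mul, Subgroup.coe_mul, hβP a, MulAut.apply_inv_self]
    · rintro ⟨x, rfl⟩
      obtain ⟨a, ha, b, hb, hab⟩ := (mem_sup_of_comm hcP x).mp x.2
      have e : (⟨x, hle x.2⟩ : ↥(S₁ ⊔ centralizerIn S S₁)) =
          ⟨a, hle (Subgroup.mem_sup_left ha)⟩ * ⟨b, hS₂TC hb⟩ := Subtype.ext hab.symm
      rw [e, map_mul, Subgroup.coe_mul]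
      refine Subgroup.mul_mem _ (Subgroup.mem_sup_left ((hP' _).mpr ⟨⟨a, ha⟩, (hβP ⟨a, ha⟩).symm⟩))
        (Subgroup.mem_sup_right ((hβS₂ _).mpr hb))
  have hψTC : ∀ x : ↥(P ⊔ S₂), ψ x ∈ S₁ ⊔ centralizerIn S S₁ := hTC.2 _ hle ψ hψ
  obtain ⟨χ', hχ', hχ'x⟩ := transport_of_isIso F β hβiso hle hψ hψTC (P' ⊔ S₂) hB
  have hθS₁ : ∀ x : P, θ x ∈ S₁ := fun x => h1.2 P hPS₁ θ hθF x
  -- values of the transported map on `P'`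
  have hval : ∀ (x : P) (hx : ((α ⟨x, hPS₁ x.2⟩ : S₁) : Ω) ∈ P'),
      χ' ⟨((α ⟨x, hPS₁ x.2⟩ : S₁) : Ω), Subgroup.mem_sup_left hx⟩ = ((α ⟨θ x, hθS₁ x⟩ : S₁) : Ω) := by
    intro x hx
    have hx' : ((β ⟨(Subgroup.inclusion (le_sup_left : P ≤ P ⊔ S₂) x : ↥(P ⊔ S₂)), hle
        (Subgroup.inclusion (le_sup_left : P ≤ P ⊔ S₂) x).2⟩ : ↥(S₁ ⊔ centralizerIn S S₁)) : Ω) ∈ P' ⊔ S₂ :=
      (hB _).mpr ⟨_, rfl⟩
    have h3 := hχ'x (Subgroup.inclusion (le_sup_left : P ≤ P ⊔ S₂) x) hx'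
    have e1 : (⟨((α ⟨x, hPS₁ x.2⟩ : S₁) : Ω), Subgroup.mem_sup_left hx⟩ : ↥(P' ⊔ S₂)) =
        ⟨((β ⟨(Subgroup.inclusion (le_sup_left : P ≤ P ⊔ S₂) x : ↥(P ⊔ S₂)), hle
        (Subgroup.inclusion (le_sup_left : P ≤ P ⊔ S₂) x).2⟩ : ↥(S₁ ⊔ centralizerIn S S₁)) : Ω), hx'⟩ :=
      Subtype.ext (hβP x).symm
    rw [e1, h3]
    have e2 : (⟨ψ (Subgroup.inclusion (le_sup_left : P ≤ P ⊔ S₂) x), hψTC _⟩ : ↥(S₁ ⊔ centralizerIn S S₁)) =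
        Subgroup.inclusion le_sup_left (⟨θ x, hθS₁ x⟩ : S₁) := Subtype.ext (hψx x)
    rw [e2]
    exact hβx ⟨θ x, hθS₁ x⟩
  refine ⟨χ'.comp (Subgroup.inclusion (le_sup_left : P' ≤ P' ⊔ S₂)), ?_, fun x hx _ => hval x hx⟩
  rw [hR' P' hP'S₁]
  refine ⟨restrict_mem F hχ' le_sup_left, hP'S₁.trans (le_centralizerIn_of_comm h1.1
    (fun b hb a ha => (hcomm a ha b hb).symm)), ?_, χ', hχ', fun x => rfl, ?_⟩
  · rintro ⟨y, hy⟩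
    obtain ⟨x, rfl⟩ := (hP' y).mp hy
    have : (χ'.comp (Subgroup.inclusion (le_sup_left : P' ≤ P' ⊔ S₂))) ⟨_, hy⟩ = ((α ⟨θ x, hθS₁ x⟩ : S₁) : Ω) :=
      hval x hy
    rw [this]
    exact le_centralizerIn_of_comm h1.1 (fun b hb a ha => (hcomm a ha b hb).symm) (α _).2
  · intro s
    have hsS₂ : ((β⁻¹ ⟨s, hS₂TC s.2⟩ : ↥(S₁ ⊔ centralizerIn S S₁)) : Ω) ∈ S₂ := by
      rw [← hβS₂, MulAut.apply_inv_self]
      exact s.2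
    have hx' : ((β ⟨(Subgroup.inclusion (le_sup_right : S₂ ≤ P ⊔ S₂) ⟨_, hsS₂⟩ : ↥(P ⊔ S₂)), hle
        (Subgroup.inclusion (le_sup_right : S₂ ≤ P ⊔ S₂) ⟨_, hsS₂⟩).2⟩ : ↥(S₁ ⊔ centralizerIn S S₁)) : Ω) ∈
        P' ⊔ S₂ := (hB _).mpr ⟨_, rfl⟩
    have h3 := hχ'x (Subgroup.inclusion (le_sup_right : S₂ ≤ P ⊔ S₂) ⟨_, hsS₂⟩) hx'
    have e0 : (⟨(Subgroup.inclusion (le_sup_right : S₂ ≤ P ⊔ S₂) ⟨_, hsS₂⟩ : ↥(P ⊔ S₂)), hle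
        (Subgroup.inclusion (le_sup_right : S₂ ≤ P ⊔ S₂) ⟨_, hsS₂⟩).2⟩ : ↥(S₁ ⊔ centralizerIn S S₁)) =
        β⁻¹ ⟨s, hS₂TC s.2⟩ := Subtype.ext rfl
    have e1 : Subgroup.inclusion (le_sup_right : S₂ ≤ P' ⊔ S₂) s =
        ⟨((β ⟨(Subgroup.inclusion (le_sup_right : S₂ ≤ P ⊔ S₂) ⟨_, hsS₂⟩ : ↥(P ⊔ S₂)), hle
        (Subgroup.inclusion (le_sup_right : S₂ ≤ P ⊔ S₂) ⟨_, hsS₂⟩).2⟩ : ↥(S₁ ⊔ centralizerIn S S₁)) : Ω), hx'⟩ := by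
      apply Subtype.ext
      have h5 : ((β (β⁻¹ ⟨s, hS₂TC s.2⟩) : ↥(S₁ ⊔ centralizerIn S S₁)) : Ω) = s := by
        rw [MulAut.apply_inv_self]
      exact h5.symm.trans (congrArg (fun z : ↥(S₁ ⊔ centralizerIn S S₁) =>
        ((β z : ↥(S₁ ⊔ centralizerIn S S₁)) : Ω)) e0.symm)
    rw [e1, h3]
    have e2 : (⟨ψ (Subgroup.inclusion (le_sup_right : S₂ ≤ P ⊔ S₂) ⟨_, hsS₂⟩), hψTC _⟩ :
        ↥(S₁ ⊔ centralizerIn S S₁)) = β⁻¹ ⟨s, hS₂TC s.2⟩ := Subtype.ext (hψfix ⟨_, hsS₂⟩)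
    rw [e2, MulAut.apply_inv_self]

/-- Frattini property, for maps of `F` on subgroups of `S₁` whose image is receptive. -/
theorem fr_centralizer_factor_of_receptive [Finite S] {p : ℕ} [Fact p.Prime] (hS : IsPGroup p S) (F : FusionSystem S)
    (hF : F.IsSaturated p) {S₁ S₂ : Subgroup Ω} (h1 : F.StronglyClosed S₁) (h2 : F.StronglyClosed S₂)
    (hcomm : ∀ a ∈ S₁, ∀ b ∈ S₂, a * b = b * a) (R' : FusionSystem S₁)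
    (hR' : ∀ P : Subgroup Ω, P ≤ S₁ → R'.Hom P = F.centralizerHom S₂ P) {P : Subgroup Ω} (hPS₁ : P ≤ S₁)
    {φ : P →* Ω} (hφ : φ ∈ F.Hom P) (hrec : F.IsReceptive φ.range) : Fr R' F φ := by
  obtain ⟨ψ₀, hψ₀, hψ₀x⟩ := hrec.2 P φ hφ rfl
  have hS₂CP : S₂ ≤ centralizerIn S P :=
    le_centralizerIn_of_comm h2.1 (fun a ha b hb => hcomm a (hPS₁ ha) b hb)
  have hle₀ : P ⊔ S₂ ≤ extender S P φ :=
    sup_le (le_extender_of_mem F hφ) (hS₂CP.trans (centralizerIn_le_extender P φ))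
  have hψ : ψ₀.comp (Subgroup.inclusion hle₀) ∈ F.Hom (P ⊔ S₂) := restrict_mem F hψ₀ hle₀
  have hψP : ∀ x : P, (ψ₀.comp (Subgroup.inclusion hle₀)) (Subgroup.inclusion le_sup_left x) = φ x :=
    fun x => hψ₀x x x.2 _
  have hψS₂ : ∀ s : S₂, ((ψ₀.comp (Subgroup.inclusion hle₀)).comp
      (Subgroup.inclusion (le_sup_right : S₂ ≤ P ⊔ S₂))) s ∈ S₂ :=
    fun s => h2.2 S₂ le_rfl _ (restrict_mem F hψ le_sup_right) s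
  have : Finite S₂ := finite_of_le h2.1
  have hinj : Function.Injective (((ψ₀.comp (Subgroup.inclusion hle₀)).comp
      (Subgroup.inclusion (le_sup_right : S₂ ≤ P ⊔ S₂))).codRestrict S₂ hψS₂) := by
    intro a b hab
    exact F.injective_of_mem (restrict_mem F hψ le_sup_right) (congrArg Subtype.val hab)
  let β₀ : MulAut S₂ := MulEquiv.ofBijective _ ⟨hinj, Finite.injective_iff_surjective.mp hinj⟩
  have hβ₀ : β₀ ∈ F.autGroup S₂ := by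
    rw [mem_autGroup_iff F h2.1]
    unfold IsIso
    exact mem_of_eq F (restrict_mem F hψ le_sup_right) (fun x => rfl)
  obtain ⟨β, hβ, hβx⟩ := exists_aut_extension hS F hF h2 hβ₀
  have hTC : F.StronglyClosed (S₂ ⊔ centralizerIn S S₂) := stronglyClosed_sup_centralizerIn hS F hF h2
  have hS₁C : S₁ ≤ centralizerIn S S₂ :=
    le_centralizerIn_of_comm h1.1 (fun b hb a ha => (hcomm a ha b hb).symm)
  have hS₁TC : S₁ ≤ S₂ ⊔ centralizerIn S S₂ := hS₁C.trans le_sup_right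
  have hinv₁ : ∀ γ ∈ F.autGroup (S₂ ⊔ centralizerIn S S₂), ∀ x : ↥(S₂ ⊔ centralizerIn S S₂),
      ((γ x : ↥(S₂ ⊔ centralizerIn S S₂)) : Ω) ∈ S₁ ↔ (x : Ω) ∈ S₁ :=
    fun γ hγ x => aut_mem_iff_of_stronglyClosed F h1 hTC.1 hγ x
  have hφS₁ : ∀ x : P, φ x ∈ S₁ := h1.2 P hPS₁ φ hφ
  have hφTC : ∀ x : P, φ x ∈ S₂ ⊔ centralizerIn S S₂ := fun x => hS₁TC (hφS₁ x)
  have hβinv : β⁻¹ ∈ F.autGroup (S₂ ⊔ centralizerIn S S₂) := (F.autGroup _).inv_mem hβ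
  have hβinviso : IsIso F ((β⁻¹ : MulAut ↥(S₂ ⊔ centralizerIn S S₂)) :
      ↥(S₂ ⊔ centralizerIn S S₂) ≃* ↥(S₂ ⊔ centralizerIn S S₂)) := (mem_autGroup_iff F hTC.1 _).mp hβinv
  have hφ₀ := F.comp_mem hφ hβinviso hφTC
  have hφ₀val : ∀ x : P, (((S₂ ⊔ centralizerIn S S₂).subtype.comp
      ((β⁻¹ : MulAut ↥(S₂ ⊔ centralizerIn S S₂)) :
        ↥(S₂ ⊔ centralizerIn S S₂) ≃* ↥(S₂ ⊔ centralizerIn S S₂)).toMonoidHom).comp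
      (φ.codRestrict _ hφTC)) x = ((β⁻¹ ⟨φ x, hφTC x⟩ : ↥(S₂ ⊔ centralizerIn S S₂)) : Ω) := fun x => rfl
  refine ⟨resAutHom F hTC.1 hS₁TC hinv₁ ⟨β, hβ⟩, (resAutHom F hTC.1 hS₁TC hinv₁ ⟨β, hβ⟩).2,
    ((S₂ ⊔ centralizerIn S S₂).subtype.comp
      ((β⁻¹ : MulAut ↥(S₂ ⊔ centralizerIn S S₂)) :
        ↥(S₂ ⊔ centralizerIn S S₂) ≃* ↥(S₂ ⊔ centralizerIn S S₂)).toMonoidHom).comp
      (φ.codRestrict _ hφTC), ?_, ?_⟩
  · rw [hR' P hPS₁]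
    have hψTC : ∀ x : ↥(P ⊔ S₂), (ψ₀.comp (Subgroup.inclusion hle₀)) x ∈ S₂ ⊔ centralizerIn S S₂ :=
      hTC.2 (P ⊔ S₂) (sup_le (hPS₁.trans hS₁TC) le_sup_left) _ hψ
    refine ⟨hφ₀, hPS₁.trans hS₁C, ?_, _, F.comp_mem hψ hβinviso hψTC, ?_, ?_⟩
    · intro x
      rw [hφ₀val x]
      exact hS₁C ((hinv₁ _ hβinv ⟨φ x, hφTC x⟩).mpr (hφS₁ x))
    · intro x
      rw [hφ₀val x]
      show ((β⁻¹ ⟨(ψ₀.comp (Subgroup.inclusion hle₀)) (Subgroup.inclusion le_sup_left x), hψTC _⟩ :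
        ↥(S₂ ⊔ centralizerIn S S₂)) : Ω) = _
      congr 3
      exact hψP x
    · intro s
      show ((β⁻¹ ⟨(ψ₀.comp (Subgroup.inclusion hle₀)) (Subgroup.inclusion le_sup_right s), hψTC _⟩ :
        ↥(S₂ ⊔ centralizerIn S S₂)) : Ω) = _
      have e : (⟨(ψ₀.comp (Subgroup.inclusion hle₀)) (Subgroup.inclusion le_sup_right s), hψTC _⟩ :
          ↥(S₂ ⊔ centralizerIn S S₂)) = β (Subgroup.inclusion le_sup_left s) := by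
        apply Subtype.ext
        rw [hβx s]
        rfl
      rw [e, MulAut.inv_apply_self]
      rfl
  · intro x hx
    rw [resAutHom_apply]
    have e : (⟨(((S₂ ⊔ centralizerIn S S₂).subtype.comp
        ((β⁻¹ : MulAut ↥(S₂ ⊔ centralizerIn S S₂)) :
          ↥(S₂ ⊔ centralizerIn S S₂) ≃* ↥(S₂ ⊔ centralizerIn S S₂)).toMonoidHom).comp
        (φ.codRestrict _ hφTC)) x, hS₁TC hx⟩ : ↥(S₂ ⊔ centralizerIn S S₂)) = β⁻¹ ⟨φ x, hφTC x⟩ :=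
      Subtype.ext rfl
    show φ x = ((β ⟨_, hS₁TC hx⟩ : ↥(S₂ ⊔ centralizerIn S S₂)) : Ω)
    rw [e, MulAut.apply_inv_self]

/-- The Frattini property for the part on `S₁` of the centralizer system of `S₂`. -/
theorem frattini_centralizer_factor [Finite S] {p : ℕ} [Fact p.Prime] (hS : IsPGroup p S) (F : FusionSystem S)
    (hF : F.IsSaturated p) {S₁ S₂ : Subgroup Ω} (h1 : F.StronglyClosed S₁) (h2 : F.StronglyClosed S₂)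
    (hcomm : ∀ a ∈ S₁, ∀ b ∈ S₂, a * b = b * a) (R' : FusionSystem S₁)
    (hR' : ∀ P : Subgroup Ω, P ≤ S₁ → R'.Hom P = F.centralizerHom S₂ P) :
    ∀ P : Subgroup Ω, P ≤ S₁ → ∀ φ ∈ F.Hom P, Fr R' F φ := by
  intro P hPS₁ φ hφ
  have hAI : AutInv R' (F.autGroup S₁) := autInv_centralizer_factor hS F hF h1 h2 hcomm R' hR'
  have hP'S₁ : φ.range ≤ S₁ := by
    rintro _ ⟨x, rfl⟩
    exact h1.2 P hPS₁ φ hφ x
  obtain ⟨P'', ⟨ψ, hψ, hψrange⟩, hfn⟩ := exists_isConj_fullyNormalized F (hP'S₁.trans h1.1)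
  have hc := (fullyAutomized_fullyCentralized_of_fullyNormalized hS F hF hfn).1
  have hrec := receptive_of_fullyCentralized hS F hF hc
  have hφP' : ∀ x : P, φ x ∈ φ.range := fun x => ⟨x, rfl⟩
  have hξ : ψ.comp (φ.codRestrict φ.range hφP') ∈ F.Hom P := F.comp_mem hφ hψ hφP'
  have hξrange : (ψ.comp (φ.codRestrict φ.range hφP')).range = P'' := by
    rw [← hψrange]
    ext y
    constructor
    · rintro ⟨x, rfl⟩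
      exact ⟨_, rfl⟩
    · rintro ⟨⟨_, ⟨x, rfl⟩⟩, rfl⟩
      exact ⟨x, rfl⟩
  have hFrξ := fr_centralizer_factor_of_receptive hS F hF h1 h2 hcomm R' hR' hPS₁ hξ (by rw [hξrange]; exact hrec)
  have hFrψ := fr_centralizer_factor_of_receptive hS F hF h1 h2 hcomm R' hR' hP'S₁ hψ (by rw [hψrange]; exact hrec)
  obtain ⟨ρ, hρ, hρx⟩ := F.inv_mem hψ
  have hFrρ := fr_inv hAI hFrψ hρx
  have hfin := fr_comp hAI hFrξ (fun x => (⟨_, rfl⟩ : _ ∈ ψ.range)) hFrρ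
  exact hfin.congr (fun x => (hρx ⟨φ x, hφP' x⟩).symm)

/-- Automorphisms of `S₁` preserve the centre of `S₁`. -/
theorem aut_mem_centralizer {S₁ : Subgroup Ω} (α : MulAut S₁) {z : Ω} (hz : z ∈ S₁)
    (hzc : z ∈ Subgroup.centralizer (S₁ : Set Ω)) :
    ((α ⟨z, hz⟩ : S₁) : Ω) ∈ Subgroup.centralizer (S₁ : Set Ω) := by
  rw [Subgroup.mem_centralizer_iff]
  intro y hy
  have h1 : ((α⁻¹ ⟨y, hy⟩ : S₁) : Ω) * z = z * ((α⁻¹ ⟨y, hy⟩ : S₁) : Ω) :=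
    Subgroup.mem_centralizer_iff.mp hzc _ (α⁻¹ ⟨y, hy⟩).2
  have h2 : α⁻¹ ⟨y, hy⟩ * ⟨z, hz⟩ = ⟨z, hz⟩ * α⁻¹ ⟨y, hy⟩ := Subtype.ext h1
  have h3 := congrArg (fun w : S₁ => ((α w : S₁) : Ω)) h2
  simp only [map_mul, Subgroup.coe_mul, MulAut.apply_inv_self] at h3
  exact h3

/-- The extension condition for the part on `S₁` of the centralizer system of `S₂`, inside `F`. -/
theorem extension_centralizer_factor [Finite S] (F : FusionSystem S) {S₁ S₂ : Subgroup Ω} (h1S : S₁ ≤ S)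
    (h2S : S₂ ≤ S) (hcomm : ∀ a ∈ S₁, ∀ b ∈ S₂, a * b = b * a)
    (hdec : ∀ g ∈ S, ∃ g₁ ∈ S₁, ∃ g₂ ∈ S₂, g = g₁ * g₂) (R' : FusionSystem S₁)
    (hR' : ∀ P : Subgroup Ω, P ≤ S₁ → R'.Hom P = F.centralizerHom S₂ P) :
    ∀ α ∈ R'.autGroup S₁, ∃ β ∈ F.autGroup (S₁ ⊔ centralizerIn S S₁),
      (∀ x : S₁, ((β (Subgroup.inclusion le_sup_left x) : ↥(S₁ ⊔ centralizerIn S S₁)) : Ω) = ((α x : S₁) : Ω)) ∧
      ∀ c : ↥(S₁ ⊔ centralizerIn S S₁), (c : Ω) ∈ centralizerIn S S₁ →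
        (c : Ω)⁻¹ * ((β c : ↥(S₁ ⊔ centralizerIn S S₁)) : Ω) ∈ S₁ ⊓ Subgroup.centralizer (S₁ : Set Ω) := by
  intro α hα
  have hα' := (mem_autGroup_iff R' le_rfl α).mp hα
  unfold IsIso at hα'
  rw [hR' S₁ le_rfl] at hα'
  obtain ⟨hαF, -, -, ψ, hψ, hψx, hψfix⟩ := hα'
  have hS₂C : S₂ ≤ centralizerIn S S₁ := le_centralizerIn_of_comm h2S hcomm
  have hSTC : S ≤ S₁ ⊔ S₂ := by
    intro g hg
    obtain ⟨g₁, hg₁, g₂, hg₂, rfl⟩ := hdec g hg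
    exact Subgroup.mul_mem _ (Subgroup.mem_sup_left hg₁) (Subgroup.mem_sup_right hg₂)
  have hEq : S₁ ⊔ S₂ = S₁ ⊔ centralizerIn S S₁ :=
    le_antisymm (sup_le le_sup_left (hS₂C.trans le_sup_right))
      (sup_le le_sup_left (inf_le_left.trans hSTC))
  have hTCS : S₁ ⊔ centralizerIn S S₁ ≤ S := sup_le h1S inf_le_left
  obtain ⟨ψ', hψ', hψ'x⟩ := exists_hom_of_eq F hEq hψ
  have hval : ∀ x, ψ' x ∈ S₁ ⊔ centralizerIn S S₁ := fun x => hEq.le (hSTC ((F.le_of_mem hψ').2 x))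
  have : Finite ↥(S₁ ⊔ centralizerIn S S₁) := finite_of_le hTCS
  have hinj : Function.Injective (ψ'.codRestrict _ hval) := by
    intro a b hab
    exact F.injective_of_mem hψ' (congrArg Subtype.val hab)
  let β : MulAut ↥(S₁ ⊔ centralizerIn S S₁) :=
    MulEquiv.ofBijective (ψ'.codRestrict _ hval) ⟨hinj, Finite.injective_iff_surjective.mp hinj⟩
  have hβ : β ∈ F.autGroup (S₁ ⊔ centralizerIn S S₁) := by
    rw [mem_autGroup_iff F hTCS]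
    unfold IsIso
    exact mem_of_eq F hψ' (fun x => rfl)
  have hβval : ∀ (y : Ω) (hA : y ∈ S₁ ⊔ S₂) (hB : y ∈ S₁ ⊔ centralizerIn S S₁),
      ((β ⟨y, hB⟩ : ↥(S₁ ⊔ centralizerIn S S₁)) : Ω) = ψ ⟨y, hA⟩ := fun y hA hB => hψ'x y hA hB
  refine ⟨β, hβ, fun x => ?_, fun c hc => ?_⟩
  · have := hβval x (Subgroup.mem_sup_left x.2) (Subgroup.mem_sup_left x.2)
    exact this.trans (hψx x)
  · obtain ⟨g₁, hg₁, g₂, hg₂, hcg⟩ := hdec c hc.1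
    have hg₁c : g₁ ∈ Subgroup.centralizer (S₁ : Set Ω) := by
      rw [Subgroup.mem_centralizer_iff]
      intro y hy
      have e1 : g₁ = c * g₂⁻¹ := by rw [hcg]; group
      have h1 := Subgroup.mem_centralizer_iff.mp hc.2 y hy
      have h2 := hcomm y hy g₂ hg₂
      have h3 : y * g₂⁻¹ = g₂⁻¹ * y := by
        calc y * g₂⁻¹ = g₂⁻¹ * (g₂ * y) * g₂⁻¹ := by group
          _ = g₂⁻¹ * (y * g₂) * g₂⁻¹ := by rw [h2]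
          _ = g₂⁻¹ * y := by group
      rw [e1]
      calc y * (c * g₂⁻¹) = (y * c) * g₂⁻¹ := by group
        _ = (c * y) * g₂⁻¹ := by rw [h1]
        _ = c * (y * g₂⁻¹) := by group
        _ = c * (g₂⁻¹ * y) := by rw [h3]
        _ = c * g₂⁻¹ * y := by group
    have hcA : (c : Ω) ∈ S₁ ⊔ S₂ := hcg ▸ Subgroup.mul_mem _ (Subgroup.mem_sup_left hg₁) (Subgroup.mem_sup_right hg₂)
    have e2 : (⟨c, hcA⟩ : ↥(S₁ ⊔ S₂)) = Subgroup.inclusion le_sup_left (⟨g₁, hg₁⟩ : S₁) *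
        Subgroup.inclusion le_sup_right (⟨g₂, hg₂⟩ : S₂) := Subtype.ext hcg
    have h4 : ((β c : ↥(S₁ ⊔ centralizerIn S S₁)) : Ω) = ((α ⟨g₁, hg₁⟩ : S₁) : Ω) * g₂ := by
      rw [show c = ⟨(c : Ω), c.2⟩ from rfl, hβval c hcA c.2, e2, map_mul, hψx, hψfix]
      rfl
    rw [h4]
    have hαg : ((α ⟨g₁, hg₁⟩ : S₁) : Ω) ∈ Subgroup.centralizer (S₁ : Set Ω) := aut_mem_centralizer α hg₁ hg₁c
    have hmem : g₁⁻¹ * ((α ⟨g₁, hg₁⟩ : S₁) : Ω) ∈ S₁ := S₁.mul_mem (S₁.inv_mem hg₁) (α _).2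
    have h5 := hcomm _ hmem g₂ hg₂
    have e3 : (c : Ω)⁻¹ * (((α ⟨g₁, hg₁⟩ : S₁) : Ω) * g₂) = g₁⁻¹ * ((α ⟨g₁, hg₁⟩ : S₁) : Ω) := by
      rw [hcg]
      calc (g₁ * g₂)⁻¹ * (((α ⟨g₁, hg₁⟩ : S₁) : Ω) * g₂) = g₂⁻¹ * ((g₁⁻¹ * ((α ⟨g₁, hg₁⟩ : S₁) : Ω)) * g₂) := by group
        _ = g₂⁻¹ * (g₂ * (g₁⁻¹ * ((α ⟨g₁, hg₁⟩ : S₁) : Ω))) := by rw [h5]
        _ = g₁⁻¹ * ((α ⟨g₁, hg₁⟩ : S₁) : Ω) := by group
    rw [e3]
    exact ⟨hmem, Subgroup.mul_mem _ (Subgroup.inv_mem _ hg₁c) hαg⟩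

/-- The extension condition for a subsystem over the same group `S₁`. -/
theorem extension_same_group {S₁ : Subgroup Ω} [Finite S₁] (R R' : FusionSystem S₁)
    (hle : ∀ P : Subgroup Ω, R'.Hom P ⊆ R.Hom P) :
    ∀ α ∈ R'.autGroup S₁, ∃ β ∈ R.autGroup (S₁ ⊔ centralizerIn S₁ S₁),
      (∀ x : S₁, ((β (Subgroup.inclusion le_sup_left x) : ↥(S₁ ⊔ centralizerIn S₁ S₁)) : Ω) = ((α x : S₁) : Ω)) ∧
      ∀ c : ↥(S₁ ⊔ centralizerIn S₁ S₁), (c : Ω) ∈ centralizerIn S₁ S₁ →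
        (c : Ω)⁻¹ * ((β c : ↥(S₁ ⊔ centralizerIn S₁ S₁)) : Ω) ∈ S₁ ⊓ Subgroup.centralizer (S₁ : Set Ω) := by
  intro α hα
  have hα' := (mem_autGroup_iff R' le_rfl α).mp hα
  unfold IsIso at hα'
  have hαR := hle S₁ hα'
  have hEq : S₁ = S₁ ⊔ centralizerIn S₁ S₁ := (sup_eq_left.mpr inf_le_left).symm
  have hTCS : S₁ ⊔ centralizerIn S₁ S₁ ≤ S₁ := sup_le le_rfl inf_le_left
  obtain ⟨ψ', hψ', hψ'x⟩ := exists_hom_of_eq R hEq hαR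
  have hval : ∀ x, ψ' x ∈ S₁ ⊔ centralizerIn S₁ S₁ := fun x => Subgroup.mem_sup_left ((R.le_of_mem hψ').2 x)
  have : Finite ↥(S₁ ⊔ centralizerIn S₁ S₁) := Finite.of_injective (Subgroup.inclusion hTCS) (Subgroup.inclusion_injective hTCS)
  have hinj : Function.Injective (ψ'.codRestrict _ hval) := by
    intro a b hab
    exact R.injective_of_mem hψ' (congrArg Subtype.val hab)
  let β : MulAut ↥(S₁ ⊔ centralizerIn S₁ S₁) :=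
    MulEquiv.ofBijective (ψ'.codRestrict _ hval) ⟨hinj, Finite.injective_iff_surjective.mp hinj⟩
  have hβ : β ∈ R.autGroup (S₁ ⊔ centralizerIn S₁ S₁) := by
    rw [mem_autGroup_iff R hTCS]
    unfold IsIso
    exact mem_of_eq R hψ' (fun x => rfl)
  have hβval : ∀ (y : Ω) (hA : y ∈ S₁) (hB : y ∈ S₁ ⊔ centralizerIn S₁ S₁),
      ((β ⟨y, hB⟩ : ↥(S₁ ⊔ centralizerIn S₁ S₁)) : Ω) = ((α ⟨y, hA⟩ : S₁) : Ω) := fun y hA hB => hψ'x y hA hB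
  refine ⟨β, hβ, fun x => hβval x x.2 _, fun c hc => ?_⟩
  rw [show c = ⟨(c : Ω), c.2⟩ from rfl, hβval c hc.1 c.2]
  exact ⟨S₁.mul_mem (S₁.inv_mem hc.1) (α _).2,
    Subgroup.mul_mem _ (Subgroup.inv_mem _ hc.2) (aut_mem_centralizer α hc.1 hc.2)⟩

end Cfsg.Agent.Helper85
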