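import Cfsg.Agent.Helper18.TorusCert

/-! # helper40 S2373 farm (E6Tor), piece (CARDH6): `val_diag_E6` (helper85) -/

set_option autoImplicit false
set_option linter.unusedVariables false

namespace Cfsg.Agent.Helper85.E6Tor

open Cfsg Cfsg.Lie Cfsg.Agent.Helper18

/-- `gcd(3, |K| - 1) · |H(K)| = (|K| - 1)⁶` for `E₆` -/
theorem CARDH6_card {K : Type*} [Field K] [Fintype K] :
    Nat.gcd 3 (Fintype.card K - 1) * Nat.card ↥(chevE6.diagonalSubgroup K) =
      (Fintype.card K - 1) ^ 6 := by
  have h1 := card_ker_mul_card_diagonalSubgroup (F := K) chevE6 (by simp)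
  have h2 := card_torusChar_ker (F := K) chevE6 (simpleOK_of_mem chevE6 (by simp [allData]))
    Cfsg.Agent.Helper18.certE6 certOK_E6
  rw [h2] at h1
  have e3 : (∏ k : Fin chevE6.rank,
      (Fintype.card K - 1).gcd (Cfsg.Agent.Helper18.certE6.d.getD k.val 0)) =
      ((List.range chevE6.rank).map fun k =>
        (Fintype.card K - 1).gcd (Cfsg.Agent.Helper18.certE6.d.getD k 0)).prod :=
    (list_range_prod_eq chevE6.rank
      (fun k => (Fintype.card K - 1).gcd (Cfsg.Agent.Helper18.certE6.d.getD k 0))).symm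
  rw [e3] at h1
  have e : List.range chevE6.rank = [0, 1, 2, 3, 4, 5] := by decide
  rw [e] at h1
  change _ = (Fintype.card K - 1) ^ 6 at h1
  simpa [Cfsg.Agent.Helper18.certE6, Nat.gcd_comm] using h1

/-- (CARDH6) the `r`-part of the order of the torus (`r ≠ 3`):
`Cfsg.Agent.Helper18.card_ker_mul_card_diagonalSubgroup` and (ZEXP) -/
theorem val_diag_E6 {K : Type*} [Field K] [Fintype K] {r : ℕ} (hr : r.Prime) (hr3 : r ≠ 3) :
    (Nat.card ↥(chevE6.diagonalSubgroup K)).factorization r = 6 * (Fintype.card K - 1).factorization r := by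
  have h := CARDH6_card (K := K)
  have hK : 1 < Fintype.card K := Fintype.one_lt_card
  have hK1 : Fintype.card K - 1 ≠ 0 := by omega
  have hg : Nat.gcd 3 (Fintype.card K - 1) ≠ 0 := by
    intro h0
    rw [Nat.gcd_eq_zero_iff] at h0
    omega
  have hH : Nat.card ↥(chevE6.diagonalSubgroup K) ≠ 0 := by
    intro h0
    rw [h0, mul_zero] at h
    exact pow_ne_zero 6 hK1 h.symm
  have hf : (Nat.gcd 3 (Fintype.card K - 1) * Nat.card ↥(chevE6.diagonalSubgroup K)).factorization r =
      ((Fintype.card K - 1) ^ 6).factorization r := by rw [h]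
  rw [Nat.factorization_mul hg hH, Nat.factorization_pow, Finsupp.add_apply, Finsupp.smul_apply,
    smul_eq_mul] at hf
  have hg0 : (Nat.gcd 3 (Fintype.card K - 1)).factorization r = 0 := by
    apply Nat.factorization_eq_zero_of_not_dvd
    intro hd
    have h3 : r ∣ 3 := dvd_trans hd (Nat.gcd_dvd_left _ _)
    have := (Nat.prime_dvd_prime_iff_eq hr Nat.prime_three).mp h3
    exact hr3 this
  rw [hg0, zero_add] at hf
  exact hf

end Cfsg.Agent.Helper85.E6Tor
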