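import Cfsg.Agent.Helper18.TorusCert

/-! # helper40 S2373 farm (E6Tor), piece (ZCOUNT): `card_ker_tau_fixed` (helper85)

The subgroup `Gq = {g ∈ Kˣ : g^(q-1) = 1}` is cyclic of order `q - 1`; the tuples in the kernel of the
torus parametrisation fixed by `k ↦ k^q` are the kernel of `zact A` on `Gq⁶`, counted by the Smith
normal form certificate of helper18. -/

set_option autoImplicit false
set_option linter.unusedVariables false

namespace Cfsg.Agent.Helper85.E6Tor

open Cfsg Cfsg.Lie Cfsg.Agent.Helper18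

/-- `zact` commutes with the inclusion of a subgroup -/
theorem ZCOUNT_zact_coe {G : Type*} [CommGroup G] {l : ℕ} (H : Subgroup G)
    (M : Matrix (Fin l) (Fin l) ℤ) (c : Fin l → H) (j : Fin l) :
    ((zact M c j : H) : G) = zact M (fun i => (c i : G)) j := by
  rw [zact_apply, zact_apply]
  simp

/-- the general count: tuples of `G` in the kernel of `zact A` with all entries in `H` -/
theorem ZCOUNT_equiv {G : Type*} [CommGroup G] {l : ℕ} (H : Subgroup G)
    (A : Matrix (Fin l) (Fin l) ℤ) :
    Nat.card {k : Fin l → G // k ∈ (zact A : (Fin l → G) →* (Fin l → G)).ker ∧ ∀ i, k i ∈ H} =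
      Nat.card (zact A : (Fin l → H) →* (Fin l → H)).ker := by
  apply Nat.card_congr
  refine
    { toFun := fun k => ⟨fun i => ⟨k.1 i, k.2.2 i⟩, ?_⟩
      invFun := fun c => ⟨fun i => (c.1 i : G), ?_, fun i => (c.1 i).2⟩
      left_inv := fun k => rfl
      right_inv := fun c => rfl }
  · rw [MonoidHom.mem_ker]
    funext j
    apply Subtype.ext
    rw [ZCOUNT_zact_coe]
    have := congrFun (MonoidHom.mem_ker.mp k.2.1) j
    simpa using this
  · rw [MonoidHom.mem_ker]
    funext j
    have := congrArg (fun x : Fin l → H => ((x j : H) : G)) (MonoidHom.mem_ker.mp c.2)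
    simp only [ZCOUNT_zact_coe] at this
    simpa using this

/-- (ZCOUNT) the kernel of the torus parametrisation is `{(ω, 1, ω², 1, ω, ω²) : ω³ = 1}`; its elements
fixed by `k ↦ k ^ q` are counted by `gcd(3, q - 1)` -/
theorem card_ker_tau_fixed {K : Type*} [Field K] [Fintype K] {q : ℕ} (hq : 2 ≤ q) (hK : Fintype.card K = q ^ 12) :
    Nat.card {k : Fin 6 → Kˣ // torusHom chevE6 K k = 1 ∧ k ^ q = k} = Nat.gcd 3 (q - 1) := by
  classical
  obtain ⟨hP, hQ, hD, hC⟩ := certOK_E6
  set Gq : Subgroup Kˣ := (powMonoidHom (q - 1) : Kˣ →* Kˣ).ker with hGq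
  have hs : simpleOK chevE6 = true := simpleOK_of_mem chevE6 (by simp [allData])
  -- membership in the subtype
  have hmem : ∀ k : Fin chevE6.rank → Kˣ, (torusHom chevE6 K k = 1 ∧ k ^ q = k) ↔
      (k ∈ (zact (cartanSimple chevE6) : (Fin chevE6.rank → Kˣ) →* _).ker ∧ ∀ i, k i ∈ Gq) := by
    intro k
    have h1 : torusHom chevE6 K k = 1 ↔
        k ∈ (zact (cartanSimple chevE6) : (Fin chevE6.rank → Kˣ) →* _).ker := by
      rw [← torusChar_ker_eq chevE6 hs Cfsg.Agent.Helper18.certE6 hC, ← torusHom_ker,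
        MonoidHom.mem_ker]
    have h2 : k ^ q = k ↔ ∀ i, k i ∈ Gq := by
      constructor
      · intro h i
        rw [hGq, MonoidHom.mem_ker, powMonoidHom_apply]
        have hi : k i ^ q = k i := by
          have := congrFun h i
          simpa using this
        have e : q = (q - 1) + 1 := by omega
        rw [e, pow_succ] at hi
        exact mul_eq_right.mp hi
      · intro h
        funext i
        have hi := h i
        rw [hGq, MonoidHom.mem_ker, powMonoidHom_apply] at hi
        have e : q = (q - 1) + 1 := by omega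
        show k i ^ q = k i
        rw [e, pow_succ, hi, one_mul]
    rw [h1, h2]
  have hcongr : Nat.card {k : Fin chevE6.rank → Kˣ // torusHom chevE6 K k = 1 ∧ k ^ q = k} =
      Nat.card {k : Fin chevE6.rank → Kˣ //
        k ∈ (zact (cartanSimple chevE6) : (Fin chevE6.rank → Kˣ) →* _).ker ∧ ∀ i, k i ∈ Gq} :=
    Nat.card_congr (Equiv.subtypeEquivRight hmem)
  show Nat.card {k : Fin chevE6.rank → Kˣ // torusHom chevE6 K k = 1 ∧ k ^ q = k} = Nat.gcd 3 (q - 1)
  rw [hcongr, ZCOUNT_equiv Gq (cartanSimple chevE6),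
    card_ker_zact (G := Gq) (cartanSimple chevE6) _ _ _ _
      (fun k => Cfsg.Agent.Helper18.certE6.d.getD k.val 0) hP hQ hD]
  -- the order of Gq
  have hq1 : q - 1 ∣ Nat.card Kˣ := by
    rw [Nat.card_units, Nat.card_eq_fintype_card, hK]
    have := Nat.sub_dvd_pow_sub_pow q 1 12
    simpa using this
  have hcardGq : Nat.card Gq = q - 1 := by
    rw [hGq, IsCyclic.card_powMonoidHom_ker]
    exact Nat.gcd_eq_right hq1
  have hterm : ∀ d : ℕ, Nat.card (powMonoidHom d : Gq →* Gq).ker = (q - 1).gcd d := by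
    intro d
    rw [IsCyclic.card_powMonoidHom_ker, hcardGq]
  simp only [hterm]
  have e3 : (∏ k : Fin chevE6.rank, (q - 1).gcd (Cfsg.Agent.Helper18.certE6.d.getD k.val 0)) =
      ((List.range chevE6.rank).map fun k =>
        (q - 1).gcd (Cfsg.Agent.Helper18.certE6.d.getD k 0)).prod :=
    (list_range_prod_eq chevE6.rank
      (fun k => (q - 1).gcd (Cfsg.Agent.Helper18.certE6.d.getD k 0))).symm
  rw [e3]
  have e : List.range chevE6.rank = [0, 1, 2, 3, 4, 5] := by decide
  rw [e]
  simp [Cfsg.Agent.Helper18.certE6, Nat.gcd_comm]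

end Cfsg.Agent.Helper85.E6Tor
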