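import Cfsg.Agent.Helper85.FocalQuot
import Cfsg.Agent.Helper85.TransportQuasi
import Cfsg.Agent.Helper87.FusionFrobenius
import Cfsg.Agent.Helper87.FusionNormal
import Cfsg.Agent.Helper87.NormModel
import Cfsg.Agent.Helper84.SatCrit4
import Cfsg.Agent.S5098
import Cfsg.Agent.S5132
import Cfsg.Agent.S5133
import Cfsg.Agent.S5134
set_option autoImplicit false

/-!
# Properness of the focal subgroup through the normalizer system of a characteristic subgroup

If `Aut_F(S)` is a `p`-group and `K ≠ 1` is normal in `S`, then the focal subgroup of `N_F(K)` is proper as soon as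
the statement "the focal subgroup is proper" holds for saturated systems over smaller groups whose top automizer is a
`p`-group (applied to `N_F(K)/K`).
-/

namespace Cfsg.Agent.Helper85

open Cfsg Cfsg.FusionSystem
open scoped commutatorElement

universe u

variable {Ω : Type u} [Group Ω] {S : Subgroup Ω}

/-- In a saturated system whose top automizer is a `p`-group, the normalizer system of `S` has its focal subgroup inside
the derived subgroup of `S`. -/
theorem focal_normalizer_top_le [Finite S] {p : ℕ} [Fact p.Prime] (F : FusionSystem S) (hF : F.IsSaturated p)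
    (haut : IsPGroup p ↥(F.autGroup S)) (K : Subgroup Ω) (hK : K = S)
    (N : FusionSystem (normalizerIn S K)) (hN : F.IsNormalizerSystem K N) :
    N.focalSubgroup ≤ (commutator ↥S).map S.subtype := by
  subst hK
  have hfa : F.IsFullyAutomized p K := by
    obtain ⟨Q, hQ, hQa, -⟩ := hF K le_rfl
    have := Cfsg.Agent.Helper84.eq_of_isConj_top F hQ
    rw [this] at hQa
    exact hQa
  unfold focalSubgroup
  rw [Subgroup.closure_le]
  rintro y ⟨P, φ, x, hφ, rfl⟩
  rw [hN P] at hφ
  obtain ⟨hφF, hPT, -, ψ, hψ, hψφ, -⟩ := hφ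
  have hPS : P ≤ K := hPT.trans inf_le_left
  have hle : K ≤ P ⊔ K := le_sup_right
  have hψ₂ : ψ.comp (Subgroup.inclusion hle) ∈ F.Hom K := Cfsg.Agent.Helper88.restrict_mem F hψ hle
  obtain ⟨h, hh, hconj⟩ := Cfsg.Agent.Helper87.exists_conj_of_fullyAutomized_of_isPGroup F hfa haut
    (Cfsg.Agent.Helper88.homToAut F _ hψ₂) (Cfsg.Agent.Helper88.homToAut_mem F _ hψ₂)
  have h1 := hconj ⟨x, hPS x.2⟩
  rw [Cfsg.Agent.Helper88.homToAut_apply] at h1
  have h2 : φ x = h * (x : Ω) * h⁻¹ := by
    rw [← hψφ x, ← h1]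
    show ψ _ = ψ _
    congr 1
  rw [h2]
  refine ⟨⁅(⟨x, hPS x.2⟩ : ↥K)⁻¹, ⟨h, hh⟩⁆, ?_, ?_⟩
  · exact Subgroup.commutator_mem_commutator (Subgroup.mem_top _) (Subgroup.mem_top _)
  · show ((⁅(⟨x, hPS x.2⟩ : ↥K)⁻¹, ⟨h, hh⟩⁆ : ↥K) : Ω) = _
    rw [commutatorElement_def]
    simp [mul_assoc]

/-- The derived subgroup of a nontrivial finite `p`-group is proper. -/
theorem commutator_map_lt [Finite S] {p : ℕ} [Fact p.Prime] (hS : IsPGroup p S) (hS1 : S ≠ ⊥) :
    (commutator ↥S).map S.subtype < S := by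
  have : Nontrivial ↥S := by
    rw [Subgroup.nontrivial_iff_ne_bot]; exact hS1
  have : Group.IsNilpotent ↥S := hS.isNilpotent
  have h1 : commutator ↥S < ⊤ := Group.IsSolvable.commutator_lt_top_of_nontrivial ↥S
  refine lt_of_le_of_ne (Subgroup.map_subtype_le _) (fun heq => ?_)
  apply h1.ne
  rw [eq_top_iff]
  intro s _
  have : (s : Ω) ∈ (commutator ↥S).map S.subtype := by rw [heq]; exact s.2
  obtain ⟨t, ht, hts⟩ := this
  have : t = s := Subtype.ext hts
  rw [← this]; exact ht


/-- A system over `T = S` all of whose maps on `T` are maps of `F` has a `p`-group as top automizer if `F` has. -/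
theorem isPGroup_autGroup_of_hom_subset {p : ℕ} (F : FusionSystem S) {T : Subgroup Ω} (N : FusionSystem T)
    (hNF : ∀ φ ∈ N.Hom T, φ ∈ F.Hom T) (hT : T = S) (haut : IsPGroup p ↥(F.autGroup S)) :
    IsPGroup p ↥(N.autGroup T) := by
  subst hT
  have hle : N.autGroup T ≤ F.autGroup T := by
    unfold autGroup
    apply Subgroup.closure_mono
    intro α hα
    exact hNF _ hα
  exact haut.to_le hle

/-- **The inductive step.** If `Aut_F(S)` is a `p`-group and `1 ≠ K ⊴ S`, the focal subgroup of `N_F(K)` is proper,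
provided properness of the focal subgroup is known over smaller groups. -/
theorem focal_normalizer_lt [Finite S] {p : ℕ} [Fact p.Prime] (hS : IsPGroup p S) (hS1 : S ≠ ⊥) (F : FusionSystem S)
    (hF : F.IsSaturated p) (haut : IsPGroup p ↥(F.autGroup S)) (K : Subgroup Ω) (hKS : K ≤ S)
    (hKn : S ≤ Subgroup.normalizer (K : Set Ω)) (hK1 : K ≠ ⊥)
    (N : FusionSystem (normalizerIn S K)) (hN : F.IsNormalizerSystem K N)
    (IH : ∀ (Ω' : Type u) [Group Ω'] (S' : Subgroup Ω') [Finite S'], Nat.card S' < Nat.card S → IsPGroup p S' →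
      ∀ F' : FusionSystem S', F'.IsSaturated p → S' ≠ ⊥ → IsPGroup p ↥(F'.autGroup S') → F'.focalSubgroup < S') :
    N.focalSubgroup < S := by
  have hT : normalizerIn S K = S := le_antisymm inf_le_left (le_inf le_rfl hKn)
  by_cases hKeq : K = S
  · exact lt_of_le_of_lt (focal_normalizer_top_le F hF haut K hKeq N hN) (commutator_map_lt hS hS1)
  have hfn : F.IsFullyNormalized K :=
    ⟨hKS, fun Q _ => by rw [hT]; exact Subgroup.card_le_of_le inf_le_left⟩
  have hNsat : N.IsSaturated p := Cfsg.Agent.S5098.result p hS F hF K hfn N hN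
  have hTS : normalizerIn S K ≤ S := inf_le_left
  have : Finite ↥(normalizerIn S K) := Cfsg.Agent.Helper87.finite_of_le hTS
  have hTp : IsPGroup p ↥(normalizerIn S K) := hS.to_le hTS
  have hKnorm : N.IsNormal K := Cfsg.Agent.Helper87.isNormal_normalizerSystem F hKS N hN
  have hsc : N.StronglyClosed K := Cfsg.Agent.Helper87.stronglyClosed_of_isNormal N hKnorm
  have hKT : K ≤ normalizerIn S K := hKnorm.1
  have : (K.subgroupOf (normalizerIn S K)).Normal :=
    (Subgroup.normal_subgroupOf_iff_le_normalizer hKT).mpr inf_le_right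
  obtain ⟨E, hfac⟩ := Cfsg.Agent.S5132.result p hTp N K hsc
  have hsurj := Cfsg.Agent.S5134.result p hTp N hNsat K hsc _ E hfac
  have hEsat : E.IsSaturated p := Cfsg.Agent.S5133.result p hTp N hNsat E _ hsurj
  have hautN : IsPGroup p ↥(N.autGroup (normalizerIn S K)) := by
    apply isPGroup_autGroup_of_hom_subset F N _ hT haut
    intro φ hφ
    rw [hN _] at hφ
    exact hφ.1
  have haut' : IsPGroup p ↥(E.autGroup ⊤) :=
    isPGroup_autGroup_of_isFacF (isFacF_of_isFactorSystem hfac) hautN
  have hne : K.subgroupOf (normalizerIn S K) ≠ ⊤ := by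
    intro h
    rw [Subgroup.subgroupOf_eq_top] at h
    exact hKeq (le_antisymm hKS (hT ▸ h))
  have hK1' : K.subgroupOf (normalizerIn S K) ≠ ⊥ := by
    intro h
    rw [Subgroup.subgroupOf_eq_bot] at h
    apply hK1
    rw [eq_bot_iff]
    exact (le_inf le_rfl hKT).trans (disjoint_iff.mp h).le
  have hcard : Nat.card (⊤ : Subgroup (↥(normalizerIn S K) ⧸ K.subgroupOf (normalizerIn S K))) < Nat.card S := by
    have e1 : Nat.card (⊤ : Subgroup (↥(normalizerIn S K) ⧸ K.subgroupOf (normalizerIn S K))) =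
        Nat.card (↥(normalizerIn S K) ⧸ K.subgroupOf (normalizerIn S K)) := Nat.card_congr Subgroup.topEquiv.toEquiv
    have e2 : Nat.card ↥(normalizerIn S K) = Nat.card S := by rw [hT]
    have e3 := Subgroup.card_eq_card_quotient_mul_card_subgroup (K.subgroupOf (normalizerIn S K))
    have e4 : 1 < Nat.card ↥(K.subgroupOf (normalizerIn S K)) := by
      rw [Subgroup.one_lt_card_iff_ne_bot]; exact hK1'
    have e5 : 0 < Nat.card (↥(normalizerIn S K) ⧸ K.subgroupOf (normalizerIn S K)) := Nat.card_pos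
    rw [e1, ← e2, e3]
    nlinarith
  have htop : (⊤ : Subgroup (↥(normalizerIn S K) ⧸ K.subgroupOf (normalizerIn S K))) ≠ ⊥ := by
    intro h
    apply hne
    rw [eq_top_iff]
    intro x _
    have h1 : (QuotientGroup.mk' (K.subgroupOf (normalizerIn S K)) x) ∈
        (⊤ : Subgroup (↥(normalizerIn S K) ⧸ K.subgroupOf (normalizerIn S K))) := Subgroup.mem_top _
    rw [h, Subgroup.mem_bot] at h1
    exact (QuotientGroup.eq_one_iff x).mp h1
  have hlt := IH _ _ hcard (IsPGroup.to_quotient hTp _ |>.to_subgroup ⊤) E hEsat htop haut'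
  exact lt_of_lt_of_le (focal_lt_of_morphism N E _ hsurj.1 hsurj.2.1 hlt) hTS

end Cfsg.Agent.Helper85
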