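import Cfsg.Agent.Helper85.FocalProper
import Cfsg.Agent.Helper33.KInfChar
import Cfsg.Agent.Helper33.KInfUpperTransferSylow
import Cfsg.Agent.Lib.Cores
import Cfsg.Agent.S5096
set_option autoImplicit false

/-!
# Properness of the focal subgroup when the top automizer is a `p`-group

A positive characteristic `p`-functor `W` that controls transfer in every saturated fusion system (the focal subgroup of
`N_F(W(S))` is the focal subgroup of `F`) forces the focal subgroup to be proper in every saturated system over a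
nontrivial `S` whose automizer `Aut_F(S)` is a `p`-group.  The upper `K`-infinity functor satisfies, for `p ≥ 5`, the
local hypothesis under which a functor controls transfer.
-/

namespace Cfsg.Agent.Helper85

open Cfsg Cfsg.FusionSystem

universe u

/-- The value of a characteristic functor on `S`, inside the ambient group, is normalized by `S`. -/
theorem le_normalizer_functor {p : ℕ} (W : ∀ (Q : Type u) [Group Q], Subgroup Q)
    (hW2 : ∀ (Q R : Type u) [Group Q] [Group R] [Finite Q], IsPGroup p Q → ∀ φ : Q ≃* R,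
      (W Q).map φ.toMonoidHom = W R)
    {Ω : Type u} [Group Ω] (S : Subgroup Ω) [Finite S] (hS : IsPGroup p S) :
    S ≤ Subgroup.normalizer (((W ↥S).map S.subtype : Subgroup Ω) : Set Ω) := by
  have key : ∀ g ∈ S, ∀ y ∈ (W ↥S).map S.subtype, g * y * g⁻¹ ∈ (W ↥S).map S.subtype := by
    rintro g hg _ ⟨y', hy', rfl⟩
    have h := hW2 ↥S ↥S hS (MulAut.conj (⟨g, hg⟩ : ↥S))
    refine ⟨MulAut.conj (⟨g, hg⟩ : ↥S) y', ?_, ?_⟩
    · rw [← h]
      exact ⟨y', hy', rfl⟩
    · simp [MulAut.conj_apply]
  intro g hg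
  rw [Subgroup.mem_normalizer_iff]
  intro y
  constructor
  · exact key g hg y
  · intro hy
    have := key g⁻¹ (S.inv_mem hg) _ hy
    simpa [mul_assoc] using this

/-- **Properness of the focal subgroup**, for a functor controlling transfer. -/
theorem focal_lt_of_control {p : ℕ} [Fact p.Prime] (W : ∀ (Q : Type u) [Group Q], Subgroup Q)
    (hW1 : ∀ (Q : Type u) [Group Q] [Finite Q], IsPGroup p Q → Nontrivial Q → W Q ≠ ⊥)
    (hW2 : ∀ (Q R : Type u) [Group Q] [Group R] [Finite Q], IsPGroup p Q → ∀ φ : Q ≃* R,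
      (W Q).map φ.toMonoidHom = W R)
    (hctl : ∀ (Ω : Type u) [Group Ω] (S : Subgroup Ω) [Finite S], IsPGroup p S → ∀ F : FusionSystem S,
      F.IsSaturated p → ∀ N : FusionSystem (normalizerIn S ((W ↥S).map S.subtype)),
      F.IsNormalizerSystem ((W ↥S).map S.subtype) N → N.focalSubgroup = F.focalSubgroup) :
    ∀ (n : ℕ) (Ω : Type u) [Group Ω] (S : Subgroup Ω) [Finite S], Nat.card S = n → IsPGroup p S →
      ∀ F : FusionSystem S, F.IsSaturated p → S ≠ ⊥ → IsPGroup p ↥(F.autGroup S) → F.focalSubgroup < S := by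
  intro n
  induction n using Nat.strong_induction_on with
  | _ n ih =>
  intro Ω _ S _ hn hS F hF hS1 haut
  have hKS : (W ↥S).map S.subtype ≤ S := Subgroup.map_subtype_le _
  have hKn := le_normalizer_functor W hW2 S hS
  have hK1 : (W ↥S).map S.subtype ≠ ⊥ := by
    intro h
    have hnt : Nontrivial ↥S := by
      rw [Subgroup.nontrivial_iff_ne_bot]; exact hS1
    apply hW1 ↥S hS hnt
    rw [eq_bot_iff]
    intro y hy
    have : (y : Ω) ∈ (W ↥S).map S.subtype := ⟨y, hy, rfl⟩
    rw [h, Subgroup.mem_bot] at this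
    rw [Subgroup.mem_bot]
    exact Subtype.ext this
  obtain ⟨N, hN⟩ := Cfsg.Agent.S5096.result F _ hKS
  rw [← hctl Ω S hS F hF N hN]
  refine focal_normalizer_lt hS hS1 F hF haut _ hKS hKn hK1 N hN ?_
  intro Ω' _ S' _ hlt hS' F' hF' h1 haut'
  exact ih (Nat.card S') (hn ▸ hlt) Ω' S' rfl hS' F' hF' h1 haut'

/-- The upper `K`-infinity functor is positive. -/
theorem kInfUpper_hW1 {p : ℕ} [Fact p.Prime] :
    ∀ (Q : Type u) [Group Q] [Finite Q], IsPGroup p Q → Nontrivial Q → Cfsg.kInfUpper Q ≠ ⊥ := by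
  intro Q _ _ hQ hnt h0
  have : Nontrivial (Subgroup.center Q) := hQ.center_nontrivial
  have hle : Subgroup.center Q ≤ Cfsg.kInfUpper Q :=
    Cfsg.Agent.Helper33.normal_abelian_le_kInfUpper (Subgroup.center Q) inferInstance
  rw [h0, le_bot_iff] at hle
  exact (Subgroup.nontrivial_iff_ne_bot _).mp inferInstance hle

/-- The upper `K`-infinity functor is characteristic. -/
theorem kInfUpper_hW2 {p : ℕ} :
    ∀ (Q R : Type u) [Group Q] [Group R] [Finite Q], IsPGroup p Q → ∀ φ : Q ≃* R,
      (Cfsg.kInfUpper Q).map φ.toMonoidHom = Cfsg.kInfUpper R := by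
  intro Q R _ _ _ _ φ
  exact Cfsg.Agent.Helper33.kInfUpper_map_equiv φ

/-- For `p ≥ 5` the upper `K`-infinity functor satisfies the local focal condition. -/
theorem kInfUpper_hT {p : ℕ} [Fact p.Prime] (hp : 5 ≤ p) :
    ∀ (G : Type u) [Group G] [Finite G] (P : Sylow p G),
      Subgroup.centralizer ((Cfsg.pCore p G : Subgroup G) : Set G) ≤ Cfsg.pCore p G →
      Cfsg.pCore p G ⊓ commutator G = Cfsg.pCore p G ⊓
        (commutator ↥(Subgroup.normalizer (((Cfsg.kInfUpper ↥(P : Subgroup G)).map
          (P : Subgroup G).subtype : Subgroup G) : Set G))).map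
          (Subgroup.normalizer (((Cfsg.kInfUpper ↥(P : Subgroup G)).map
            (P : Subgroup G).subtype : Subgroup G) : Set G)).subtype := by
  intro G _ _ P _
  have h := Cfsg.Agent.Helper33.kInfUpper_transfer_sylow hp P
  have hle : Cfsg.pCore p G ≤ (P : Subgroup G) := Cfsg.Agent.Lib.pCore_le_sylow P
  rw [Subgroup.map_subtype_commutator]
  have e1 : Cfsg.pCore p G ⊓ commutator G = Cfsg.pCore p G ⊓ ((P : Subgroup G) ⊓ commutator G) := by
    rw [← inf_assoc, inf_eq_left.mpr hle]
  rw [e1, h, ← inf_assoc, inf_eq_left.mpr hle]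
  rfl

end Cfsg.Agent.Helper85
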