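import Cfsg.Agent.Helper85.FocalProper2
set_option autoImplicit false

/-!
# `p ≥ 5`, `Aut_F(S)` a `p`-group: the focal subgroup is proper — from control of transfer

The statement "a functor with the local focal condition controls transfer" (taken here as a hypothesis `h97`, in the
exact form of its frozen statement) gives, with the upper `K`-infinity functor, that the focal subgroup of a
saturated fusion system over `S ≠ 1` with `Aut_F(S)` a `p`-group is proper, for `p ≥ 5`.
-/

namespace Cfsg.Agent.Helper85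

open Cfsg Cfsg.FusionSystem

universe u

theorem focal_lt_of_s5197
    (h97 : ∀ {p : ℕ} [Fact p.Prime] (W : ∀ (Q : Type u) [Group Q], Subgroup Q)
      (_ : ∀ (Q : Type u) [Group Q] [Finite Q], IsPGroup p Q → Nontrivial Q → W Q ≠ ⊥)
      (_ : ∀ (Q R : Type u) [Group Q] [Group R] [Finite Q], IsPGroup p Q → ∀ φ : Q ≃* R,
        (W Q).map φ.toMonoidHom = W R)
      (_ : ∀ (G : Type u) [Group G] [Finite G] (P : Sylow p G),
        Subgroup.centralizer ((Cfsg.pCore p G : Subgroup G) : Set G) ≤ Cfsg.pCore p G →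
        Cfsg.pCore p G ⊓ commutator G = Cfsg.pCore p G ⊓
          (commutator ↥(Subgroup.normalizer (((W ↥(P : Subgroup G)).map (P : Subgroup G).subtype : Subgroup G) : Set G))).map
            (Subgroup.normalizer (((W ↥(P : Subgroup G)).map (P : Subgroup G).subtype : Subgroup G) : Set G)).subtype)
      {Ω : Type u} [Group Ω] {S : Subgroup Ω} [Finite S] (_ : IsPGroup p S) (F : Cfsg.FusionSystem S)
      (_ : F.IsSaturated p) (N : Cfsg.FusionSystem (Cfsg.FusionSystem.normalizerIn S ((W ↥S).map S.subtype)))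
      (_ : F.IsNormalizerSystem ((W ↥S).map S.subtype) N), N.focalSubgroup = F.focalSubgroup)
    {Ω : Type u} [Group Ω] {S : Subgroup Ω} [Finite S] (p : ℕ) [Fact p.Prime] (hS : IsPGroup p S)
    (F : Cfsg.FusionSystem S) (hF : F.IsSaturated p) (hp : 5 ≤ p) (hS1 : S ≠ ⊥)
    (haut : IsPGroup p ↥(F.autGroup S)) : F.focalSubgroup < S :=
  focal_lt_of_control (fun (Q : Type u) [Group Q] => Cfsg.kInfUpper Q) kInfUpper_hW1 kInfUpper_hW2
    (fun _ _ _ _ hS F hF N hN =>
      h97 (fun (Q : Type u) [Group Q] => Cfsg.kInfUpper Q) kInfUpper_hW1 kInfUpper_hW2 (kInfUpper_hT hp) hS F hF N hN)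
    (Nat.card S) Ω S rfl hS F hF hS1 haut

end Cfsg.Agent.Helper85
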