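import Mathlib

/-!
# (REFA) piece of helper99's farm for S3590: `minpoly_mult`

If the norm `∑_{i<o} M^i` (`o = orderOf M = 2^j r`) is non-zero, then `(X - 1)^(2^j)` divides the minimal
polynomial of `M` (characteristic 2).
-/

set_option autoImplicit false
set_option linter.unusedSectionVars false
set_option linter.unusedVariables false

universe u

namespace Cfsg.Agent.Helper85.Is8

open Matrix Polynomial

variable {F : Type u} [Field F] {ι : Type} [Fintype ι] [DecidableEq ι]

theorem minpoly_mult [CharP F 2] (M : Matrix ι ι F) (j r : ℕ) (hr : Odd r)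
    (ho : orderOf M = 2 ^ j * r) (hS : ∑ i ∈ Finset.range (orderOf M), M ^ i ≠ 0) :
    (X - 1 : F[X]) ^ (2 ^ j) ∣ minpoly F M := by
  classical
  have hr0 : r ≠ 0 := by
    rintro rfl
    simp at hr
  have ho0 : orderOf M ≠ 0 := by
    rw [ho]; positivity
  set o := orderOf M with hodef
  have hMo : M ^ o = 1 := pow_orderOf_eq_one M
  have hμ0 : minpoly F M ≠ 0 := minpoly.ne_zero (Matrix.isIntegral M)
  -- `minpoly ∣ X^o - 1`
  have hdvd : minpoly F M ∣ (X ^ o - 1 : F[X]) := by
    apply minpoly.dvd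
    simp [hMo]
  obtain ⟨c, hc⟩ := hdvd
  have hne : (X ^ o - 1 : F[X]) ≠ 0 := by
    have := (monic_X_pow_sub_C (1 : F) ho0).ne_zero
    simpa using this
  have hprod : minpoly F M * c ≠ 0 := by rw [← hc]; exact hne
  have hc0 : c ≠ 0 := right_ne_zero_of_mul hprod
  -- `(X - 1)^(2^j) ∣ X^o - 1`
  have hpow : (X - 1 : F[X]) ^ (2 ^ j) ∣ X ^ o - 1 := by
    have h1 : (X ^ o - 1 : F[X]) = (X ^ r - 1) ^ (2 ^ j) := by
      rw [sub_pow_char_pow, one_pow, ← pow_mul, ho, mul_comm]
    rw [h1]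
    apply pow_dvd_pow_of_dvd
    have := sub_dvd_pow_sub_pow (X : F[X]) 1 r
    simpa using this
  by_contra hcon
  have hX1 : (X - C (1 : F)) = (X - 1 : F[X]) := by simp
  have h1 : 2 ^ j ≤ rootMultiplicity (1 : F) (minpoly F M * c) := by
    rw [le_rootMultiplicity_iff hprod, hX1, ← hc]
    exact hpow
  rw [rootMultiplicity_mul hprod] at h1
  have h2 : rootMultiplicity (1 : F) (minpoly F M) < 2 ^ j := by
    rw [← not_le, le_rootMultiplicity_iff hμ0, hX1]
    exact hcon
  have h3 : 1 ≤ rootMultiplicity (1 : F) c := by omega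
  have h4 : (X - C (1 : F)) ^ 1 ∣ c := (le_rootMultiplicity_iff hc0).1 h3
  rw [hX1, pow_one] at h4
  obtain ⟨c', hc'⟩ := h4
  -- the norm polynomial
  have hν : (∑ i ∈ Finset.range o, (X : F[X]) ^ i) * (X - 1) = X ^ o - 1 := geom_sum_mul X o
  have hXne : (X - 1 : F[X]) ≠ 0 := by
    rw [← hX1]; exact X_sub_C_ne_zero 1
  have hνeq : (∑ i ∈ Finset.range o, (X : F[X]) ^ i) = minpoly F M * c' := by
    apply mul_right_cancel₀ hXne
    rw [hν, hc, hc']
    ring
  apply hS
  have := congrArg (aeval M) hνeq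
  simpa [map_sum] using this

end Cfsg.Agent.Helper85.Is8
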