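import Mathlib

/-!
# (REFB) piece of helper99's farm for S3590: `rootMult_ge_of_minpoly`

If `(X - 1)^e` divides the minimal polynomial of `M`, then the chain `ker N ⊊ ker N^2 ⊊ … ⊊ ker N^e`
(`N = M - 1`) is strict, so `dim ker N + (e - 1) ≤ dim ker N^e ≤` the multiplicity of `1` as a root of the
characteristic polynomial.
-/

set_option autoImplicit false
set_option linter.unusedSectionVars false
set_option linter.unusedVariables false

universe u

namespace Cfsg.Agent.Helper85.Is8

open Matrix Polynomial

variable {F : Type u} [Field F] {ι : Type} [Fintype ι] [DecidableEq ι]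

theorem rootMult_ge_of_minpoly (M : Matrix ι ι F) (e : ℕ) (he : 1 ≤ e)
    (hdvd : (X - 1 : F[X]) ^ e ∣ minpoly F M) :
    Module.finrank F (LinearMap.ker (Matrix.toLin' (M - 1))) + (e - 1)
      ≤ M.charpoly.rootMultiplicity 1 := by
  classical
  set T : Module.End F (ι → F) := Matrix.toLin' M with hT
  set N : Module.End F (ι → F) := T - 1 with hN
  have hNM : Matrix.toLin' (M - 1) = N := by
    rw [hN, hT, map_sub, Matrix.toLin'_one]; rfl
  have hmin : minpoly F T = minpoly F M := Matrix.minpoly_toLin' M
  have hμ0 : minpoly F T ≠ 0 := minpoly.ne_zero (Algebra.IsIntegral.isIntegral T)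
  rw [← hmin] at hdvd
  obtain ⟨c, hc⟩ := hdvd
  have haevalN : ∀ k : ℕ, aeval T ((X - 1 : F[X]) ^ k) = N ^ k := by
    intro k
    simp [hN]
  -- the chain of kernels is strict below `e`
  have hstrict : ∀ k, k < e → LinearMap.ker (N ^ k) ≠ LinearMap.ker (N ^ (k + 1)) := by
    intro k hk heq
    have hconst := Module.End.ker_pow_constant heq
    have h1 : LinearMap.ker (N ^ (e - 1)) = LinearMap.ker (N ^ e) := by
      have a1 := hconst (e - 1 - k)
      have a2 := hconst (e - k)
      rw [show k + (e - 1 - k) = e - 1 by omega] at a1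
      rw [show k + (e - k) = e by omega] at a2
      rw [← a1, ← a2]
    -- `(X-1)^(e-1) * c` kills `T`
    have hkill : aeval T ((X - 1 : F[X]) ^ (e - 1) * c) = 0 := by
      apply LinearMap.ext
      intro v
      have hv : (aeval T c) v ∈ LinearMap.ker (N ^ e) := by
        rw [LinearMap.mem_ker, ← haevalN e]
        have : aeval T ((X - 1 : F[X]) ^ e * c) = 0 := by rw [← hc]; exact minpoly.aeval F T
        have h2 := congrArg (fun f : Module.End F (ι → F) => f v) this
        simpa [map_mul] using h2
      rw [← h1, LinearMap.mem_ker] at hv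
      rw [map_mul, haevalN]
      simpa using hv
    have hd : minpoly F T ∣ (X - 1 : F[X]) ^ (e - 1) * c := minpoly.dvd F T hkill
    rw [hc] at hd
    have hc0 : c ≠ 0 := by
      rintro rfl
      rw [mul_zero] at hc
      exact hμ0 hc
    have hpe : (X - 1 : F[X]) ^ e = (X - 1) ^ (e - 1) * (X - 1) := by
      rw [← pow_succ]; congr 1; omega
    rw [hpe] at hd
    have hXne : (X - 1 : F[X]) ≠ 0 := by
      have := X_sub_C_ne_zero (1 : F)
      simpa using this
    have hne : (X - 1 : F[X]) ^ (e - 1) * c ≠ 0 := mul_ne_zero (pow_ne_zero _ hXne) hc0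
    -- `(X-1)^(e-1) * (X-1) * c ∣ (X-1)^(e-1) * c` forces `X - 1` to be a unit
    have hdeg := Polynomial.natDegree_le_of_dvd hd hne
    have hdeg2 : ((X - 1 : F[X]) ^ (e - 1) * (X - 1) * c).natDegree
        = ((X - 1 : F[X]) ^ (e - 1) * c).natDegree + 1 := by
      have e1 : (X - 1 : F[X]) ^ (e - 1) * (X - 1) * c = ((X - 1) ^ (e - 1) * c) * (X - 1) := by ring
      rw [e1, natDegree_mul hne hXne]
      have : (X - 1 : F[X]).natDegree = 1 := by
        have := natDegree_X_sub_C (1 : F)
        simpa using this
      rw [this]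
    omega
  -- dimensions grow by at least one at each step
  have hmono : ∀ k, LinearMap.ker (N ^ k) ≤ LinearMap.ker (N ^ (k + 1)) := by
    intro k v hv
    rw [LinearMap.mem_ker] at hv ⊢
    rw [pow_succ', Module.End.mul_apply, hv, map_zero]
  have hgrow : ∀ k, k + 1 ≤ e →
      Module.finrank F (LinearMap.ker (N ^ 1)) + k ≤ Module.finrank F (LinearMap.ker (N ^ (k + 1))) := by
    intro k
    induction k with
    | zero => intro _; simp
    | succ k ih =>
      intro hk
      have h1 := ih (by omega)
      have hlt : LinearMap.ker (N ^ (k + 1)) < LinearMap.ker (N ^ (k + 1 + 1)) :=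
        lt_of_le_of_ne (hmono (k + 1)) (hstrict (k + 1) (by omega))
      have h2 := Submodule.finrank_lt_finrank_of_lt hlt
      omega
  have h1 := hgrow (e - 1) (by omega)
  rw [show e - 1 + 1 = e by omega, pow_one] at h1
  -- `ker N^e` lies in the maximal generalized eigenspace
  have hle : LinearMap.ker (N ^ e) ≤ T.maxGenEigenspace 1 := by
    intro v hv
    rw [Module.End.mem_maxGenEigenspace]
    refine ⟨e, ?_⟩
    rw [LinearMap.mem_ker] at hv
    rw [one_smul]
    exact hv
  have h2 := Submodule.finrank_mono hle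
  rw [LinearMap.finrank_maxGenEigenspace_eq, Matrix.charpoly_toLin'] at h2
  rw [hNM]
  omega

end Cfsg.Agent.Helper85.Is8
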