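import Cfsg.Agent.Helper85.KLDefs
import Cfsg.Agent.S5096
import Cfsg.Agent.S5098
import Cfsg.Agent.Helper84.ModelNorm1
import Cfsg.Agent.Helper87.FusionRS
import Cfsg.Agent.Helper85.PPowerNormal
set_option autoImplicit false

/-!
An automorphism in `Aut_F(N_T(P))` that fixes `P` pointwise, for `P` fully normalized with `C_T(P) ≤ P` and `T` strongly
closed, is conjugation by an element of `C_S(P)`.
-/

namespace Cfsg.Agent.Helper85.KL

open Cfsg Cfsg.FusionSystem Cfsg.Agent.Helper87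

variable {Ω : Type*} [Group Ω] {S T : Subgroup Ω}

/-- An automorphism of `R` with `P ≤ R ≤ N_T(P)`, `C_T(P) ≤ P`, fixing `P` pointwise has order dividing `|P|`. -/
theorem pow_card_eq_one_of_fix {P R : Subgroup Ω} [Finite P] (hPR : P ≤ R) (hRT : R ≤ T)
    (hRN : R ≤ Subgroup.normalizer (P : Set Ω)) (hPc : centralizerIn T P ≤ P)
    (γ : MulAut R) (hγ : ∀ x : R, (x : Ω) ∈ P → γ x = x) : γ ^ Nat.card P = 1 := by
  have hz : ∀ r : R, ((r⁻¹ * γ r : R) : Ω) ∈ P := by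
    intro r
    apply hPc
    refine ⟨hRT (r⁻¹ * γ r).2, ?_⟩
    show ((r⁻¹ * γ r : R) : Ω) ∈ Subgroup.centralizer (P : Set Ω)
    rw [Subgroup.mem_centralizer_iff]
    intro y hy
    have hn : (r : Ω) * y * (r : Ω)⁻¹ ∈ P := (Subgroup.mem_normalizer_iff.mp (hRN r.2) y).mp hy
    set y' : R := ⟨y, hPR hy⟩ with hy'
    have h1 : γ (r * y' * r⁻¹) = r * y' * r⁻¹ := hγ _ hn
    have h2 : γ y' = y' := hγ y' hy
    rw [map_mul, map_mul, map_inv, h2] at h1
    have h3 : y' * (r⁻¹ * γ r) = (r⁻¹ * γ r) * y' := by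
      have : γ r * y' = r * y' * r⁻¹ * γ r := by
        rw [← h1]; group
      calc y' * (r⁻¹ * γ r) = r⁻¹ * (r * y' * r⁻¹ * γ r) := by group
        _ = r⁻¹ * (γ r * y') := by rw [this]
        _ = (r⁻¹ * γ r) * y' := by group
    exact congrArg (fun w : R => (w : Ω)) h3
  have hfix : ∀ r : R, γ (r⁻¹ * γ r) = r⁻¹ * γ r := fun r => hγ _ (hz r)
  have hpow : ∀ (m : ℕ) (r : R), (γ ^ m) r = r * (r⁻¹ * γ r) ^ m := by
    intro m
    induction m with
    | zero => intro r; simp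
    | succ m ih =>
      intro r
      rw [pow_succ', MulAut.mul_apply, ih r, map_mul, map_pow, hfix r, pow_succ']
      have : γ r = r * (r⁻¹ * γ r) := by group
      rw [← mul_assoc, ← this]
  apply MulEquiv.ext
  intro r
  rw [hpow, MulAut.one_apply]
  have h1 : (⟨((r⁻¹ * γ r : R) : Ω), hz r⟩ : P) ^ Nat.card P = 1 := pow_card_eq_one'
  have h2 : ((r⁻¹ * γ r : R) : Ω) ^ Nat.card P = 1 := by
    have := congrArg (fun w : P => (w : Ω)) h1
    rw [Subgroup.coe_one] at this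
    rw [← this]
    rfl
  have h3 : (r⁻¹ * γ r) ^ Nat.card P = 1 := by
    apply Subtype.ext
    rw [Subgroup.coe_pow]
    exact h2
  rw [h3, mul_one]

theorem exists_conj_of_fix [Finite S] (p : ℕ) [Fact p.Prime] (hS : IsPGroup p S) (F : FusionSystem S)
    (hF : F.IsSaturated p) (hT : F.StronglyClosed T) {P : Subgroup Ω} (hPT : P ≤ T)
    (hPn : F.IsFullyNormalized P) (hPc : centralizerIn T P ≤ P)
    (θ : MulAut ↥(normalizerIn T P)) (hθ : θ ∈ F.autGroup (normalizerIn T P))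
    (hθP : ∀ x : ↥(normalizerIn T P), (x : Ω) ∈ P → θ x = x) :
    ∃ s ∈ centralizerIn S P, ∀ x : ↥(normalizerIn T P),
      ((θ x : ↥(normalizerIn T P)) : Ω) = s * (x : Ω) * s⁻¹ := by
  have hTS : T ≤ S := hT.1
  have hPS : P ≤ S := hPT.trans hTS
  have hRNS : normalizerIn T P ≤ normalizerIn S P := inf_le_inf_right _ hTS
  have hRT : normalizerIn T P ≤ T := inf_le_left
  have hRN : normalizerIn T P ≤ Subgroup.normalizer (P : Set Ω) := inf_le_right
  have hPR : P ≤ normalizerIn T P := le_inf hPT Subgroup.le_normalizer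
  have hfinNS : Finite (normalizerIn S P) := finite_of_le inf_le_left
  have hNSp : IsPGroup p (normalizerIn S P) := hS.to_le inf_le_left
  have hfinP : Finite P := finite_of_le hPS
  have hPp : IsPGroup p P := hS.to_le hPS
  set 𝒩 : FusionSystem (normalizerIn S P) := Cfsg.Agent.S5096.normalizerSystem F P hPS with h𝒩def
  have h𝒩 : F.IsNormalizerSystem P 𝒩 := fun _ => rfl
  have h𝒩sat : 𝒩.IsSaturated p := Cfsg.Agent.S5098.result p hS F hF P hPn 𝒩 h𝒩
  have hRsc : 𝒩.StronglyClosed (normalizerIn T P) := by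
    refine ⟨hRNS, fun A hA φ hφ x => ?_⟩
    have hφ' : φ ∈ F.normalizerHom P A := hφ
    obtain ⟨hφF, -, hφN, -⟩ := hφ'
    exact ⟨hT.2 A (hA.trans hRT) φ hφF x, (hφN x).2⟩
  have hRn : 𝒩.IsFullyNormalized (normalizerIn T P) := isFullyNormalized_of_stronglyClosed 𝒩 hRsc
  obtain ⟨-, hRa⟩ := fullyAutomized_fullyCentralized_of_fullyNormalized hNSp 𝒩 h𝒩sat hRn
  obtain ⟨-, Q, hQ⟩ := hRa
  have hmem := Cfsg.Agent.Helper84.mem_autGroup_normalizerSystem_iff F hPR hRNS 𝒩 h𝒩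
  -- the subgroup of `Aut_𝒩(R)` of the automorphisms fixing `P` pointwise
  let Θ : Subgroup ↥(𝒩.autGroup (normalizerIn T P)) :=
    { carrier := {γ | ∀ x : ↥(normalizerIn T P), (x : Ω) ∈ P → (γ : MulAut ↥(normalizerIn T P)) x = x}
      one_mem' := fun x _ => rfl
      mul_mem' := by
        intro a b ha hb x hx
        show (a : MulAut ↥(normalizerIn T P)) ((b : MulAut ↥(normalizerIn T P)) x) = x
        rw [hb x hx, ha x hx]
      inv_mem' := by
        intro a ha x hx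
        show (a : MulAut ↥(normalizerIn T P))⁻¹ x = x
        have h1 : (a : MulAut ↥(normalizerIn T P)) x = x := ha x hx
        calc (a : MulAut ↥(normalizerIn T P))⁻¹ x
            = (a : MulAut ↥(normalizerIn T P))⁻¹ ((a : MulAut ↥(normalizerIn T P)) x) := by rw [h1]
          _ = x := MulAut.inv_apply_self _ _ _ }
  have hΘmem : ∀ γ : ↥(𝒩.autGroup (normalizerIn T P)), γ ∈ Θ ↔
      ∀ x : ↥(normalizerIn T P), (x : Ω) ∈ P → (γ : MulAut ↥(normalizerIn T P)) x = x := fun _ => Iff.rfl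
  have hΘn : Θ.Normal := by
    constructor
    intro γ hγ g x hx
    show (g : MulAut ↥(normalizerIn T P)) ((γ : MulAut ↥(normalizerIn T P))
      ((g : MulAut ↥(normalizerIn T P))⁻¹ x)) = x
    have hg' : ((g⁻¹ : ↥(𝒩.autGroup (normalizerIn T P))) : MulAut ↥(normalizerIn T P)) ∈
        𝒩.autGroup (normalizerIn T P) := (g⁻¹).2
    have h1 := ((hmem _).mp hg').2 x hx
    have h2 : (((g : MulAut ↥(normalizerIn T P))⁻¹ x : ↥(normalizerIn T P)) : Ω) ∈ P := h1
    rw [hγ _ h2]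
    exact MulAut.apply_inv_self _ _ _
  have hΘp : IsPGroup p Θ := by
    obtain ⟨k, hk⟩ := hPp.exists_card_eq
    intro γ
    refine ⟨k, ?_⟩
    have h1 := pow_card_eq_one_of_fix hPR hRT hRN hPc ((γ : ↥(𝒩.autGroup (normalizerIn T P))) :
      MulAut ↥(normalizerIn T P)) γ.2
    rw [hk] at h1
    apply Subtype.ext
    apply Subtype.ext
    rw [Subgroup.coe_pow, Subgroup.coe_pow]
    exact h1
  have hΘQ : Θ ≤ Q := hΘp.le_sylow_of_normal Q
  -- `θ` lies in `Θ`
  have hθ𝒩 : θ ∈ 𝒩.autGroup (normalizerIn T P) := by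
    rw [hmem]
    refine ⟨hθ, fun x hx => ?_⟩
    rw [hθP x hx]
    exact hx
  have hθΘ : (⟨θ, hθ𝒩⟩ : ↥(𝒩.autGroup (normalizerIn T P))) ∈ Θ := fun x hx => hθP x hx
  have hθQ : (⟨θ, hθ𝒩⟩ : ↥(𝒩.autGroup (normalizerIn T P))) ∈ (Q : Subgroup ↥(𝒩.autGroup (normalizerIn T P))) :=
    hΘQ hθΘ
  rw [hQ, Subgroup.mem_subgroupOf] at hθQ
  obtain ⟨s, hs, hsx⟩ := (mem_autInducedBy_iff _ _ θ).mp hθQ
  refine ⟨s, ⟨hs.1, ?_⟩, hsx⟩
  show s ∈ Subgroup.centralizer (P : Set Ω)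
  rw [Subgroup.mem_centralizer_iff]
  intro y hy
  have h1 := hsx ⟨y, hPR hy⟩
  rw [hθP ⟨y, hPR hy⟩ hy] at h1
  have h2 : y = s * y * s⁻¹ := h1
  calc y * s = s * y * s⁻¹ * s := by rw [← h2]
    _ = s * y := by group

end Cfsg.Agent.Helper85.KL
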