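import Cfsg.Agent.Helper85.KLFix
import Cfsg.Agent.S5341
import Cfsg.Agent.S5079
import Cfsg.Agent.Helper88.FusionStrongInv
set_option autoImplicit false

/-!
The step `A_P = A_{N_T(P)} · Aut_{C_S(P)}(T)` for a fully normalized `P ≤ T` with `C_T(P) ≤ P`.
-/

namespace Cfsg.Agent.Helper85.KL

open Cfsg Cfsg.FusionSystem Cfsg.Agent.Helper87

variable {Ω : Type*} [Group Ω] {S T : Subgroup Ω}

theorem range_eq_of_forall_mem [Finite S] (F : FusionSystem S) {R : Subgroup Ω} {φ : R →* Ω} (hφ : φ ∈ F.Hom R)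
    (h : ∀ x : R, φ x ∈ R) : φ.range = R := by
  have hRS : R ≤ S := (F.le_of_mem hφ).1
  have hfinR : Finite R := finite_of_le hRS
  have hle : φ.range ≤ R := by
    rintro _ ⟨x, rfl⟩
    exact h x
  exact Subgroup.eq_of_le_of_card_ge hle (Cfsg.Agent.Helper88.FS.card_range_eq_of_mem F hφ).ge

theorem restrSet_step [Finite S] (p : ℕ) [Fact p.Prime] (hS : IsPGroup p S) (F : FusionSystem S)
    (hF : F.IsSaturated p) (D : FusionSystem T) (hD : D.IsWeaklyNormalIn F p) {P : Subgroup Ω} (hPT : P ≤ T)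
    (hPn : F.IsFullyNormalized P) (hPc : centralizerIn T P ≤ P) (α : MulAut T) (hα : α ∈ restrSet F D P) :
    ∃ s ∈ centralizerIn S P, ∃ σ ∈ F.autGroup T, (∀ t : T, ((σ t : T) : Ω) = s * (t : Ω) * s⁻¹) ∧
      α * σ⁻¹ ∈ restrSet F D (normalizerIn T P) := by
  obtain ⟨hDsat, -, hDinv⟩ := hD
  obtain ⟨hDF, hTsc, -, -⟩ := hDinv
  have hTS : T ≤ S := hTsc.1
  have hfinT : Finite T := finite_of_le hTS
  have hTp : IsPGroup p T := hS.to_le hTS
  have hPS : P ≤ S := hPT.trans hTS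
  have hfinP : Finite P := finite_of_le hPS
  have hRT : normalizerIn T P ≤ T := inf_le_left
  have hRS : normalizerIn T P ≤ S := hRT.trans hTS
  have hPR : P ≤ normalizerIn T P := le_inf hPT Subgroup.le_normalizer
  have hfinR : Finite ↥(normalizerIn T P) := finite_of_le hRS
  -- `P` is fully normalized, hence fully automized and receptive, in `D`
  have hPnD : D.IsFullyNormalized P := (Cfsg.Agent.S5341.result p hS F hF T hTsc D hDF P hPT).2 hPn
  obtain ⟨hPcD, hPaD⟩ := fullyAutomized_fullyCentralized_of_fullyNormalized hTp D hDsat hPnD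
  have hPrD : D.IsReceptive P := receptive_of_fullyCentralized hTp D hDsat hPcD
  obtain ⟨hαF, _, hαP⟩ := hα
  have hαP : resAut hPT α ∈ D.Hom P := hαP
  -- `Q = α(P)`
  have hQconj : D.IsConj P (resAut hPT α).range := ⟨resAut hPT α, hαP, rfl⟩
  have hQT : (resAut hPT α).range ≤ T := by
    rintro _ ⟨x, rfl⟩
    exact (D.le_of_mem hαP).2 x
  have hfinQ : Finite ↥(resAut hPT α).range := finite_of_le (hQT.trans hTS)
  obtain ⟨χ', hχ', hχ'N, hχ'Q⟩ :=
    Cfsg.Agent.S5079.result p hTp D P (resAut hPT α).range hPaD hPrD (isConj_symm D hQconj)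
  -- the restriction of `α` to `R = N_T(P)`
  have hαT : T.subtype.comp (α : T ≃* T).toMonoidHom ∈ F.Hom T := (mem_autGroup_iff F hTS α).mp hαF
  have hαRF : resAut hRT α ∈ F.Hom (normalizerIn T P) :=
    mem_of_eq F (restrict_mem F hαT hRT) (fun x => rfl)
  have hαRN : ∀ r : ↥(normalizerIn T P), resAut hRT α r ∈ normalizerIn T (resAut hPT α).range := by
    intro r
    refine ⟨(α ⟨(r : Ω), hRT r.2⟩).2, ?_⟩
    have : Finite ((resAut hPT α).range : Set Ω) := hfinQ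
    apply Subgroup.mem_normalizer_fintype
    rintro _ ⟨x, rfl⟩
    have hn : (r : Ω) * (x : Ω) * (r : Ω)⁻¹ ∈ P := (Subgroup.mem_normalizer_iff.mp r.2.2 x).mp x.2
    refine ⟨⟨(r : Ω) * (x : Ω) * (r : Ω)⁻¹, hn⟩, ?_⟩
    rw [resAut_apply, resAut_apply, resAut_apply]
    have : (⟨(r : Ω) * (x : Ω) * (r : Ω)⁻¹, hPT hn⟩ : T) =
        ⟨(r : Ω), hRT r.2⟩ * ⟨(x : Ω), hPT x.2⟩ * ⟨(r : Ω), hRT r.2⟩⁻¹ := rfl
    rw [this, map_mul, map_mul, map_inv]
    rfl
  -- `comp1 = χ' ∘ α|_R`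
  have hcomp1 : χ'.comp ((resAut hRT α).codRestrict _ hαRN) ∈ F.Hom (normalizerIn T P) :=
    F.comp_mem hαRF (hDF _ hχ') hαRN
  set comp1 : ↥(normalizerIn T P) →* Ω := χ'.comp ((resAut hRT α).codRestrict _ hαRN) with hcomp1def
  have hcomp1R : ∀ r, comp1 r ∈ normalizerIn T P := fun r => hχ'N _
  -- `φ' = χ' ∘ α|_P`
  have hαPN : ∀ x : P, resAut hPT α x ∈ normalizerIn T (resAut hPT α).range :=
    fun x => hαRN ⟨(x : Ω), hPR x.2⟩
  have hφ'D : χ'.comp ((resAut hPT α).codRestrict _ hαPN) ∈ D.Hom P := D.comp_mem hαP hχ' hαPN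
  set φ' : P →* Ω := χ'.comp ((resAut hPT α).codRestrict _ hαPN) with hφ'def
  have hφ'eq : ∀ x : P, φ' x = comp1 ⟨(x : Ω), hPR x.2⟩ := fun x => rfl
  have hφ'range : φ'.range = P := by
    ext y
    constructor
    · rintro ⟨x, rfl⟩
      have h1 : φ' x ∈ Subgroup.map χ' ((resAut hPT α).range.subgroupOf (normalizerIn T (resAut hPT α).range)) :=
        ⟨(resAut hPT α).codRestrict _ hαPN x, Subgroup.mem_subgroupOf.mpr ⟨x, rfl⟩, rfl⟩
      rw [hχ'Q] at h1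
      exact h1
    · intro hy
      have hy' : y ∈ Subgroup.map χ' ((resAut hPT α).range.subgroupOf (normalizerIn T (resAut hPT α).range)) := by
        rw [hχ'Q]; exact hy
      obtain ⟨n, hn, rfl⟩ := hy'
      obtain ⟨x, hx⟩ := Subgroup.mem_subgroupOf.mp hn
      refine ⟨x, ?_⟩
      show χ' _ = χ' n
      congr 1
      exact Subtype.ext hx
  obtain ⟨ψ, hψ, hψx⟩ := hPrD.2 P φ' hφ'D hφ'range
  have hRext : normalizerIn T P ≤ extender T P φ' := by
    intro r hr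
    rw [mem_extender_iff]
    refine ⟨hRT hr, hr.2, comp1 ⟨r, hr⟩, hRT (hcomp1R _), fun x hx => ?_⟩
    rw [hφ'eq, hφ'eq]
    have : (⟨r * (x : Ω) * r⁻¹, hPR hx⟩ : ↥(normalizerIn T P)) =
        ⟨r, hr⟩ * ⟨(x : Ω), hPR x.2⟩ * ⟨r, hr⟩⁻¹ := rfl
    rw [this, map_mul, map_mul, map_inv]
  -- `φ̃`
  have hφtD : ψ.comp (Subgroup.inclusion hRext) ∈ D.Hom (normalizerIn T P) := restrict_mem D hψ hRext
  set φt : ↥(normalizerIn T P) →* Ω := ψ.comp (Subgroup.inclusion hRext) with hφtdef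
  have hφtP : ∀ x : P, φt ⟨(x : Ω), hPR x.2⟩ = φ' x := fun x => hψx x x.2 (hRext (hPR x.2))
  have hφtR : ∀ r : ↥(normalizerIn T P), φt r ∈ normalizerIn T P := by
    intro r
    refine ⟨(D.le_of_mem hφtD).2 r, ?_⟩
    have : Finite (P : Set Ω) := hfinP
    apply Subgroup.mem_normalizer_fintype
    intro n hn
    have hn' : n ∈ φ'.range := by rw [hφ'range]; exact hn
    obtain ⟨x, rfl⟩ := hn'
    have hnx : (r : Ω) * (x : Ω) * (r : Ω)⁻¹ ∈ P := (Subgroup.mem_normalizer_iff.mp r.2.2 x).mp x.2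
    have h1 : φt r * φ' x * (φt r)⁻¹ = φ' ⟨(r : Ω) * (x : Ω) * (r : Ω)⁻¹, hnx⟩ := by
      rw [← hφtP x, ← hφtP ⟨_, hnx⟩]
      have : (⟨(r : Ω) * (x : Ω) * (r : Ω)⁻¹, hPR hnx⟩ : ↥(normalizerIn T P)) =
          r * ⟨(x : Ω), hPR x.2⟩ * r⁻¹ := rfl
      show _ = φt ⟨(r : Ω) * (x : Ω) * (r : Ω)⁻¹, hPR hnx⟩
      rw [this, map_mul, map_mul, map_inv]
    have h2 : φ' ⟨(r : Ω) * (x : Ω) * (r : Ω)⁻¹, hnx⟩ ∈ φ'.range := ⟨_, rfl⟩
    rw [hφ'range] at h2
    show φt r * φ' x * (φt r)⁻¹ ∈ P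
    rw [h1]
    exact h2
  -- the automorphism `θ = φ̃⁻¹ ∘ χ' ∘ α|_R` of `R`
  have hrange1 : comp1.range = normalizerIn T P := range_eq_of_forall_mem F hcomp1 hcomp1R
  have hφtF : φt ∈ F.Hom (normalizerIn T P) := hDF _ hφtD
  have hrange2 : φt.range = normalizerIn T P := range_eq_of_forall_mem F hφtF hφtR
  set e1 : ↥(normalizerIn T P) ≃* ↥(normalizerIn T P) := isoOfRange F hcomp1 hrange1 with he1
  set e2 : ↥(normalizerIn T P) ≃* ↥(normalizerIn T P) := isoOfRange F hφtF hrange2 with he2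
  have he1x : ∀ r, ((e1 r : ↥(normalizerIn T P)) : Ω) = comp1 r := fun r => rfl
  have he2x : ∀ r, ((e2 r : ↥(normalizerIn T P)) : Ω) = φt r := fun r => rfl
  have he1F : IsIso F e1 := isIso_isoOfRange F hcomp1 hrange1
  have he2F : IsIso F e2 := isIso_isoOfRange F hφtF hrange2
  set θ : MulAut ↥(normalizerIn T P) := e1.trans e2.symm with hθdef
  have hθx : ∀ r, θ r = e2.symm (e1 r) := fun r => rfl
  have hθF : θ ∈ F.autGroup (normalizerIn T P) := (mem_autGroup_iff F hRS θ).mpr (he1F.trans he2F.symm)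
  have hθP : ∀ x : ↥(normalizerIn T P), (x : Ω) ∈ P → θ x = x := by
    intro x hx
    rw [hθx]
    have : e1 x = e2 x := by
      apply Subtype.ext
      rw [he1x, he2x]
      have h1 := hφtP ⟨(x : Ω), hx⟩
      have h2 := hφ'eq ⟨(x : Ω), hx⟩
      exact (h1.trans h2).symm
    rw [this]
    exact e2.symm_apply_apply x
  obtain ⟨s, hs, hsx⟩ := exists_conj_of_fix p hS F hF hTsc hPT hPn hPc θ hθF hθP
  have hsN : s ∈ Subgroup.normalizer (T : Set Ω) := by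
    have : Finite (T : Set Ω) := hfinT
    apply Subgroup.mem_normalizer_fintype
    intro n hn
    exact hTsc.2 T le_rfl (conjHom T s) (F.conj_mem hTS hs.1) ⟨n, hn⟩
  refine ⟨s, hs, conjAut T s hsN, (mem_autGroup_iff F hTS _).mpr (isIso_conjAut F hTS hs.1 hsN),
    fun t => rfl, ?_⟩
  refine ⟨Subgroup.mul_mem _ hαF (Subgroup.inv_mem _
    ((mem_autGroup_iff F hTS _).mpr (isIso_conjAut F hTS hs.1 hsN))), hRT, ?_⟩
  -- `(α σ⁻¹)|_R = χ'⁻¹ ∘ φ̃`
  obtain ⟨ψi, hψi, hψix⟩ := D.inv_mem hχ'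
  have hkey : ∀ r : ↥(normalizerIn T P),
      φt r = χ' ((resAut hRT α).codRestrict _ hαRN (θ.symm r)) := by
    intro r
    have h1 : θ (θ.symm r) = r := θ.apply_symm_apply r
    have h2 : e2 (θ (θ.symm r)) = e1 (θ.symm r) := by
      rw [hθx]
      exact e2.apply_symm_apply _
    rw [h1] at h2
    have h3 := congrArg (fun w : ↥(normalizerIn T P) => (w : Ω)) h2
    exact h3
  have hφtrange : ∀ r : ↥(normalizerIn T P), φt r ∈ χ'.range := fun r => ⟨_, (hkey r).symm⟩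
  have hfinal := D.comp_mem hφtD hψi hφtrange
  refine mem_of_eq D hfinal (fun r => ?_)
  show resAut hRT (α * (conjAut T s hsN)⁻¹) r = ψi ⟨φt r, hφtrange r⟩
  have e3 : (⟨φt r, hφtrange r⟩ : χ'.range) =
      ⟨χ' ((resAut hRT α).codRestrict _ hαRN (θ.symm r)), ⟨_, rfl⟩⟩ := Subtype.ext (hkey r)
  rw [e3, hψix, resAut_apply, MulAut.mul_apply]
  have e4 : (conjAut T s hsN)⁻¹ ⟨(r : Ω), hRT r.2⟩ = ⟨((θ.symm r : ↥(normalizerIn T P)) : Ω), hRT (θ.symm r).2⟩ := by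
    have h1 : conjAut T s hsN ⟨((θ.symm r : ↥(normalizerIn T P)) : Ω), hRT (θ.symm r).2⟩ = ⟨(r : Ω), hRT r.2⟩ := by
      apply Subtype.ext
      rw [conjAut_apply]
      show s * ((θ.symm r : ↥(normalizerIn T P)) : Ω) * s⁻¹ = (r : Ω)
      rw [← hsx (θ.symm r), θ.apply_symm_apply r]
    rw [← h1]
    exact MulAut.inv_apply_self _ _ _
  rw [e4]
  rfl

end Cfsg.Agent.Helper85.KL
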