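-- Pruned sifting through a stabiliser chain: candidates for the centralizer of an element `z` (images of the base points
-- fixed by `z` are fixed by `z`), and the resulting normalizer computation (helper85).
import Cfsg.Agent.Helper85.TabGroup

set_option autoImplicit false

namespace Cfsg.Agent.Helper85.Tab

open Cfsg Cfsg.Agent.Helper7

/-- The table `zT` fixes the point with index `q`. -/
def fx (zT : List ℕ) (q : ℕ) : Bool := Nat.beq (zT.getD q 0) q

/-- Products `u * t₀ * t₁ * ...` of transversal tables such that every base point fixed by `zT` is sent to a point fixed by `zT`. -/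
def search (zT : List ℕ) : List ℕ → List Level → List (List ℕ)
  | u, [] => [u]
  | u, L :: Ls =>
    (L.T.filter (fun t => !(fx zT L.b) || fx zT ((compT u t).getD L.b 0))).flatMap
      (fun t => search zT (compT u t) Ls)

theorem fx_iff {zT : List ℕ} {z : Equiv.Perm GolayPt} (hz : IsTable zT z) (p : GolayPt) :
    fx zT (idx p) = true ↔ z p = p := by
  rw [fx]
  constructor
  · intro h
    have h1 := Nat.eq_of_beq_eq_true h
    rw [← hz.2 p] at h1
    exact idx_injective h1
  · intro h
    have h1 := hz.2 p
    rw [h] at h1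
    rw [← h1]
    exact Nat.beq_refl _

theorem search_sift {H : Subgroup (Equiv.Perm GolayPt)} {zT : List ℕ} {F : List ℕ} {Ls : List Level}
    (hT : ∀ L ∈ Ls, ∀ l ∈ L.T, Tabled H l) (hok : chainOK F Ls = true) (hB : Bounds H F Ls)
    (u : List ℕ) (gu : Equiv.Perm GolayPt) (hu : IsTable u gu) :
    ∀ g ∈ fixG H F, (∀ L ∈ Ls, fx zT L.b = true → fx zT (idx ((gu * g) (pt L.b))) = true) →
      ∃ l ∈ search zT u Ls, IsTable l (gu * g) := by
  induction Ls generalizing F u gu with
  | nil =>
    intro g hg _
    rw [hB g hg, mul_one]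
    exact ⟨u, List.mem_singleton.mpr rfl, hu⟩
  | cons L Ls ih =>
    intro g hg hgood
    rw [chainOK, Bool.and_eq_true, Bool.and_eq_true, Bool.and_eq_true] at hok
    obtain ⟨⟨⟨h1, _⟩, h3⟩, h4⟩ := hok
    have hb : L.b < 24 := by simpa [Nat.blt_eq] using h3
    obtain ⟨l, hl, t, ht, hlt, htq⟩ := Level.cover (fun l hl => hT L (List.mem_cons_self ..) l hl)
      h1 hb _ (hB.1 g hg)
    have hg' : t⁻¹ * g ∈ fixG H (L.b :: F) := by
      refine ⟨H.mul_mem (H.inv_mem ht.1) hg.1, fun i hi => ?_⟩
      rw [List.mem_cons] at hi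
      rw [Equiv.Perm.mul_apply, Equiv.Perm.inv_eq_iff_eq]
      rcases hi with rfl | hi
      · rw [htq, pt_idx]
      · rw [hg.2 i hi, ht.2 i hi]
    have hut : IsTable (compT u l) (gu * t) := hu.mul hlt
    have hmul : gu * t * (t⁻¹ * g) = gu * g := by group
    have hfilter : (!(fx zT L.b) || fx zT ((compT u l).getD L.b 0)) = true := by
      rw [Bool.or_eq_true, Bool.not_eq_true']
      by_cases hc : fx zT L.b = true
      · right
        have h5 := hgood L (List.mem_cons_self ..) hc
        have h6 : idx ((gu * g) (pt L.b)) = (compT u l).getD L.b 0 := by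
          have h7 := hut.2 (pt L.b)
          rw [idx_pt hb] at h7
          rw [← h7, Equiv.Perm.mul_apply, Equiv.Perm.mul_apply, htq, pt_idx]
        rw [h6] at h5
        exact h5
      · left
        simpa using hc
    obtain ⟨l', hl', hlt'⟩ := ih (fun L' hL' => hT L' (List.mem_cons_of_mem _ hL')) h4 hB.2
      (compT u l) (gu * t) hut (t⁻¹ * g) hg' (by
        intro L' hL' hc
        rw [hmul]
        exact hgood L' (List.mem_cons_of_mem _ hL') hc)
    rw [hmul] at hlt'
    refine ⟨l', ?_, hlt'⟩
    rw [search, List.mem_flatMap]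
    exact ⟨l, List.mem_filter.mpr ⟨hl, hfilter⟩, hl'⟩

/-- Every element of `H` commuting with `z` has its table among the candidates. -/
theorem search_centralizer {H : Subgroup (Equiv.Perm GolayPt)} {zT : List ℕ} {z : Equiv.Perm GolayPt}
    (hz : IsTable zT z) {Ls : List Level}
    (hT : ∀ L ∈ Ls, ∀ l ∈ L.T, Tabled H l) (hok : chainOK [] Ls = true) (hB : Bounds H [] Ls)
    (g : Equiv.Perm GolayPt) (hg : g ∈ H) (hgz : g * z = z * g) :
    ∃ l ∈ search zT idT Ls, IsTable l g := by
  have hg' : g ∈ fixG H [] := by rw [fixG_nil]; exact hg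
  have := search_sift (zT := zT) hT hok hB idT 1 isTable_one g hg' (by
    intro L _ hc
    rw [one_mul]
    have hb24 : L.b < 24 := by
      by_contra hcon
      rw [fx, List.getD_eq_default _ _ (by rw [hz.1]; omega)] at hc
      have := Nat.eq_of_beq_eq_true hc
      omega
    have h1 : fx zT (idx (pt L.b)) = true := by rw [idx_pt hb24]; exact hc
    rw [fx_iff hz] at h1 ⊢
    have h2 : (z * g) (pt L.b) = (g * z) (pt L.b) := by rw [hgz]
    rw [Equiv.Perm.mul_apply, Equiv.Perm.mul_apply, h1] at h2
    exact h2)
  rw [one_mul] at this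
  exact this

/-- The normalizer check on a candidate table. -/
def normChk (sTabs gens : List (List ℕ)) (l : List ℕ) : Bool :=
  !(gens.all (fun a => sTabs.contains (conjT l a))) || sTabs.contains l

/-- The centre check: every table other than `idT`, `zT` fails to commute with some generator, and `zT` commutes with all. -/
def centerChk (sTabs gens : List (List ℕ)) (zT : List ℕ) : Bool :=
  sTabs.all (fun l => (l == idT || l == zT || gens.any (fun a => compT l a != compT a l)) &&
    (compT zT l == compT l zT))

theorem center_of_chk {sTabs gens : List (List ℕ)} {zT : List ℕ} (hcl : closedChk sTabs = true)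
    (hgens : ∀ a ∈ gens, a ∈ sTabs) {H : Subgroup (Equiv.Perm GolayPt)} (hH : ∀ l ∈ sTabs, Tabled H l)
    {z : Equiv.Perm GolayPt} (hz : IsTable zT z) (hchk : centerChk sTabs gens zT = true) :
    (∀ x ∈ tabSub sTabs hcl, z * x = x * z) ∧
      ∀ y ∈ tabSub sTabs hcl, (∀ x ∈ tabSub sTabs hcl, y * x = x * y) → y = 1 ∨ y = z := by
  rw [centerChk, List.all_eq_true] at hchk
  constructor
  · intro x hx
    have h1 := hchk _ hx
    rw [Bool.and_eq_true, beq_iff_eq] at h1
    apply tableOf_injective
    rw [tableOf_mul, tableOf_mul, tableOf_eq hz]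
    exact h1.2
  · intro y hy hyc
    have h1 := hchk _ hy
    rw [Bool.and_eq_true, Bool.or_eq_true, Bool.or_eq_true, beq_iff_eq, beq_iff_eq] at h1
    rcases h1.1 with (h2 | h2) | h2
    · left
      apply tableOf_injective
      rw [h2, tableOf_one]
    · right
      apply tableOf_injective
      rw [h2, tableOf_eq hz]
    · exfalso
      rw [List.any_eq_true] at h2
      obtain ⟨a, ha, hne⟩ := h2
      obtain ⟨x, hx, hxa⟩ := tabled_tabSub hcl (hgens a ha) (hH a (hgens a ha))
      have h3 := hyc x hx
      have h4 := congrArg tableOf h3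
      rw [tableOf_mul, tableOf_mul, tableOf_eq hxa] at h4
      rw [h4] at hne
      simp at hne

/-- The normalizer of the table subgroup in `H` is the table subgroup itself. -/
theorem selfNormIn_of_search {H : Subgroup (Equiv.Perm GolayPt)} {sTabs gens : List (List ℕ)} {zT : List ℕ}
    (hcl : closedChk sTabs = true) (hgens : ∀ a ∈ gens, a ∈ sTabs) (hH : ∀ l ∈ sTabs, Tabled H l)
    (hzS : zT ∈ sTabs) (hcen : centerChk sTabs gens zT = true) {Ls : List Level}
    (hT : ∀ L ∈ Ls, ∀ l ∈ L.T, Tabled H l) (hok : chainOK [] Ls = true) (hB : Bounds H [] Ls)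
    (hchk : (search zT idT Ls).all (normChk sTabs gens) = true) :
    SelfNormIn H (tabSub sTabs hcl) := by
  intro g hg hnorm
  obtain ⟨z, hzmem, hz⟩ := tabled_tabSub hcl hzS (hH zT hzS)
  obtain ⟨hzc, hZ⟩ := center_of_chk hcl hgens hH hz hcen
  have hgz := conj_eq_of_center_unique (tabSub sTabs hcl) z hzmem hzc hZ g hnorm
  have hgz' : g * z = z * g := by
    calc g * z = g * z * g⁻¹ * g := by group
      _ = z * g := by rw [hgz]
  obtain ⟨l, hl, hlg⟩ := search_centralizer hz hT hok hB g hg hgz'
  rw [List.all_eq_true] at hchk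
  have h1 := hchk l hl
  rw [normChk, Bool.or_eq_true, Bool.not_eq_true'] at h1
  rcases h1 with h1 | h1
  · exfalso
    have h2 : gens.all (fun a => sTabs.contains (conjT l a)) = true := by
      rw [List.all_eq_true]
      intro a ha
      obtain ⟨x, hx, hxa⟩ := tabled_tabSub hcl (hgens a ha) (hH a (hgens a ha))
      have h3 := (hnorm x).1 hx
      rw [mem_tabSub, tableOf_eq (IsTable.conj hlg hxa)] at h3
      rw [List.contains_iff_mem]
      exact h3
    rw [h2] at h1
    exact Bool.noConfusion h1
  · rw [List.contains_iff_mem] at h1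
    rw [mem_tabSub, tableOf_eq hlg]
    exact h1

end Cfsg.Agent.Helper85.Tab
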