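-- Strong-closure certificates at table level, and the final packaging: simplicity of the fusion system of a subgroup `H` of the
-- permutations of the 24 points on its Sylow `p`-subgroups, from table data (helper85).
import Cfsg.Agent.Helper85.TabSearch

set_option autoImplicit false

namespace Cfsg.Agent.Helper85.Tab

open Cfsg Cfsg.Agent.Helper7

/-- The product of the transversal tables at given positions of a chain. -/
def prodAtL : List Level → List ℕ → List ℕ
  | L :: Ls, i :: is => compT (L.T.getD i idT) (prodAtL Ls is)
  | _, _ => idT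

theorem tabled_prodAtL {H : Subgroup (Equiv.Perm GolayPt)} (Ls : List Level)
    (hT : ∀ L ∈ Ls, ∀ l ∈ L.T, Tabled H l) (is : List ℕ) : Tabled H (prodAtL Ls is) := by
  induction Ls generalizing is with
  | nil => cases is <;> exact tabled_idT H
  | cons L Ls ih =>
    cases is with
    | nil => exact tabled_idT H
    | cons i is =>
      rw [prodAtL]
      apply Tabled.mul
      · by_cases hi : i < L.T.length
        · rw [List.getD_eq_getElem _ _ hi]
          exact hT L (List.mem_cons_self ..) _ (List.getElem_mem hi)
        · rw [List.getD_eq_default _ _ (by omega)]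
          exact tabled_idT H
      · exact ih (fun L' hL' => hT L' (List.mem_cons_of_mem _ hL')) is

theorem tabled_of_prodAtL {H : Subgroup (Equiv.Perm GolayPt)} (Ls : List Level)
    (hT : ∀ L ∈ Ls, ∀ l ∈ L.T, Tabled H l) (idxs : List (List ℕ)) (tabs : List (List ℕ))
    (h : idxs.map (prodAtL Ls) = tabs) : ∀ l ∈ tabs, Tabled H l := by
  intro l hl
  rw [← h, List.mem_map] at hl
  obtain ⟨is, _, rfl⟩ := hl
  exact tabled_prodAtL Ls hT is

/-- Instructions of a strong-closure certificate: multiply two earlier tables, or conjugate an earlier table by a given table. -/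
inductive COp where
  | mul (i j : ℕ) : COp
  | cj (lg : List ℕ) (i : ℕ) : COp

/-- Run a certificate, appending the new tables to the accumulator. -/
def runC : List COp → List (List ℕ) → List (List ℕ)
  | [], acc => acc
  | COp.mul i j :: ps, acc =>
    match acc[i]?, acc[j]? with
    | some x, some y => runC ps (acc ++ [compT x y])
    | _, _ => runC ps acc
  | COp.cj lg i :: ps, acc =>
    match acc[i]? with
    | some x => runC ps (acc ++ [conjT lg x])
    | none => runC ps acc

/-- Validity of a certificate: every conjugating table is in the certified list `hTabs`, and every conjugate is in `sTabs`. -/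
def okC (hTabs sTabs : List (List ℕ)) : List COp → List (List ℕ) → Bool
  | [], _ => true
  | COp.mul i j :: ps, acc =>
    match acc[i]?, acc[j]? with
    | some x, some y => okC hTabs sTabs ps (acc ++ [compT x y])
    | _, _ => okC hTabs sTabs ps acc
  | COp.cj lg i :: ps, acc =>
    match acc[i]? with
    | some x => hTabs.contains lg && sTabs.contains (conjT lg x) && okC hTabs sTabs ps (acc ++ [conjT lg x])
    | none => okC hTabs sTabs ps acc

theorem tabled_runC {H S T : Subgroup (Equiv.Perm GolayPt)}
    (hcl : ∀ t ∈ T, ∀ g ∈ H, g * t * g⁻¹ ∈ S → g * t * g⁻¹ ∈ T) (hTabs sTabs : List (List ℕ))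
    (hH : ∀ l ∈ hTabs, Tabled H l) (hS : ∀ l ∈ sTabs, ∀ g, IsTable l g → g ∈ S)
    (prog : List COp) (acc : List (List ℕ)) (h : ∀ l ∈ acc, Tabled T l)
    (hok : okC hTabs sTabs prog acc = true) : ∀ l ∈ runC prog acc, Tabled T l := by
  induction prog generalizing acc with
  | nil => exact h
  | cons op ps ih =>
    cases op with
    | mul i j =>
      rw [runC]
      rw [okC] at hok
      cases hx : acc[i]? with
      | none => simp only [hx] at hok ⊢; exact ih acc h hok
      | some x =>
        cases hy : acc[j]? with
        | none => simp only [hx, hy] at hok ⊢; exact ih acc h hok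
        | some y =>
          simp only [hx, hy] at hok ⊢
          apply ih _ _ hok
          intro l hl
          rw [List.mem_append, List.mem_singleton] at hl
          rcases hl with hl | rfl
          · exact h l hl
          · exact (h x (List.mem_of_getElem? hx)).mul (h y (List.mem_of_getElem? hy))
    | cj lg i =>
      rw [runC]
      rw [okC] at hok
      cases hx : acc[i]? with
      | none => simp only [hx] at hok ⊢; exact ih acc h hok
      | some x =>
        simp only [hx] at hok ⊢
        rw [Bool.and_eq_true, Bool.and_eq_true, List.contains_iff_mem, List.contains_iff_mem] at hok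
        obtain ⟨⟨h1, h2⟩, h3⟩ := hok
        apply ih _ _ h3
        intro l hl
        rw [List.mem_append, List.mem_singleton] at hl
        rcases hl with hl | rfl
        · exact h l hl
        · obtain ⟨t, htT, hlt⟩ := h x (List.mem_of_getElem? hx)
          obtain ⟨g, hgH, hlg⟩ := hH lg h1
          have h4 := IsTable.conj hlg hlt
          exact ⟨g * t * g⁻¹, hcl t htT g hgH (hS _ h2 _ h4), h4⟩

/-- No proper nontrivial strongly closed subgroup, from a certificate. -/
theorem noStrClosedIn_of_cert {H : Subgroup (Equiv.Perm GolayPt)} {sTabs gens hTabs : List (List ℕ)} {zT : List ℕ}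
    (p : ℕ) [Fact p.Prime] (hcl : closedChk sTabs = true) (hSp : IsPGroup p (tabSub sTabs hcl))
    (hgens : ∀ a ∈ gens, a ∈ sTabs) (hH : ∀ l ∈ sTabs, Tabled H l)
    (hzS : zT ∈ sTabs) (hcen : centerChk sTabs gens zT = true)
    (hHT : ∀ l ∈ hTabs, Tabled H l) (prog : List COp)
    (hok : okC hTabs sTabs prog [idT, zT] = true)
    (hall : sTabs.all (fun l => (runC prog [idT, zT]).contains l) = true) :
    NoStrClosedIn H (tabSub sTabs hcl) := by
  obtain ⟨z, hzmem, hz⟩ := tabled_tabSub hcl hzS (hH zT hzS)
  obtain ⟨-, hZ⟩ := center_of_chk hcl hgens hH hz hcen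
  refine noStrClosedIn_of_center p hSp (tabSub_le hcl hH) z hZ ?_
  intro T hTS hclT hzT
  have hrun := tabled_runC hclT hTabs sTabs hHT
    (fun l hl g hg => by rw [mem_tabSub, tableOf_eq hg]; exact hl) prog [idT, zT]
    (by
      intro l hl
      simp only [List.mem_cons, List.not_mem_nil, or_false] at hl
      rcases hl with rfl | rfl
      · exact tabled_idT T
      · exact ⟨z, hzT, hz⟩) hok
  intro g hg
  rw [List.all_eq_true] at hall
  have h1 := hall _ hg
  rw [List.contains_iff_mem] at h1
  exact mem_of_tabled (hrun _ h1) (isTable_tableOf g)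

/-- Packaging: the fusion system of `↥H` on every Sylow `p`-subgroup is simple. -/
theorem isSimple_of_tables {H : Subgroup (Equiv.Perm GolayPt)} {sTabs : List (List ℕ)} (p : ℕ) [Fact p.Prime]
    (hcl : closedChk sTabs = true) (hH : ∀ l ∈ sTabs, Tabled H l) (hnd : sTabs.Nodup)
    (n : ℕ) (hn : sTabs.length = p ^ n) (hn0 : n ≠ 0) (hcard : (Nat.card H).factorization p = n)
    (hN : SelfNormIn H (tabSub sTabs hcl)) (hT : NoStrClosedIn H (tabSub sTabs hcl))
    (S : Sylow p H) : (groupFusionSystem (S : Subgroup H)).IsSimple p := by
  have hle : tabSub sTabs hcl ≤ H := tabSub_le hcl hH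
  have hc : Nat.card ((tabSub sTabs hcl).subgroupOf H) = p ^ n := by
    rw [card_subgroupOf_of_le hle, card_tabSub hcl hnd hH, hn]
  let S₀ : Sylow p H := Sylow.ofCard ((tabSub sTabs hcl).subgroupOf H) (by rw [hc, hcard])
  have hS₀ : (S₀ : Subgroup H) = (tabSub sTabs hcl).subgroupOf H := rfl
  refine isSimple_of_selfNorm_conj p S₀ ?_ ?_ ?_ S
  · rw [hS₀]
    intro h
    rw [h, Subgroup.card_bot] at hc
    have hp : 1 < p := (Fact.out : p.Prime).one_lt
    have : 1 < p ^ n := Nat.one_lt_pow hn0 hp
    omega
  · rw [hS₀]
    exact selfNorm_subgroupOf hle hN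
  · rw [hS₀]
    exact noStrClosed_subgroupOf hle hT

end Cfsg.Agent.Helper85.Tab
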