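-- The 2-fusion system of M12 is simple: table data and checks (helper85; data generated by a script, checked by the kernel).
import Cfsg.Agent.Helper85.TabClosure
import Cfsg.Agent.Helper7.M12Sharp
import Cfsg.Prelude.Def_Spor_Mathieu

set_option autoImplicit false

namespace Cfsg.Agent.Helper85.M12Fus

open Cfsg Cfsg.Agent.Helper7 Cfsg.Agent.Helper85.Tab
open scoped Pointwise

def s0Idx : List (List ℕ) := [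
  [0, 0, 0, 0, 0],
  [0, 0, 0, 0, 1],
  [0, 0, 0, 0, 2],
  [0, 0, 0, 0, 3],
  [0, 0, 0, 0, 4],
  [0, 0, 0, 0, 5],
  [0, 0, 0, 0, 6],
  [0, 0, 0, 0, 7],
  [0, 0, 1, 0, 1],
  [0, 0, 1, 0, 0],
  [0, 0, 1, 0, 6],
  [0, 0, 1, 0, 4],
  [0, 0, 1, 0, 3],
  [0, 0, 1, 0, 5],
  [0, 0, 1, 0, 2],
  [0, 0, 1, 0, 7],
  [1, 5, 4, 6, 0],
  [1, 5, 4, 6, 3],
  [1, 5, 4, 6, 7],
  [1, 5, 4, 6, 1],
  [1, 5, 4, 6, 4],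
  [1, 5, 4, 6, 6],
  [1, 5, 4, 6, 5],
  [1, 5, 4, 6, 2],
  [1, 5, 8, 6, 3],
  [1, 5, 8, 6, 0],
  [1, 5, 8, 6, 5],
  [1, 5, 8, 6, 4],
  [1, 5, 8, 6, 1],
  [1, 5, 8, 6, 6],
  [1, 5, 8, 6, 7],
  [1, 5, 8, 6, 2],
  [2, 0, 4, 0, 1],
  [2, 0, 4, 0, 0],
  [2, 0, 4, 0, 5],
  [2, 0, 4, 0, 4],
  [2, 0, 4, 0, 3],
  [2, 0, 4, 0, 2],
  [2, 0, 4, 0, 7],
  [2, 0, 4, 0, 6],
  [2, 0, 3, 0, 0],
  [2, 0, 3, 0, 1],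
  [2, 0, 3, 0, 5],
  [2, 0, 3, 0, 3],
  [2, 0, 3, 0, 4],
  [2, 0, 3, 0, 6],
  [2, 0, 3, 0, 7],
  [2, 0, 3, 0, 2],
  [3, 9, 9, 6, 7],
  [3, 9, 9, 6, 6],
  [3, 9, 9, 6, 4],
  [3, 9, 9, 6, 2],
  [3, 9, 9, 6, 5],
  [3, 9, 9, 6, 1],
  [3, 9, 9, 6, 0],
  [3, 9, 9, 6, 3],
  [3, 9, 1, 8, 7],
  [3, 9, 1, 8, 2],
  [3, 9, 1, 8, 3],
  [3, 9, 1, 8, 6],
  [3, 9, 1, 8, 5],
  [3, 9, 1, 8, 0],
  [3, 9, 1, 8, 1],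
  [3, 9, 1, 8, 4]
]

def s0Tabs : List (List ℕ) := [
  [0, 1, 2, 3, 4, 5, 6, 7, 8, 9, 10, 11, 12, 13, 14, 15, 16, 17, 18, 19, 20, 21, 22, 23],
  [0, 1, 2, 3, 6, 14, 12, 22, 13, 4, 11, 7, 9, 16, 5, 21, 18, 23, 8, 20, 15, 19, 10, 17],
  [0, 1, 2, 3, 8, 17, 18, 15, 12, 13, 19, 21, 16, 6, 23, 10, 4, 5, 9, 7, 11, 22, 20, 14],
  [0, 1, 2, 3, 9, 14, 4, 11, 18, 12, 22, 10, 6, 8, 5, 20, 13, 23, 16, 21, 19, 15, 7, 17],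
  [0, 1, 2, 3, 12, 5, 9, 10, 16, 6, 7, 22, 4, 18, 14, 19, 8, 17, 13, 15, 21, 20, 11, 23],
  [0, 1, 2, 3, 13, 23, 8, 21, 9, 16, 20, 19, 18, 12, 17, 11, 6, 14, 4, 22, 7, 10, 15, 5],
  [0, 1, 2, 3, 16, 17, 13, 19, 4, 18, 15, 20, 8, 9, 23, 7, 12, 5, 6, 10, 22, 11, 21, 14],
  [0, 1, 2, 3, 18, 23, 16, 20, 6, 8, 21, 15, 13, 4, 17, 22, 9, 14, 12, 11, 10, 7, 19, 5],
  [0, 1, 3, 2, 4, 5, 9, 10, 13, 6, 7, 11, 12, 8, 14, 20, 18, 23, 16, 21, 15, 19, 22, 17],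
  [0, 1, 3, 2, 6, 14, 4, 11, 16, 12, 22, 7, 9, 13, 5, 15, 8, 17, 18, 19, 21, 20, 10, 23],
  [0, 1, 3, 2, 8, 17, 13, 19, 6, 18, 15, 21, 16, 12, 23, 11, 9, 14, 4, 22, 10, 7, 20, 5],
  [0, 1, 3, 2, 9, 14, 12, 22, 8, 4, 11, 10, 6, 18, 5, 19, 16, 17, 13, 15, 20, 21, 7, 23],
  [0, 1, 3, 2, 12, 5, 6, 7, 18, 9, 10, 22, 4, 16, 14, 21, 13, 23, 8, 20, 19, 15, 11, 17],
  [0, 1, 3, 2, 13, 23, 16, 20, 12, 8, 21, 19, 18, 9, 17, 7, 4, 5, 6, 10, 11, 22, 15, 14],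
  [0, 1, 3, 2, 16, 17, 18, 15, 9, 13, 19, 20, 8, 4, 23, 22, 6, 14, 12, 11, 7, 10, 21, 5],
  [0, 1, 3, 2, 18, 23, 8, 21, 4, 16, 20, 15, 13, 6, 17, 10, 12, 5, 9, 7, 22, 11, 19, 14],
  [1, 0, 2, 3, 4, 14, 9, 10, 18, 6, 7, 11, 12, 16, 5, 21, 13, 17, 8, 20, 19, 15, 22, 23],
  [1, 0, 2, 3, 6, 5, 4, 11, 8, 12, 22, 7, 9, 18, 14, 19, 16, 23, 13, 15, 20, 21, 10, 17],
  [1, 0, 2, 3, 8, 23, 13, 19, 9, 18, 15, 21, 16, 4, 17, 22, 6, 5, 12, 11, 7, 10, 20, 14],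
  [1, 0, 2, 3, 9, 5, 12, 22, 16, 4, 11, 10, 6, 13, 14, 15, 8, 23, 18, 19, 21, 20, 7, 17],
  [1, 0, 2, 3, 12, 14, 6, 7, 13, 9, 10, 22, 4, 8, 5, 20, 18, 17, 16, 21, 15, 19, 11, 23],
  [1, 0, 2, 3, 13, 17, 16, 20, 4, 8, 21, 19, 18, 6, 23, 10, 12, 14, 9, 7, 22, 11, 15, 5],
  [1, 0, 2, 3, 16, 23, 18, 15, 6, 13, 19, 20, 8, 12, 17, 11, 9, 5, 4, 22, 10, 7, 21, 14],
  [1, 0, 2, 3, 18, 17, 8, 21, 12, 16, 20, 15, 13, 9, 23, 7, 4, 14, 6, 10, 11, 22, 19, 5],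
  [1, 0, 3, 2, 4, 14, 6, 7, 16, 9, 10, 11, 12, 18, 5, 19, 8, 23, 13, 15, 21, 20, 22, 17],
  [1, 0, 3, 2, 6, 5, 12, 22, 18, 4, 11, 7, 9, 8, 14, 20, 13, 17, 16, 21, 19, 15, 10, 23],
  [1, 0, 3, 2, 8, 23, 18, 15, 4, 13, 19, 21, 16, 9, 17, 7, 12, 14, 6, 10, 22, 11, 20, 5],
  [1, 0, 3, 2, 9, 5, 4, 11, 13, 12, 22, 10, 6, 16, 14, 21, 18, 17, 8, 20, 15, 19, 7, 23],
  [1, 0, 3, 2, 12, 14, 9, 10, 8, 6, 7, 22, 4, 13, 5, 15, 16, 23, 18, 19, 20, 21, 11, 17],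
  [1, 0, 3, 2, 13, 17, 8, 21, 6, 16, 20, 19, 18, 4, 23, 22, 9, 5, 12, 11, 10, 7, 15, 14],
  [1, 0, 3, 2, 16, 23, 13, 19, 12, 18, 15, 20, 8, 6, 17, 10, 4, 14, 9, 7, 11, 22, 21, 5],
  [1, 0, 3, 2, 18, 17, 16, 20, 9, 8, 21, 15, 13, 12, 23, 11, 6, 5, 4, 22, 7, 10, 19, 14],
  [2, 3, 0, 1, 4, 17, 9, 7, 8, 6, 10, 22, 12, 18, 23, 15, 16, 5, 13, 19, 21, 20, 11, 14],
  [2, 3, 0, 1, 6, 23, 4, 22, 13, 12, 11, 10, 9, 8, 17, 21, 18, 14, 16, 20, 19, 15, 7, 5],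
  [2, 3, 0, 1, 8, 5, 13, 15, 12, 18, 19, 20, 16, 9, 14, 10, 4, 17, 6, 7, 22, 11, 21, 23],
  [2, 3, 0, 1, 9, 23, 12, 11, 18, 4, 22, 7, 6, 16, 17, 20, 13, 14, 8, 21, 15, 19, 10, 5],
  [2, 3, 0, 1, 12, 17, 6, 10, 16, 9, 7, 11, 4, 13, 23, 19, 8, 5, 18, 15, 20, 21, 22, 14],
  [2, 3, 0, 1, 13, 14, 16, 21, 9, 8, 20, 15, 18, 4, 5, 11, 6, 23, 12, 22, 10, 7, 19, 17],
  [2, 3, 0, 1, 16, 5, 18, 19, 4, 13, 15, 21, 8, 6, 14, 7, 12, 17, 9, 10, 11, 22, 20, 23],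
  [2, 3, 0, 1, 18, 14, 8, 20, 6, 16, 21, 19, 13, 12, 5, 22, 9, 23, 4, 11, 7, 10, 15, 17],
  [2, 3, 1, 0, 4, 17, 6, 10, 18, 9, 7, 22, 12, 8, 23, 21, 13, 14, 16, 20, 15, 19, 11, 5],
  [2, 3, 1, 0, 6, 23, 12, 11, 8, 4, 22, 10, 9, 13, 17, 19, 16, 5, 18, 15, 21, 20, 7, 14],
  [2, 3, 1, 0, 8, 5, 18, 19, 9, 13, 15, 20, 16, 12, 14, 22, 6, 23, 4, 11, 10, 7, 21, 17],
  [2, 3, 1, 0, 9, 23, 4, 22, 16, 12, 11, 7, 6, 18, 17, 15, 8, 5, 13, 19, 20, 21, 10, 14],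
  [2, 3, 1, 0, 12, 17, 9, 7, 13, 6, 10, 11, 4, 16, 23, 20, 18, 14, 8, 21, 19, 15, 22, 5],
  [2, 3, 1, 0, 13, 14, 8, 20, 4, 16, 21, 15, 18, 9, 5, 10, 12, 17, 6, 7, 11, 22, 19, 23],
  [2, 3, 1, 0, 16, 5, 13, 15, 6, 18, 19, 21, 8, 4, 14, 11, 9, 23, 12, 22, 7, 10, 20, 17],
  [2, 3, 1, 0, 18, 14, 16, 21, 12, 8, 20, 19, 13, 6, 5, 7, 4, 17, 9, 10, 22, 11, 15, 23],
  [3, 2, 0, 1, 4, 23, 6, 10, 13, 9, 7, 22, 12, 16, 17, 20, 18, 5, 8, 21, 19, 15, 11, 14],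
  [3, 2, 0, 1, 6, 17, 12, 11, 16, 4, 22, 10, 9, 18, 23, 15, 8, 14, 13, 19, 20, 21, 7, 5],
  [3, 2, 0, 1, 8, 14, 18, 19, 6, 13, 15, 20, 16, 4, 5, 11, 9, 17, 12, 22, 7, 10, 21, 23],
  [3, 2, 0, 1, 9, 17, 4, 22, 8, 12, 11, 7, 6, 13, 23, 19, 16, 14, 18, 15, 21, 20, 10, 5],
  [3, 2, 0, 1, 12, 23, 9, 7, 18, 6, 10, 11, 4, 8, 17, 21, 13, 5, 16, 20, 15, 19, 22, 14],
  [3, 2, 0, 1, 13, 5, 8, 20, 12, 16, 21, 15, 18, 6, 14, 7, 4, 23, 9, 10, 22, 11, 19, 17],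
  [3, 2, 0, 1, 16, 14, 13, 15, 9, 18, 19, 21, 8, 12, 5, 22, 6, 17, 4, 11, 10, 7, 20, 23],
  [3, 2, 0, 1, 18, 5, 16, 21, 4, 8, 20, 19, 13, 9, 14, 10, 12, 23, 6, 7, 11, 22, 15, 17],
  [3, 2, 1, 0, 4, 23, 9, 7, 16, 6, 10, 22, 12, 13, 17, 19, 8, 14, 18, 15, 20, 21, 11, 5],
  [3, 2, 1, 0, 6, 17, 4, 22, 18, 12, 11, 10, 9, 16, 23, 20, 13, 5, 8, 21, 15, 19, 7, 14],
  [3, 2, 1, 0, 8, 14, 13, 15, 4, 18, 19, 20, 16, 6, 5, 7, 12, 23, 9, 10, 11, 22, 21, 17],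
  [3, 2, 1, 0, 9, 17, 12, 11, 13, 4, 22, 7, 6, 8, 23, 21, 18, 5, 16, 20, 19, 15, 10, 14],
  [3, 2, 1, 0, 12, 23, 6, 10, 8, 9, 7, 11, 4, 18, 17, 15, 16, 14, 13, 19, 21, 20, 22, 5],
  [3, 2, 1, 0, 13, 5, 16, 21, 6, 8, 20, 15, 18, 12, 14, 22, 9, 17, 4, 11, 7, 10, 19, 23],
  [3, 2, 1, 0, 16, 14, 18, 19, 12, 13, 15, 21, 8, 9, 5, 10, 4, 23, 6, 7, 22, 11, 20, 17],
  [3, 2, 1, 0, 18, 5, 8, 20, 9, 16, 21, 19, 13, 4, 14, 11, 6, 17, 12, 22, 10, 7, 15, 23]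
]

def s0Gens : List (List ℕ) := [
  [0, 1, 2, 3, 6, 14, 12, 22, 13, 4, 11, 7, 9, 16, 5, 21, 18, 23, 8, 20, 15, 19, 10, 17],
  [0, 1, 2, 3, 8, 17, 18, 15, 12, 13, 19, 21, 16, 6, 23, 10, 4, 5, 9, 7, 11, 22, 20, 14],
  [0, 1, 3, 2, 4, 5, 9, 10, 13, 6, 7, 11, 12, 8, 14, 20, 18, 23, 16, 21, 15, 19, 22, 17],
  [1, 0, 2, 3, 4, 14, 9, 10, 18, 6, 7, 11, 12, 16, 5, 21, 13, 17, 8, 20, 19, 15, 22, 23],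
  [2, 3, 0, 1, 4, 17, 9, 7, 8, 6, 10, 22, 12, 18, 23, 15, 16, 5, 13, 19, 21, 20, 11, 14]
]

def s0Z : List ℕ := [0, 1, 2, 3, 12, 5, 9, 10, 16, 6, 7, 22, 4, 18, 14, 19, 8, 17, 13, 15, 21, 20, 11, 23]

def cjIdx : List (List ℕ) := [
  [0, 0, 2, 2, 0],
  [0, 0, 4, 6, 0],
  [2, 0, 0, 1, 0],
  [4, 3, 2, 8, 0],
  [0, 1, 0, 1, 0]
]

def cjTabs : List (List ℕ) := [
  [0, 1, 4, 12, 16, 11, 13, 20, 2, 8, 15, 19, 18, 6, 22, 7, 3, 14, 9, 10, 23, 17, 21, 5],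
  [0, 1, 8, 16, 2, 23, 13, 15, 9, 18, 19, 5, 3, 6, 17, 10, 4, 21, 12, 11, 7, 22, 14, 20],
  [2, 3, 12, 4, 9, 17, 1, 14, 13, 0, 5, 10, 6, 8, 23, 21, 16, 22, 18, 15, 19, 20, 7, 11],
  [4, 12, 8, 16, 9, 7, 13, 20, 3, 18, 21, 11, 6, 2, 10, 23, 1, 19, 0, 14, 17, 5, 22, 15],
  [0, 2, 3, 1, 16, 14, 12, 19, 6, 4, 15, 7, 8, 13, 23, 22, 9, 17, 18, 11, 20, 21, 10, 5]
]

def s0Prog : List COp := [
  .cj [0, 1, 4, 12, 16, 11, 13, 20, 2, 8, 15, 19, 18, 6, 22, 7, 3, 14, 9, 10, 23, 17, 21, 5] 1,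
  .mul 1 2,
  .cj [0, 1, 8, 16, 2, 23, 13, 15, 9, 18, 19, 5, 3, 6, 17, 10, 4, 21, 12, 11, 7, 22, 14, 20] 1,
  .mul 1 4,
  .mul 2 4,
  .mul 3 4,
  .cj [2, 3, 12, 4, 9, 17, 1, 14, 13, 0, 5, 10, 6, 8, 23, 21, 16, 22, 18, 15, 19, 20, 7, 11] 1,
  .mul 1 8,
  .mul 2 8,
  .mul 3 8,
  .mul 4 8,
  .mul 5 8,
  .mul 6 8,
  .mul 7 8,
  .cj [4, 12, 8, 16, 9, 7, 13, 20, 3, 18, 21, 11, 6, 2, 10, 23, 1, 19, 0, 14, 17, 5, 22, 15] 1,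
  .mul 1 16,
  .mul 2 16,
  .mul 3 16,
  .mul 4 16,
  .mul 5 16,
  .mul 6 16,
  .mul 7 16,
  .mul 8 16,
  .mul 9 16,
  .mul 10 16,
  .mul 11 16,
  .mul 12 16,
  .mul 13 16,
  .mul 14 16,
  .mul 15 16,
  .cj [0, 2, 3, 1, 16, 14, 12, 19, 6, 4, 15, 7, 8, 13, 23, 22, 9, 17, 18, 11, 20, 21, 10, 5] 6,
  .mul 1 32,
  .mul 2 32,
  .mul 3 32,
  .mul 4 32,
  .mul 5 32,
  .mul 6 32,
  .mul 7 32,
  .mul 8 32,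
  .mul 9 32,
  .mul 10 32,
  .mul 11 32,
  .mul 12 32,
  .mul 13 32,
  .mul 14 32,
  .mul 15 32,
  .mul 16 32,
  .mul 17 32,
  .mul 18 32,
  .mul 19 32,
  .mul 20 32,
  .mul 21 32,
  .mul 22 32,
  .mul 23 32,
  .mul 24 32,
  .mul 25 32,
  .mul 26 32,
  .mul 27 32,
  .mul 28 32,
  .mul 29 32,
  .mul 30 32,
  .mul 31 32
]

theorem s0Tabs_eq : s0Idx.map (prodAtL m12Levels) = s0Tabs := by decide +kernel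

theorem cjTabs_eq : cjIdx.map (prodAtL m12Levels) = cjTabs := by decide +kernel

theorem s0_tabled : ∀ l ∈ s0Tabs, Tabled M12 l :=
  tabled_of_prodAtL m12Levels tabled_m12Levels s0Idx s0Tabs s0Tabs_eq

theorem cj_tabled : ∀ l ∈ cjTabs, Tabled M12 l :=
  tabled_of_prodAtL m12Levels tabled_m12Levels cjIdx cjTabs cjTabs_eq

theorem s0_closed : closedChk s0Tabs = true := by decide +kernel

theorem s0_nodup : s0Tabs.Nodup := by decide +kernel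

theorem s0_gens : ∀ a ∈ s0Gens, a ∈ s0Tabs := by decide +kernel

theorem s0_z : s0Z ∈ s0Tabs := by decide +kernel

theorem s0_center : centerChk s0Tabs s0Gens s0Z = true := by decide +kernel

theorem s0_search : (search s0Z idT m12Levels).all (normChk s0Tabs s0Gens) = true := by decide +kernel

theorem s0_ok : okC cjTabs s0Tabs s0Prog [idT, s0Z] = true := by decide +kernel

theorem s0_all : s0Tabs.all (fun l => (runC s0Prog [idT, s0Z]).contains l) = true := by decide +kernel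

theorem s0_selfNorm : SelfNormIn M12 (tabSub s0Tabs s0_closed) :=
  selfNormIn_of_search s0_closed s0_gens s0_tabled s0_z s0_center tabled_m12Levels m12_chainOK m12_bounds
    s0_search

theorem s0_card : Nat.card (tabSub s0Tabs s0_closed) = 2 ^ 6 := by
  rw [card_tabSub s0_closed s0_nodup s0_tabled]
  rfl

theorem s0_noStrClosed : NoStrClosedIn M12 (tabSub s0Tabs s0_closed) :=
  noStrClosedIn_of_cert 2 s0_closed (IsPGroup.of_card s0_card) s0_gens s0_tabled s0_z s0_center cj_tabled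
    s0Prog s0_ok s0_all

theorem card_factorization : (Nat.card M12).factorization 2 = 6 := by
  rw [card_M12]
  have h : (95040 : ℕ) = 2 ^ 6 * 1485 := by norm_num
  rw [h, Nat.factorization_mul (by norm_num) (by norm_num), Nat.Prime.factorization_pow Nat.prime_two]
  have h2 : (1485 : ℕ).factorization 2 = 0 := Nat.factorization_eq_zero_of_not_dvd (by norm_num)
  simp [h2]

theorem m12_simple (S : Sylow 2 M12) : (groupFusionSystem (S : Subgroup M12)).IsSimple 2 :=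
  isSimple_of_tables 2 s0_closed s0_tabled s0_nodup 6 rfl (by norm_num) card_factorization s0_selfNorm
    s0_noStrClosed S

theorem sporM12_eq : Spor.M12 = M12 := by
  ext g
  have hd : Spor.squareDodecad = d0F := by
    rw [Spor.squareDodecad, qrWord_eq]
    rfl
  rw [mem_M12_iff, Spor.M12, Subgroup.mem_inf, hd]
  constructor
  · rintro ⟨h1, h2⟩
    exact ⟨h1, MulAction.mem_stabilizer_iff.mp h2⟩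
  · rintro ⟨h1, h2⟩
    exact ⟨h1, MulAction.mem_stabilizer_iff.mpr h2⟩

theorem sporM12_simple (S : Sylow 2 Spor.M12) : (groupFusionSystem (S : Subgroup Spor.M12)).IsSimple 2 := by
  revert S
  rw [sporM12_eq]
  exact m12_simple

end Cfsg.Agent.Helper85.M12Fus
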