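-- Auxiliary pure group theory for S5235 / S5212 (helper85): metacyclic groups are closed under subgroups and
-- isomorphisms; stabilizers of invariant sections in automorphism groups; automorphisms stabilizing `1 ≤ Φ(Q) ≤ Q ≤ X`.
import Mathlib
import Cfsg.Prelude.Def_OddOrderLocal
import Cfsg.Agent.S4207
import Cfsg.Agent.Helper70.FrattiniAction

set_option autoImplicit false

namespace Cfsg.Agent.Helper85.MetaSC

open Cfsg

/-! ### Metacyclic groups -/

theorem isMetacyclic_of_mulEquiv {G H : Type*} [Group G] [Group H] (e : G ≃* H) (h : IsMetacyclic G) :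
    IsMetacyclic H := by
  obtain ⟨N, hN, hNc, hQc⟩ := h
  have hmap : N.map e.toMonoidHom = N.map (e : G →* H) := rfl
  haveI hN' : (N.map e.toMonoidHom).Normal :=
    Subgroup.Normal.map hN e.toMonoidHom e.surjective
  refine ⟨N.map e.toMonoidHom, hN', ?_, ?_⟩
  · haveI := hNc
    exact isCyclic_of_surjective ((e.toMonoidHom).subgroupMap N) (MonoidHom.subgroupMap_surjective _ _)
  · haveI := hQc
    let f : G ⧸ N ≃* H ⧸ N.map e.toMonoidHom := QuotientGroup.congr N (N.map e.toMonoidHom) e rfl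
    exact isCyclic_of_surjective f.toMonoidHom f.surjective

theorem isMetacyclic_subgroup {G : Type*} [Group G] (h : IsMetacyclic G) (H : Subgroup G) :
    IsMetacyclic ↥H := by
  obtain ⟨N, hN, hNc, hQc⟩ := h
  haveI := hN
  haveI := hNc
  haveI := hQc
  refine ⟨N.subgroupOf H, inferInstance, ?_, ?_⟩
  · -- `N.subgroupOf H` embeds in `N`
    let f : ↥(N.subgroupOf H) →* ↥N :=
      { toFun := fun x => ⟨(x : H), x.2⟩
        map_one' := rfl
        map_mul' := fun _ _ => rfl }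
    have hf : Function.Injective f := by
      intro x y hxy
      apply Subtype.ext
      apply Subtype.ext
      exact congrArg (fun z : ↥N => (z : G)) hxy
    exact isCyclic_of_injective f hf
  · -- `H / (N ∩ H)` embeds in `G / N`
    let g : ↥H →* G ⧸ N := (QuotientGroup.mk' N).comp H.subtype
    have hker : g.ker = N.subgroupOf H := by
      ext x
      rw [MonoidHom.mem_ker, Subgroup.mem_subgroupOf]
      show ((x : G) : G ⧸ N) = 1 ↔ _
      rw [QuotientGroup.eq_one_iff]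
    let f : ↥H ⧸ N.subgroupOf H →* G ⧸ N :=
      QuotientGroup.lift (N.subgroupOf H) g (fun x hx => by rw [← hker] at hx; exact hx)
    have hf : Function.Injective f := by
      rw [← MonoidHom.ker_eq_bot_iff, eq_bot_iff]
      intro x hx
      induction x using QuotientGroup.induction_on with | _ x => ?_
      rw [MonoidHom.mem_ker] at hx
      have hx' : g x = 1 := hx
      rw [Subgroup.mem_bot, QuotientGroup.eq_one_iff, ← hker, MonoidHom.mem_ker]
      exact hx'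
    exact isCyclic_of_injective f hf

/-! ### Stabilizers of invariant sections -/

section stab

variable {X : Type*} [Group X]

/-- The automorphisms in `𝔄` that move every element of `A` inside its coset of `B`. -/
def stab (𝔄 : Subgroup (MulAut X)) (A B : Subgroup X) (hA : ∀ γ ∈ 𝔄, ∀ x ∈ A, γ x ∈ A) :
    Subgroup (MulAut X) where
  carrier := {α | α ∈ 𝔄 ∧ ∀ x ∈ A, x⁻¹ * α x ∈ B}
  one_mem' := ⟨𝔄.one_mem, fun x _ => by simp⟩
  mul_mem' := by
    rintro α β ⟨hα, hα'⟩ ⟨hβ, hβ'⟩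
    refine ⟨𝔄.mul_mem hα hβ, fun x hx => ?_⟩
    have h1 := hβ' x hx
    have h2 := hα' (β x) (hA β hβ x hx)
    have e : x⁻¹ * (α * β) x = (x⁻¹ * β x) * ((β x)⁻¹ * α (β x)) := by
      rw [MulAut.mul_apply]; group
    rw [e]
    exact B.mul_mem h1 h2
  inv_mem' := by
    rintro α ⟨hα, hα'⟩
    refine ⟨𝔄.inv_mem hα, fun x hx => ?_⟩
    have hu : α⁻¹ x ∈ A := hA α⁻¹ (𝔄.inv_mem hα) x hx
    have h1 := hα' _ hu
    have h2 : α (α⁻¹ x) = x := by simp
    rw [h2] at h1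
    have e : x⁻¹ * α⁻¹ x = ((α⁻¹ x)⁻¹ * x)⁻¹ := by group
    rw [e]
    exact B.inv_mem h1

theorem mem_stab {𝔄 : Subgroup (MulAut X)} {A B : Subgroup X} {hA : ∀ γ ∈ 𝔄, ∀ x ∈ A, γ x ∈ A}
    {α : MulAut X} : α ∈ stab 𝔄 A B hA ↔ α ∈ 𝔄 ∧ ∀ x ∈ A, x⁻¹ * α x ∈ B := Iff.rfl

theorem stab_le {𝔄 : Subgroup (MulAut X)} {A B : Subgroup X} {hA : ∀ γ ∈ 𝔄, ∀ x ∈ A, γ x ∈ A} :
    stab 𝔄 A B hA ≤ 𝔄 := fun _ h => h.1

theorem stab_conj_mem {𝔄 : Subgroup (MulAut X)} {A B : Subgroup X} {hA : ∀ γ ∈ 𝔄, ∀ x ∈ A, γ x ∈ A}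
    (hB : ∀ γ ∈ 𝔄, ∀ x ∈ B, γ x ∈ B) {α γ : MulAut X} (hα : α ∈ stab 𝔄 A B hA) (hγ : γ ∈ 𝔄) :
    γ * α * γ⁻¹ ∈ stab 𝔄 A B hA := by
  refine ⟨𝔄.mul_mem (𝔄.mul_mem hγ hα.1) (𝔄.inv_mem hγ), fun x hx => ?_⟩
  have hu : γ⁻¹ x ∈ A := hA γ⁻¹ (𝔄.inv_mem hγ) x hx
  have h1 := hB γ hγ _ (hα.2 _ hu)
  have e : x⁻¹ * (γ * α * γ⁻¹) x = γ ((γ⁻¹ x)⁻¹ * α (γ⁻¹ x)) := by
    rw [MulAut.mul_apply, MulAut.mul_apply, map_mul, map_inv]
    simp
  rw [e]
  exact h1

/-- the subgroup of `↥𝔄` given by a normalized subgroup of `𝔄` is normal -/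
theorem subgroupOf_normal_of_conj {𝔄 K : Subgroup (MulAut X)}
    (h : ∀ α ∈ K, ∀ γ ∈ 𝔄, γ * α * γ⁻¹ ∈ K) : (K.subgroupOf 𝔄).Normal := by
  refine ⟨fun x hx g => ?_⟩
  rw [Subgroup.mem_subgroupOf] at hx ⊢
  simpa using h _ hx g g.2

end stab

/-! ### Restriction of automorphisms of a finite group -/

section restr

variable {X : Type*} [Group X]

theorem pow_apply_mem (Q : Subgroup X) (α : MulAut X) (h : ∀ x ∈ Q, α x ∈ Q) (m : ℕ) :
    ∀ x ∈ Q, (α ^ m) x ∈ Q := by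
  induction m with
  | zero => intro x hx; simpa using hx
  | succ m ih =>
    intro x hx
    rw [pow_succ, MulAut.mul_apply]
    exact ih _ (h x hx)

theorem inv_apply_mem [Finite X] (Q : Subgroup X) (α : MulAut X) (h : ∀ x ∈ Q, α x ∈ Q) :
    ∀ x ∈ Q, α⁻¹ x ∈ Q := by
  haveI : Finite (MulAut X) := MulEquiv.finite_left
  have hfin : IsOfFinOrder α := isOfFinOrder_of_finite α
  have hpos : 0 < orderOf α := hfin.orderOf_pos
  have hinv : α⁻¹ = α ^ (orderOf α - 1) := by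
    rw [eq_comm, ← mul_eq_one_iff_eq_inv, ← pow_succ, Nat.sub_add_cancel hpos, pow_orderOf_eq_one]
  rw [hinv]
  exact pow_apply_mem Q α h _

/-- the automorphism of `Q` induced by an automorphism of `X` leaving `Q` invariant -/
noncomputable def restrAut [Finite X] (Q : Subgroup X) (α : MulAut X) (h : ∀ x ∈ Q, α x ∈ Q) : MulAut ↥Q where
  toFun x := ⟨α x, h x x.2⟩
  invFun x := ⟨α⁻¹ x, inv_apply_mem Q α h x x.2⟩
  left_inv x := by apply Subtype.ext; simp
  right_inv x := by apply Subtype.ext; simp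
  map_mul' x y := by apply Subtype.ext; simp

@[simp]
theorem restrAut_apply [Finite X] (Q : Subgroup X) (α : MulAut X) (h : ∀ x ∈ Q, α x ∈ Q) (x : Q) :
    ((restrAut Q α h x : Q) : X) = α x := rfl

theorem restrAut_pow_apply [Finite X] (Q : Subgroup X) (α : MulAut X) (h : ∀ x ∈ Q, α x ∈ Q) (m : ℕ) (x : Q) :
    (((restrAut Q α h) ^ m) x : X) = (α ^ m) x := by
  induction m generalizing x with
  | zero => simp
  | succ m ih =>
    rw [pow_succ, pow_succ, MulAut.mul_apply, MulAut.mul_apply, ih]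
    rfl

end restr

/-! ### Automorphisms stabilizing `Φ(Q) ≤ Q ≤ X` -/

/-- An automorphism of the finite group `X` that acts trivially on `X / Q` and on `Q / Φ(Q)`, for a `p`-subgroup `Q`,
has `p`-power order. -/
theorem exists_pow_eq_one_of_stab {X : Type*} [Group X] [Finite X] {p : ℕ} [Fact p.Prime] (Q : Subgroup X)
    (hQp : IsPGroup p Q) (α : MulAut X) (hαQ : ∀ x ∈ Q, α x ∈ Q) (h1 : ∀ x : X, x⁻¹ * α x ∈ Q)
    (h2 : ∀ x ∈ Q, x⁻¹ * α x ∈ (frattini ↥Q).map Q.subtype) : ∃ k : ℕ, α ^ p ^ k = 1 := by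
  have hp : p.Prime := Fact.out
  obtain ⟨n, hn⟩ := IsPGroup.iff_card.mp hQp
  obtain ⟨r, -, hr⟩ : ∃ r, r ≤ n ∧ (frattini ↥Q).index = p ^ r := by
    have h1 : (frattini ↥Q).index ∣ p ^ n := by
      rw [← hn]; exact Subgroup.index_dvd_card _
    exact (Nat.dvd_prime_pow hp).mp h1
  -- the automorphisms of `Q` trivial on the Frattini quotient form a `p`-group
  have hA : ∀ β ∈ (Cfsg.Agent.Helper70.autQuot (frattini ↥Q)).ker, ∀ x : ↥Q, β x * x⁻¹ ∈ frattini ↥Q := by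
    intro β hβ x
    rw [MonoidHom.mem_ker] at hβ
    have h1 : Cfsg.Agent.Helper70.autQuot (frattini ↥Q) β ((x : ↥Q) : ↥Q ⧸ frattini ↥Q) = x := by
      rw [hβ]; rfl
    rw [Cfsg.Agent.Helper70.autQuot_mk] at h1
    rw [← QuotientGroup.eq_one_iff, QuotientGroup.mk_mul, QuotientGroup.mk_inv, h1, mul_inv_cancel]
  have hcard := Cfsg.Agent.S4207.result hn hr _ hA
  obtain ⟨j, -, hj⟩ := (Nat.dvd_prime_pow hp).mp hcard
  have hAp : IsPGroup p (Cfsg.Agent.Helper70.autQuot (frattini ↥Q)).ker := IsPGroup.of_card hj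
  set β := restrAut Q α hαQ with hβdef
  have hβmem : β ∈ (Cfsg.Agent.Helper70.autQuot (frattini ↥Q)).ker := by
    rw [MonoidHom.mem_ker]
    ext y
    induction y using QuotientGroup.induction_on with | _ x => ?_
    rw [Cfsg.Agent.Helper70.autQuot_mk, MulAut.one_apply, eq_comm, QuotientGroup.eq]
    obtain ⟨w, hw, hwx⟩ := h2 x x.2
    have : w = x⁻¹ * β x := by
      apply Subtype.ext
      rw [Subgroup.subtype_apply] at hwx
      rw [hwx]
      simp [hβdef]
    rw [← this]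
    exact hw
  obtain ⟨k, hk⟩ := hAp ⟨β, hβmem⟩
  have hk' : β ^ p ^ k = 1 := by
    have := congrArg Subtype.val hk
    simpa using this
  -- `γ := α ^ p ^ k` fixes `Q` pointwise
  set γ := α ^ p ^ k with hγdef
  have hγQ : ∀ x ∈ Q, γ x = x := by
    intro x hx
    have h3 := restrAut_pow_apply Q α hαQ (p ^ k) ⟨x, hx⟩
    rw [← hβdef, hk'] at h3
    simpa using h3.symm
  -- `γ` acts trivially on `X / Q`
  have hpow : ∀ m : ℕ, ∀ x : X, x⁻¹ * (α ^ m) x ∈ Q := by
    intro m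
    induction m with
    | zero => intro x; simp
    | succ m ih =>
      intro x
      rw [pow_succ, MulAut.mul_apply]
      have e : x⁻¹ * (α ^ m) (α x) = (x⁻¹ * α x) * ((α x)⁻¹ * (α ^ m) (α x)) := by group
      rw [e]
      exact Q.mul_mem (h1 x) (ih (α x))
  have hγ1 : ∀ x : X, x⁻¹ * γ x ∈ Q := hpow _
  have hγpow : ∀ m : ℕ, ∀ x : X, (γ ^ m) x = x * (x⁻¹ * γ x) ^ m := by
    intro m
    induction m with
    | zero => intro x; simp
    | succ m ih =>
      intro x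
      rw [pow_succ', MulAut.mul_apply, ih, map_mul, map_pow, hγQ _ (hγ1 x), pow_succ', ← mul_assoc,
        mul_inv_cancel_left]
  refine ⟨k + n, ?_⟩
  rw [pow_add, pow_mul, ← hγdef]
  ext x
  rw [hγpow, MulAut.one_apply]
  have h4 : (⟨x⁻¹ * γ x, hγ1 x⟩ : ↥Q) ^ p ^ n = 1 := by
    rw [← hn]; exact pow_card_eq_one'
  have h5 := congrArg Subtype.val h4
  simp only [Subgroup.coe_pow, Subgroup.coe_one] at h5
  rw [h5, mul_one]

end Cfsg.Agent.Helper85.MetaSC
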