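-- More auxiliary pure group theory for S5235 / S5212 (helper85).
import Mathlib

set_option autoImplicit false

namespace Cfsg.Agent.Helper85.MetaSC

variable {G : Type*} [Group G]

/-- If `x ∉ Q` normalizes `Q` and `x² ∈ Q`, then `Q` has index `2` in `Q ⊔ ⟨x⟩`. -/
theorem index_sup_zpowers_eq_two (Q : Subgroup G) (x : G) (hxQ : x ∉ Q) (hx2 : x * x ∈ Q)
    (hnorm : ∀ q ∈ Q, x * q * x⁻¹ ∈ Q) : (Q.subgroupOf (Q ⊔ Subgroup.zpowers x)).index = 2 := by
  -- `x⁻¹` normalizes `Q` too
  have hnorm' : ∀ q ∈ Q, x⁻¹ * q * x ∈ Q := by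
    intro q hq
    have h1 : (x * x)⁻¹ * q * (x * x) ∈ Q := Q.mul_mem (Q.mul_mem (Q.inv_mem hx2) hq) hx2
    have h2 := hnorm _ h1
    have e : x * ((x * x)⁻¹ * q * (x * x)) * x⁻¹ = x⁻¹ * q * x := by group
    rw [e] at h2
    exact h2
  -- the subgroup `Q ∪ Q x⁻¹`
  let R' : Subgroup G :=
    { carrier := {b | b ∈ Q ∨ b * x ∈ Q}
      one_mem' := Or.inl Q.one_mem
      mul_mem' := by
        rintro a b (ha | ha) (hb | hb)
        · exact Or.inl (Q.mul_mem ha hb)
        · right
          rw [mul_assoc]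
          exact Q.mul_mem ha hb
        · right
          have h1 := hnorm' b hb
          have e : a * b * x = (a * x) * (x⁻¹ * b * x) := by group
          rw [e]
          exact Q.mul_mem ha h1
        · left
          have h1 : x⁻¹ * (b * x) * x ∈ Q := hnorm' _ hb
          have h2 : x⁻¹ * (b * x) * x * (x * x)⁻¹ ∈ Q := Q.mul_mem h1 (Q.inv_mem hx2)
          have e : a * b = (a * x) * (x⁻¹ * (b * x) * x * (x * x)⁻¹) := by group
          rw [e]
          exact Q.mul_mem ha h2
      inv_mem' := by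
        rintro a (ha | ha)
        · exact Or.inl (Q.inv_mem ha)
        · right
          have h1 : x * (a * x)⁻¹ * x⁻¹ ∈ Q := hnorm _ (Q.inv_mem ha)
          have e : a⁻¹ * x = (x * (a * x)⁻¹ * x⁻¹) * (x * x) := by group
          rw [e]
          exact Q.mul_mem h1 hx2 }
  have hR' : Q ⊔ Subgroup.zpowers x ≤ R' := by
    rw [sup_le_iff]
    refine ⟨fun q hq => Or.inl hq, ?_⟩
    rw [Subgroup.zpowers_le]
    exact Or.inr hx2
  have hxR : x ∈ Q ⊔ Subgroup.zpowers x := (le_sup_right : Subgroup.zpowers x ≤ _) (Subgroup.mem_zpowers x)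
  rw [Subgroup.index_eq_two_iff]
  refine ⟨⟨x, hxR⟩, fun b => ?_⟩
  have hb := hR' b.2
  rw [Subgroup.mem_subgroupOf, Subgroup.mem_subgroupOf]
  show Xor ((b : G) * x ∈ Q) ((b : G) ∈ Q)
  rcases hb with hb | hb
  · right
    refine ⟨hb, fun h => hxQ ?_⟩
    have : x = (b : G)⁻¹ * ((b : G) * x) := by group
    rw [this]
    exact Q.mul_mem (Q.inv_mem hb) h
  · left
    refine ⟨hb, fun h => hxQ ?_⟩
    have : x = (b : G)⁻¹ * ((b : G) * x) := by group
    rw [this]
    exact Q.mul_mem (Q.inv_mem h) hb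

/-- An element of `2`-power order outside `E` has a `2`-power power outside `E` whose square lies in `E`. -/
theorem exists_pow_not_mem_sq_mem (E : Subgroup G) (g : G) (hg : g ∉ E) (s : ℕ) (hs : g ^ 2 ^ s = 1) :
    ∃ i : ℕ, g ^ 2 ^ i ∉ E ∧ g ^ 2 ^ i * g ^ 2 ^ i ∈ E := by
  classical
  have hex : ∃ i, g ^ 2 ^ i ∈ E := ⟨s, by rw [hs]; exact E.one_mem⟩
  have hspec := Nat.find_spec hex
  set i0 := Nat.find hex with hi0
  have hpos : i0 ≠ 0 := by
    intro h0
    rw [h0] at hspec
    simp at hspec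
    exact hg hspec
  obtain ⟨j, hj⟩ := Nat.exists_eq_succ_of_ne_zero hpos
  refine ⟨j, Nat.find_min hex (m := j) (by omega), ?_⟩
  rw [← pow_add, ← two_mul, ← pow_succ', ← Nat.succ_eq_add_one, ← hj]
  exact hspec

/-- A subgroup of order `4` containing distinct nontrivial `y`, `z` with `y² = 1` consists of `1, y, z, yz`. -/
theorem mem_four (Q : Subgroup G) (hQ : Nat.card Q = 4) {y z : G} (hy : y ∈ Q) (hz : z ∈ Q) (hy1 : y ≠ 1)
    (hz1 : z ≠ 1) (hyz : y ≠ z) (hy2 : y * y = 1) :
    ∀ q ∈ Q, q = 1 ∨ q = y ∨ q = z ∨ q = y * z := by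
  classical
  haveI : Finite Q := Nat.finite_of_card_ne_zero (by rw [hQ]; norm_num)
  letI : Fintype Q := Fintype.ofFinite Q
  let s : Finset Q := {1, ⟨y, hy⟩, ⟨z, hz⟩, ⟨y * z, Q.mul_mem hy hz⟩}
  have hyz1 : y * z ≠ 1 := by
    intro h
    apply hyz
    calc y = y * (y * z) := by rw [h, mul_one]
      _ = (y * y) * z := by group
      _ = z := by rw [hy2, one_mul]
  have hyzy : y * z ≠ y := by
    intro h
    apply hz1
    calc z = y⁻¹ * (y * z) := by group
      _ = y⁻¹ * y := by rw [h]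
      _ = 1 := by group
  have hyzz : y * z ≠ z := by
    intro h
    apply hy1
    calc y = (y * z) * z⁻¹ := by group
      _ = z * z⁻¹ := by rw [h]
      _ = 1 := by group
  have hcard : s.card = 4 := by
    have h1 : (1 : Q) ≠ ⟨y, hy⟩ := fun h => hy1 (congrArg Subtype.val h).symm
    have h2 : (1 : Q) ≠ ⟨z, hz⟩ := fun h => hz1 (congrArg Subtype.val h).symm
    have h3 : (1 : Q) ≠ ⟨y * z, Q.mul_mem hy hz⟩ := fun h => hyz1 (congrArg Subtype.val h).symm
    have h4 : (⟨y, hy⟩ : Q) ≠ ⟨z, hz⟩ := fun h => hyz (congrArg Subtype.val h)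
    have h5 : (⟨y, hy⟩ : Q) ≠ ⟨y * z, Q.mul_mem hy hz⟩ := fun h => hyzy (congrArg Subtype.val h).symm
    have h6 : (⟨z, hz⟩ : Q) ≠ ⟨y * z, Q.mul_mem hy hz⟩ := fun h => hyzz (congrArg Subtype.val h).symm
    simp only [s]
    rw [Finset.card_insert_of_notMem, Finset.card_insert_of_notMem, Finset.card_insert_of_notMem,
      Finset.card_singleton]
    · simpa using h6
    · simp only [Finset.mem_insert, Finset.mem_singleton, not_or]
      exact ⟨h4, h5⟩
    · simp only [Finset.mem_insert, Finset.mem_singleton, not_or]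
      exact ⟨h1, h2, h3⟩
  have huniv : s = Finset.univ := by
    apply Finset.eq_univ_of_card
    rw [hcard, ← Nat.card_eq_fintype_card, hQ]
  intro q hq
  have hmem : (⟨q, hq⟩ : Q) ∈ s := by rw [huniv]; exact Finset.mem_univ _
  simp only [s, Finset.mem_insert, Finset.mem_singleton] at hmem
  rcases hmem with h | h | h | h
  · exact Or.inl (congrArg Subtype.val h)
  · exact Or.inr (Or.inl (congrArg Subtype.val h))
  · exact Or.inr (Or.inr (Or.inl (congrArg Subtype.val h)))
  · exact Or.inr (Or.inr (Or.inr (congrArg Subtype.val h)))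

/-- A four-group `Q` normalized, but not centralized, by an element `n` with `n² ∈ Q` yields a dihedral group of order `8`:
an element `ρ` of order `4` inverted by an involution. -/
theorem exists_dihedral_of_four (Q : Subgroup G) (hQ : Nat.card Q = 4) (hexp : ∀ q ∈ Q, q * q = 1)
    (n y : G) (hy : y ∈ Q) (hnorm : ∀ q ∈ Q, n * q * n⁻¹ ∈ Q) (hn2 : n * n ∈ Q)
    (hne : y⁻¹ * (n * y * n⁻¹) ≠ 1) :
    orderOf y = 2 ∧ ((orderOf n = 4 ∧ y * n * y⁻¹ = n⁻¹) ∨ (orderOf (n * y) = 4 ∧ y * (n * y) * y⁻¹ = (n * y)⁻¹)) := by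
  have hcomm : ∀ a ∈ Q, ∀ b ∈ Q, a * b = b * a := by
    intro a ha b hb
    have h1 := hexp _ (Q.mul_mem ha hb)
    have h2 := hexp a ha
    have h3 := hexp b hb
    calc a * b = a * ((a * b) * (a * b)) * b := by rw [h1, mul_one]
      _ = (a * a) * (b * a) * (b * b) := by group
      _ = b * a := by rw [h2, h3, one_mul, mul_one]
  have hy2 : y * y = 1 := hexp y hy
  have hyinv : y⁻¹ = y := by
    rw [inv_eq_iff_mul_eq_one]; exact hy2
  set z := y⁻¹ * (n * y * n⁻¹) with hz
  have hzQ : z ∈ Q := Q.mul_mem (Q.inv_mem hy) (hnorm y hy)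
  have hy1 : y ≠ 1 := by
    intro h
    apply hne
    rw [hz, h]; group
  have hz2 : z * z = 1 := hexp z hzQ
  -- `n y n⁻¹ = y z`
  have hny : n * y * n⁻¹ = y * z := by rw [hz]; group
  have hyz : y ≠ z := by
    intro h
    have h1 : n * y * n⁻¹ = 1 := by rw [hny, ← h, hy2]
    apply hy1
    have : y = n⁻¹ * (n * y * n⁻¹) * n := by group
    rw [this, h1]; group
  -- `n z n⁻¹ = z`
  have hn2c : (n * n) * y = y * (n * n) := hcomm _ hn2 _ hy
  have hnz : n * z * n⁻¹ = z := by
    have h1 : n * z * n⁻¹ = (n * y * n⁻¹)⁻¹ * (n * (n * y * n⁻¹) * n⁻¹) := by rw [hz]; group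
    have h2 : n * (n * y * n⁻¹) * n⁻¹ = y := by
      calc n * (n * y * n⁻¹) * n⁻¹ = ((n * n) * y) * (n * n)⁻¹ := by group
        _ = (y * (n * n)) * (n * n)⁻¹ := by rw [hn2c]
        _ = y := by group
    rw [h1, h2, hny]
    have h3 : (y * z)⁻¹ * y = z⁻¹ := by group
    rw [h3, inv_eq_iff_mul_eq_one]
    exact hz2
  -- `n² ∈ {1, z}`
  have hfour := mem_four Q hQ hy hzQ hy1 hne hyz hy2
  have hn2' : n * n = 1 ∨ n * n = z := by
    have hfix : n * (n * n) * n⁻¹ = n * n := by group
    rcases hfour _ hn2 with h | h | h | h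
    · exact Or.inl h
    · exfalso
      rw [h, hny] at hfix
      apply hne
      calc z = y⁻¹ * (y * z) := by group
        _ = y⁻¹ * y := by rw [hfix]
        _ = 1 := by group
    · exact Or.inr h
    · exfalso
      rw [h] at hfix
      have h1 : n * (y * z) * n⁻¹ = (n * y * n⁻¹) * (n * z * n⁻¹) := by group
      rw [h1, hny, hnz] at hfix
      apply hne
      calc z = (y * z)⁻¹ * (y * z * z) := by group
        _ = (y * z)⁻¹ * (y * z) := by rw [hfix]
        _ = 1 := by group
  have hyord : orderOf y = 2 := by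
    haveI : Fact (Nat.Prime 2) := ⟨Nat.prime_two⟩
    exact orderOf_eq_prime (by rw [pow_two]; exact hy2) hy1
  refine ⟨hyord, ?_⟩
  haveI : Fact (Nat.Prime 2) := ⟨Nat.prime_two⟩
  rcases hn2' with h | h
  · -- `n² = 1`: `ρ = n y`
    right
    have hsq : (n * y) * (n * y) = z := by
      calc (n * y) * (n * y) = (n * y * n⁻¹) * (n * n) * y := by group
        _ = (y * z) * y := by rw [hny, h, mul_one]
        _ = z * (y * y) := by rw [hcomm y hy z hzQ]; group
        _ = z := by rw [hy2, mul_one]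
    constructor
    · have h1 : ¬ (n * y) ^ 2 ^ 1 = 1 := by
        rw [pow_one, pow_two, hsq]; exact hne
      have h2 : (n * y) ^ 2 ^ (1 + 1) = 1 := by
        have : (n * y) ^ 2 ^ (1 + 1) = ((n * y) * (n * y)) * ((n * y) * (n * y)) := by
          norm_num [pow_succ]; group
        rw [this, hsq, hz2]
      have := orderOf_eq_prime_pow h1 h2
      simpa using this
    · have hninv : n⁻¹ = n := by rw [inv_eq_iff_mul_eq_one]; exact h
      calc y * (n * y) * y⁻¹ = y * n := by group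
        _ = y⁻¹ * n⁻¹ := by rw [hyinv, hninv]
        _ = (n * y)⁻¹ := by group
  · -- `n² = z`: `ρ = n`
    left
    constructor
    · have h1 : ¬ n ^ 2 ^ 1 = 1 := by
        rw [pow_one, pow_two, h]; exact hne
      have h2 : n ^ 2 ^ (1 + 1) = 1 := by
        have : n ^ 2 ^ (1 + 1) = (n * n) * (n * n) := by
          norm_num [pow_succ]; group
        rw [this, h, hz2]
      have := orderOf_eq_prime_pow h1 h2
      simpa using this
    · -- `y n y⁻¹ = n⁻¹`
      have h1 : n * y = y * z * n := by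
        calc n * y = (n * y * n⁻¹) * n := by group
          _ = y * z * n := by rw [hny]
      calc y * n * y⁻¹ = y * (n * y) := by rw [hyinv, mul_assoc]
        _ = y * (y * z * n) := by rw [h1]
        _ = (y * y) * z * n := by group
        _ = z * n := by rw [hy2, one_mul]
        _ = (n * n) * n := by rw [h]
        _ = n⁻¹ * ((n * n) * (n * n)) := by group
        _ = n⁻¹ := by rw [h, hz2, mul_one]

end Cfsg.Agent.Helper85.MetaSC
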