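-- S5235 / S5212 fusion glue (helper85): a strongly closed metacyclic 2-subgroup that is not dihedral, semidihedral or
-- generalized quaternion lies in every essential subgroup.
import Cfsg.Agent.Helper85.MetaAux
import Cfsg.Agent.Helper85.MetaAux2
import Cfsg.Agent.Helper65.MetaTwoA
import Cfsg.Agent.Helper49.MetaTwoB
import Cfsg.Agent.Helper35.MetaTwoC
import Cfsg.Agent.Helper87.FusionNormal
import Cfsg.Agent.Helper87.FusionSeries
import Cfsg.Agent.Helper63.Frattini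
import Cfsg.Agent.S5080
import Cfsg.Agent.Lib.Cores

set_option autoImplicit false

namespace Cfsg.Agent.Helper85.MetaSC

open Cfsg Cfsg.FusionSystem Cfsg.Agent.Helper87

variable {Ω : Type*} [Group Ω] {S : Subgroup Ω}

/-- Conjugation by an element of `N_S(E) \ E`, for `E` centric radical, lies in no normal `p`-subgroup of `Aut_F(E)`. -/
theorem conjAut_not_mem_of_normal_pGroup {p : ℕ} [Fact p.Prime] (F : FusionSystem S) {E : Subgroup Ω}
    (hrad : F.IsRadical p E) (hcen : centralizerIn S E ≤ E) {n : Ω} (hnS : n ∈ S)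
    (hnN : n ∈ Subgroup.normalizer (E : Set Ω)) (hnE : n ∉ E)
    (K' : Subgroup (MulAut E)) (hK'le : K' ≤ F.autGroup E)
    (hK'n : ∀ α ∈ K', ∀ γ ∈ F.autGroup E, γ * α * γ⁻¹ ∈ K') (hK'p : IsPGroup p K') :
    conjAut E n hnN ∉ K' := by
  intro hmem
  have hES := hrad.1
  have hnorm : (K'.subgroupOf (F.autGroup E)).Normal := subgroupOf_normal_of_conj hK'n
  have hle : K'.subgroupOf (F.autGroup E) ≤ pCore p (F.autGroup E) :=
    Cfsg.Agent.Lib.le_pCore hnorm hK'p.comap_subtype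
  have h1 : (⟨conjAut E n hnN, hK'le hmem⟩ : F.autGroup E) ∈ pCore p (F.autGroup E) :=
    hle (Subgroup.mem_subgroupOf.mpr hmem)
  have h2 : conjAut E n hnN ∈ (pCore p (F.autGroup E)).map (F.autGroup E).subtype := ⟨_, h1, rfl⟩
  rw [hrad.2] at h2
  obtain ⟨r, hr⟩ := h2
  apply hnE
  refine mem_of_conj_eq_inner hcen hnS hES r (fun x => ?_)
  have := congrArg (fun f : MulAut E => ((f x : E) : Ω)) hr
  simpa [conjAut_apply] using this

/-- the two copies of `P ∩ E` -/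
def infEquiv (P E : Subgroup Ω) : ↥(P.subgroupOf E) ≃* ↥(E.subgroupOf P) where
  toFun x := ⟨⟨(x : Ω), x.2⟩, x.1.2⟩
  invFun x := ⟨⟨(x : Ω), x.2⟩, x.1.2⟩
  left_inv _ := rfl
  right_inv _ := rfl
  map_mul' _ _ := rfl

theorem infEquiv_coe (P E : Subgroup Ω) (t : ↥(P.subgroupOf E)) :
    (((infEquiv P E t : ↥(E.subgroupOf P)) : P) : Ω) = ((t : E) : Ω) := rfl

theorem infEquiv_symm_coe (P E : Subgroup Ω) (t : ↥(E.subgroupOf P)) :
    ((((infEquiv P E).symm t : ↥(P.subgroupOf E)) : E) : Ω) = ((t : P) : Ω) := rfl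

theorem le_essential_of_metacyclic [Finite S] (hS : IsPGroup 2 S) (F : FusionSystem S) (hF : F.IsSaturated 2)
    {P : Subgroup Ω} (hP : F.StronglyClosed P) (hm : IsMetacyclic ↥P)
    (hex : ¬ ((∃ m : ℕ, Nonempty (↥P ≃* DihedralGroup m)) ∨ (∃ m : ℕ, Nonempty (↥P ≃* QuaternionGroup m)) ∨
      IsQuasiDihedral ↥P))
    {E : Subgroup Ω} (hE : F.IsEssential 2 E) : P ≤ E := by
  by_contra hPE
  haveI : Fact (Nat.Prime 2) := ⟨Nat.prime_two⟩
  have hPS : P ≤ S := hP.1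
  have hES : E ≤ S := hE.1.1
  have hcen : centralizerIn S E ≤ E := hE.1.2 E (isConj_refl F hES)
  haveI : Finite E := finite_of_le hES
  haveI : Finite P := finite_of_le hPS
  haveI : Finite (MulAut E) := MulEquiv.finite_left
  have hP2 : IsPGroup 2 P := hS.to_le hPS
  have hSN : S ≤ Subgroup.normalizer (P : Set Ω) := le_normalizer_of_stronglyClosed F hP
  have hrad : F.IsRadical 2 E := Cfsg.Agent.S5080.result 2 hS F hF E hE
  have hconjP : ∀ s ∈ S, ∀ x ∈ P, s * x * s⁻¹ ∈ P := by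
    intro s hs x hx
    exact (Subgroup.mem_normalizer_iff.mp (hSN hs) x).mp hx
  -- invariance of `P ∩ E` under `Aut_F(E)`
  have hinvP : ∀ α ∈ F.autGroup E, ∀ x : E, (x : Ω) ∈ P → ((α x : E) : Ω) ∈ P := by
    intro α hα x hx
    have hαiso := (mem_autGroup_iff F hES α).mp hα
    have h1 := restrict_mem F hαiso (inf_le_right : P ⊓ E ≤ E)
    exact hP.2 (P ⊓ E) inf_le_left _ h1 ⟨x, hx, x.2⟩
  set 𝔄 := F.autGroup E with h𝔄
  set Q : Subgroup E := P.subgroupOf E with hQdef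
  have hQ2 : IsPGroup 2 Q := hP2.comap_subtype
  have hQinv : ∀ γ ∈ 𝔄, ∀ x ∈ Q, γ x ∈ Q := fun γ hγ x hx => hinvP γ hγ x hx
  have hTop : ∀ γ ∈ 𝔄, ∀ x ∈ (⊤ : Subgroup E), γ x ∈ (⊤ : Subgroup E) := fun _ _ _ _ => Subgroup.mem_top _
  -- an element `n ∈ N_P(E) \ E` with `n² ∈ E`
  obtain ⟨n0, hn0P, hn0N, hn0E⟩ := exists_mem_normalizer_not_mem hS hES hPS (hES.trans hSN) hPE
  obtain ⟨s0, hs0⟩ := hP2 ⟨n0, hn0P⟩
  have hs0' : n0 ^ 2 ^ s0 = 1 := by
    have := congrArg Subtype.val hs0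
    simpa using this
  obtain ⟨i, hiE, hi2⟩ := exists_pow_not_mem_sq_mem E n0 hn0E s0 hs0'
  set n := n0 ^ 2 ^ i with hn
  have hnP : n ∈ P := P.pow_mem hn0P _
  have hnN : n ∈ Subgroup.normalizer (E : Set Ω) := (Subgroup.normalizer (E : Set Ω)).pow_mem hn0N _
  have hnE : n ∉ E := hiE
  have hn2 : n * n ∈ E := hi2
  have hnS : n ∈ S := hPS hnP
  set cn := conjAut E n hnN with hcn
  have hcnA : cn ∈ 𝔄 := (mem_autGroup_iff F hES cn).mpr (isIso_conjAut F hES hnS hnN)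
  -- `K`: automorphisms acting trivially on `E / (P ∩ E)`
  set K := stab 𝔄 ⊤ Q hTop with hK
  have hcnQ : ∀ x : E, x⁻¹ * cn x ∈ Q := by
    intro x
    show ((x⁻¹ * cn x : E) : Ω) ∈ P
    have h1 : (x : Ω)⁻¹ * n * ((x : Ω)⁻¹)⁻¹ ∈ P := hconjP _ (S.inv_mem (hES x.2)) n hnP
    have e : ((x⁻¹ * cn x : E) : Ω) = ((x : Ω)⁻¹ * n * ((x : Ω)⁻¹)⁻¹) * n⁻¹ := by
      simp only [Subgroup.coe_mul, Subgroup.coe_inv, hcn, conjAut_apply]
      group
    rw [e]
    exact P.mul_mem h1 (P.inv_mem hnP)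
  have hcnK : cn ∈ K := ⟨hcnA, fun x _ => hcnQ x⟩
  have hKn : ∀ α ∈ K, ∀ γ ∈ 𝔄, γ * α * γ⁻¹ ∈ K := fun α hα γ hγ => stab_conj_mem hQinv hα hγ
  have hKnot : ¬ IsPGroup 2 K := fun h =>
    conjAut_not_mem_of_normal_pGroup F hrad hcen hnS hnN hnE K stab_le hKn h hcnK
  -- an element of odd prime order in `K`
  obtain ⟨r, hrp, hrdvd, hrodd⟩ : ∃ r, Nat.Prime r ∧ r ∣ Nat.card K ∧ Odd r := by
    rcases Nat.eq_two_pow_or_exists_odd_prime_and_dvd (Nat.card K) with ⟨k, hk⟩ | h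
    · exact absurd (IsPGroup.of_card hk) hKnot
    · exact h
  haveI : Fact r.Prime := ⟨hrp⟩
  obtain ⟨⟨α, hαK⟩, hαord⟩ := exists_prime_orderOf_dvd_card' r hrdvd
  have hαord' : orderOf α = r := by
    rw [← hαord]
    exact (Subgroup.orderOf_mk α hαK).symm
  have hαA : α ∈ 𝔄 := hαK.1
  have hαQ : ∀ x ∈ Q, α x ∈ Q := hQinv α hαA
  have hα1 : ∀ x : E, x⁻¹ * α x ∈ Q := fun x => hαK.2 x (Subgroup.mem_top _)
  set β := restrAut Q α hαQ with hβ
  have hr2 : r ≠ 2 := by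
    rintro rfl
    exact absurd hrodd (by decide)
  -- `β ≠ 1`
  have hβ1 : β ≠ 1 := by
    intro h1
    have hfix : ∀ x ∈ Q, α x = x := by
      intro x hx
      have := congrArg (fun f : MulAut Q => ((f ⟨x, hx⟩ : Q) : E)) h1
      simpa [hβ] using this
    obtain ⟨k, hk⟩ := exists_pow_eq_one_of_stab Q hQ2 α hαQ hα1 (fun x hx => by
      rw [hfix x hx, inv_mul_cancel]; exact Subgroup.one_mem _)
    have h3 : r ∣ 2 ^ k := by
      rw [← hαord']; exact orderOf_dvd_of_pow_eq_one hk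
    have h4 := (Nat.prime_dvd_prime_iff_eq hrp Nat.prime_two).mp (hrp.dvd_of_dvd_pow h3)
    exact hr2 h4
  have hβr : β ^ r = 1 := by
    refine MulEquiv.ext (fun x => Subtype.ext ?_)
    have h3 := restrAut_pow_apply Q α hαQ r x
    rw [← hβ] at h3
    rw [h3, ← hαord', pow_orderOf_eq_one]
    rfl
  have hβord : orderOf β = r := orderOf_eq_prime hβr hβ1
  have hβodd : Odd (orderOf β) := by rw [hβord]; exact hrodd
  -- `P ∩ E` is metacyclic
  have hQm : IsMetacyclic ↥Q :=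
    isMetacyclic_of_mulEquiv (infEquiv P E).symm (isMetacyclic_subgroup hm (E.subgroupOf P))
  rcases Cfsg.Agent.Helper65.MetaTwoA.metacyclic_two_odd_aut hQ2 hQm β hβodd hβ1 with
    ⟨x, y, hx4, hinv, hsq⟩ | ⟨hab, m, hm1, hcard, hexp⟩
  · -- a quaternion group of order 8 inside `P`
    apply hex
    let ρ' : P := ⟨((x : E) : Ω), x.2⟩
    let y' : P := ⟨((y : E) : Ω), y.2⟩
    have hρ4 : orderOf ρ' = 4 := by
      have h1 : orderOf ((x : E) : Ω) = 4 := by
        rw [Subgroup.orderOf_coe, Subgroup.orderOf_coe]; exact hx4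
      rw [← h1]
      exact (Subgroup.orderOf_mk _ _)
    have hinv' : y' * ρ' * y'⁻¹ = ρ'⁻¹ := by
      apply Subtype.ext
      have := congrArg (fun t : Q => ((t : E) : Ω)) hinv
      simpa [ρ', y'] using this
    have hsq' : y' ^ 2 = ρ' ^ 2 := by
      apply Subtype.ext
      have := congrArg (fun t : Q => ((t : E) : Ω)) hsq
      simpa [ρ', y'] using this
    exact Cfsg.Agent.Helper35.MetaTwoC.metacyclic_two_maximal_class hP2 hm ρ' y' hρ4 hinv' (Or.inr hsq')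
  · -- the homocyclic case
    -- `K₀`: automorphisms in `K` acting trivially on `Q / Φ(Q)`
    set ΦQ : Subgroup E := (frattini ↥Q).map Q.subtype with hΦQ
    have hΦinv : ∀ γ ∈ 𝔄, ∀ x ∈ ΦQ, γ x ∈ ΦQ := by
      rintro γ hγ _ ⟨w, hw, rfl⟩
      refine ⟨restrAut Q γ (hQinv γ hγ) w, ?_, rfl⟩
      have hchar := (Subgroup.characteristic_iff_map_le.mp
        (inferInstance : (frattini ↥Q).Characteristic)) (restrAut Q γ (hQinv γ hγ))
      exact hchar ⟨w, hw, rfl⟩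
    set K1 := stab 𝔄 Q ΦQ hQinv with hK1
    set K0 := K ⊓ K1 with hK0
    have hK0n : ∀ α ∈ K0, ∀ γ ∈ 𝔄, γ * α * γ⁻¹ ∈ K0 := fun α hα γ hγ =>
      ⟨stab_conj_mem hQinv hα.1 hγ, stab_conj_mem hΦinv hα.2 hγ⟩
    have hK0p : IsPGroup 2 K0 := by
      rintro ⟨δ, hδ⟩
      obtain ⟨k, hk⟩ := exists_pow_eq_one_of_stab Q hQ2 δ (hQinv δ hδ.1.1)
        (fun x => hδ.1.2 x (Subgroup.mem_top _)) (fun x hx => hδ.2.2 x hx)
      exact ⟨k, Subtype.ext (by simpa using hk)⟩
    have hcnK0 : cn ∉ K0 :=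
      conjAut_not_mem_of_normal_pGroup F hrad hcen hnS hnN hnE K0 (inf_le_left.trans stab_le) hK0n hK0p
    -- an element `y ∈ Q` moved nontrivially modulo `Φ(Q)`
    obtain ⟨y, hyQ, hyΦ⟩ : ∃ y ∈ Q, y⁻¹ * cn y ∉ ΦQ := by
      by_contra hno
      push Not at hno
      exact hcnK0 ⟨hcnK, hcnA, hno⟩
    -- the subgroup `R = (P ∩ E)⟨n⟩` of `P`
    set QP : Subgroup P := E.subgroupOf P with hQP
    set nP : P := ⟨n, hnP⟩ with hnPdef
    have hnQP : nP ∉ QP := fun h => hnE h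
    have hn2QP : nP * nP ∈ QP := hn2
    have hnormQP : ∀ q ∈ QP, nP * q * nP⁻¹ ∈ QP := by
      intro q hq
      show ((nP * q * nP⁻¹ : P) : Ω) ∈ E
      have := (Subgroup.mem_normalizer_iff.mp hnN (q : Ω)).mp hq
      simpa using this
    set R : Subgroup P := QP ⊔ Subgroup.zpowers nP with hR
    have hidx := index_sup_zpowers_eq_two QP nP hnQP hn2QP hnormQP
    have hQPR : QP ≤ R := le_sup_left
    have hnR : nP ∈ R := (le_sup_right : Subgroup.zpowers nP ≤ R) (Subgroup.mem_zpowers nP)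
    have hRm : IsMetacyclic ↥R := isMetacyclic_subgroup hm R
    have hR2 : IsPGroup 2 R := hP2.to_subgroup R
    -- transfer of the data on `Q` to `QP.subgroupOf R`
    let e1 : ↥(QP.subgroupOf R) ≃* ↥Q :=
      (Subgroup.subgroupOfEquivOfLe hQPR).trans (infEquiv P E).symm
    have he1 : ∀ t : ↥(QP.subgroupOf R), (((e1 t : Q) : E) : Ω) = (((t : R) : P) : Ω) := fun t => rfl
    have habR : ∀ a ∈ QP.subgroupOf R, ∀ b ∈ QP.subgroupOf R, a * b = b * a := by
      intro a ha b hb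
      have h1 := hab (e1 ⟨a, ha⟩) (e1 ⟨b, hb⟩)
      have h2 := congrArg (fun t : Q => ((t : E) : Ω)) h1
      apply Subtype.ext
      apply Subtype.ext
      simp only [Subgroup.coe_mul, he1] at h2
      simpa using h2
    have hcardR : Nat.card ↥(QP.subgroupOf R) = 4 ^ m := by
      rw [Nat.card_congr e1.toEquiv, hcard]
    have hexpR : ∀ q ∈ QP.subgroupOf R, q ^ 2 ^ m = 1 := by
      intro q hq
      have h1 := hexp (e1 ⟨q, hq⟩)
      have h2 := congrArg (fun t : Q => ((t : E) : Ω)) h1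
      apply Subtype.ext
      apply Subtype.ext
      simp only [Subgroup.coe_pow, Subgroup.coe_one, he1] at h2
      simpa using h2
    let xR : R := ⟨nP, hnR⟩
    let yR : R := ⟨⟨((y : E) : Ω), hyQ⟩, hQPR (show ((y : E) : Ω) ∈ E from y.2)⟩
    have hyR : yR ∈ QP.subgroupOf R := show ((y : E) : Ω) ∈ E from y.2
    have hxy : ¬ ∃ q ∈ QP.subgroupOf R, yR⁻¹ * (xR * yR * xR⁻¹) = q ^ 2 := by
      rintro ⟨q, hq, hqe⟩
      apply hyΦ
      -- `y⁻¹ cn(y)` is the square of the element of `Q` corresponding to `q`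
      set q' : Q := e1 ⟨q, hq⟩ with hq'
      have h1 : y⁻¹ * cn y = ((q' ^ 2 : Q) : E) := by
        apply Subtype.ext
        have h2 := congrArg (fun t : R => ((t : P) : Ω)) hqe
        simp only [Subgroup.coe_mul, Subgroup.coe_inv, Subgroup.coe_pow, hcn, conjAut_apply, hq', he1]
        simpa [xR, yR, nP] using h2
      rw [h1]
      exact ⟨q' ^ 2, Cfsg.Agent.Helper63.pow_prime_mem_frattini hQ2 q', rfl⟩
    have hm1' : m = 1 :=
      Cfsg.Agent.Helper49.MetaTwoB.metacyclic_index_two_homocyclic hR2 hRm (QP.subgroupOf R) hidx habR m hm1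
        hcardR hexpR xR yR hyR hxy
    subst hm1'
    -- now `P ∩ E` is a four-group: a dihedral group of order 8 inside `P`
    have hcardQP : Nat.card QP = 4 := by
      rw [Nat.card_congr (infEquiv P E).symm.toEquiv, hcard]; norm_num
    have hexpQP : ∀ q ∈ QP, q * q = 1 := by
      intro q hq
      have h1 := hexp ((infEquiv P E).symm ⟨q, hq⟩)
      have h2 := congrArg (fun t : Q => ((t : E) : Ω)) h1
      apply Subtype.ext
      have h3 : ((q : P) : Ω) ^ 2 = 1 := by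
        simp only [Subgroup.coe_pow, Subgroup.coe_one, infEquiv_symm_coe] at h2
        simpa using h2
      rw [pow_two] at h3
      simpa using h3
    let yP : P := ⟨((y : E) : Ω), hyQ⟩
    have hyP : yP ∈ QP := show ((y : E) : Ω) ∈ E from y.2
    have hneP : yP⁻¹ * (nP * yP * nP⁻¹) ≠ 1 := by
      intro h
      apply hyΦ
      have h1 : y⁻¹ * cn y = 1 := by
        apply Subtype.ext
        have h2 := congrArg (fun t : P => (t : Ω)) h
        simp only [Subgroup.coe_mul, Subgroup.coe_inv, hcn, conjAut_apply]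
        simpa [yP, nP] using h2
      rw [h1]
      exact Subgroup.one_mem _
    obtain ⟨hy2, hcase⟩ := exists_dihedral_of_four QP hcardQP hexpQP nP yP hyP hnormQP hn2QP hneP
    have hyP1 : yP ^ 2 = 1 := by rw [← hy2]; exact pow_orderOf_eq_one yP
    apply hex
    rcases hcase with ⟨h4, hinv⟩ | ⟨h4, hinv⟩
    · exact Cfsg.Agent.Helper35.MetaTwoC.metacyclic_two_maximal_class hP2 hm nP yP h4 hinv (Or.inl hyP1)
    · exact Cfsg.Agent.Helper35.MetaTwoC.metacyclic_two_maximal_class hP2 hm (nP * yP) yP h4 hinv (Or.inl hyP1)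

end Cfsg.Agent.Helper85.MetaSC
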