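-- Normal subsystems of the fusion system of a group: conjugation maps of a subsystem, group-element forms of the
-- invariance, Frattini and extension conditions (helper85; for S5121).
import Cfsg.Agent.Helper85.GroupFusion
import Cfsg.Agent.Helper85.Basic
import Cfsg.Agent.Helper87.FusionBasic

set_option autoImplicit false

namespace Cfsg.Agent.Helper85.NS

open Cfsg Cfsg.FusionSystem Cfsg.Agent.Helper85

variable {G : Type*} [Group G] {S T : Subgroup G}

/-- Conjugation by `g` on `P` is a map of the system `E`. -/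
def EC (E : FusionSystem T) (g : G) (P : Subgroup G) : Prop := conjHom P g ∈ E.Hom P

theorem EC.le {E : FusionSystem T} {g : G} {P : Subgroup G} (h : EC E g P) : P ≤ T := (E.le_of_mem h).1

theorem EC.conj_mem {E : FusionSystem T} {g : G} {P : Subgroup G} (h : EC E g P) {x : G} (hx : x ∈ P) :
    g * x * g⁻¹ ∈ T := (E.le_of_mem h).2 ⟨x, hx⟩

theorem EC.cj_le {E : FusionSystem T} {g : G} {P : Subgroup G} (h : EC E g P) : cj g P ≤ T := by
  rintro _ ⟨x, hx, rfl⟩
  exact h.conj_mem hx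

theorem EC.mono {E : FusionSystem T} {g : G} {P R : Subgroup G} (h : EC E g P) (hR : R ≤ P) : EC E g R := by
  have h1 := restrict_mem E h hR
  exact Cfsg.Agent.Helper87.mem_of_eq E h1 (fun x => rfl)

theorem EC.congr {E : FusionSystem T} {g k : G} {P : Subgroup G} (h : EC E g P)
    (hk : ∀ x ∈ P, k * x * k⁻¹ = g * x * g⁻¹) : EC E k P :=
  Cfsg.Agent.Helper87.mem_of_eq E h (fun x => hk x x.2)

theorem EC.mul {E : FusionSystem T} {g k : G} {P Q : Subgroup G} (h₁ : EC E g P) (h₂ : EC E k Q)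
    (hQ : cj g P ≤ Q) : EC E (k * g) P := by
  have h3 := E.comp_mem h₁ h₂ (fun x => hQ (conj_mem_cj x.2))
  refine Cfsg.Agent.Helper87.mem_of_eq E h3 (fun x => ?_)
  show k * g * (x : G) * (k * g)⁻¹ = k * (g * (x : G) * g⁻¹) * k⁻¹
  group

theorem EC.inv {E : FusionSystem T} {g : G} {P : Subgroup G} (h : EC E g P) : EC E g⁻¹ (cj g P) := by
  obtain ⟨ψ, hψ, hψx⟩ := E.inv_mem h
  have hr : cj g P ≤ (conjHom P g).range := by rw [conjHom_range]
  have h1 := restrict_mem E hψ hr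
  refine Cfsg.Agent.Helper87.mem_of_eq E h1 (fun y => ?_)
  obtain ⟨x, hx, hxy⟩ := y.2
  have hy : (y : G) = g * x * g⁻¹ := hxy.symm
  have h2 := hψx ⟨x, hx⟩
  have e : Subgroup.inclusion hr y = ⟨conjHom P g ⟨x, hx⟩, ⟨⟨x, hx⟩, rfl⟩⟩ := Subtype.ext hy
  show g⁻¹ * (y : G) * g⁻¹⁻¹ = ψ (Subgroup.inclusion hr y)
  rw [e, h2, hy]
  group

theorem ec_of_mem (E : FusionSystem T) {t : G} (ht : t ∈ T) {P : Subgroup G} (hP : P ≤ T) : EC E t P :=
  E.conj_mem hP ht

theorem ec_one (E : FusionSystem T) {P : Subgroup G} (hP : P ≤ T) : EC E 1 P := ec_of_mem E T.one_mem hP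

/-- Every map of a subsystem of `F_S(G)` is a conjugation. -/
theorem exists_ec_of_mem {E : FusionSystem T} (hsub : E.IsSubsystemOf (groupFusionSystem S)) {P : Subgroup G}
    {φ : P →* G} (hφ : φ ∈ E.Hom P) : ∃ g : G, φ = conjHom P g ∧ EC E g P := by
  obtain ⟨-, -, g, hg⟩ := hsub P hφ
  have : φ = conjHom P g := MonoidHom.ext hg
  refine ⟨g, this, ?_⟩
  unfold EC
  rw [← this]
  exact hφ

/-- Conjugation maps of `F_T(H)`. -/
theorem ec_subgroup_iff (H : Subgroup G) (hTH : T ≤ H) (g : G) (P : Subgroup G) :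
    EC (fusionSystemOfSubgroup H T hTH) g P ↔ P ≤ T ∧ cj g P ≤ T ∧ ∃ h ∈ H, ∀ x ∈ P, g * x * g⁻¹ = h * x * h⁻¹ := by
  constructor
  · rintro ⟨hP, hT, h, hh, hx⟩
    refine ⟨hP, ?_, h, hh, fun x hxP => hx ⟨x, hxP⟩⟩
    rintro _ ⟨x, hxP, rfl⟩
    exact hT ⟨x, hxP⟩
  · rintro ⟨hP, hT, h, hh, hx⟩
    exact ⟨hP, fun x => hT (conj_mem_cj x.2), h, hh, fun x => hx x x.2⟩

end Cfsg.Agent.Helper85.NS
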