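-- Group-element forms of the conditions defining a normal subsystem of `F_S(G)` (helper85; for S5121).
import Cfsg.Agent.Helper85.NSBasic
import Cfsg.Agent.Helper88.FusionInvariant

set_option autoImplicit false

namespace Cfsg.Agent.Helper85.NS

open Cfsg Cfsg.FusionSystem Cfsg.Agent.Helper85 Cfsg.Agent.Helper87 Cfsg.Agent.Helper88.FS

variable {G : Type*} [Group G] {S T : Subgroup G}

/-- Strong closure, elementwise. -/
theorem sc_elt (hsc : (groupFusionSystem S).StronglyClosed T) {t g : G} (ht : t ∈ T) (h : g * t * g⁻¹ ∈ S) :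
    g * t * g⁻¹ ∈ T := by
  have hR : Subgroup.zpowers t ≤ T := by rw [Subgroup.zpowers_le]; exact ht
  have hφ : conjHom (Subgroup.zpowers t) g ∈ (groupFusionSystem S).Hom (Subgroup.zpowers t) := by
    refine ⟨hR.trans hsc.1, ?_, g, fun _ => rfl⟩
    rintro ⟨y, k, rfl⟩
    show g * t ^ k * g⁻¹ ∈ S
    have : g * t ^ k * g⁻¹ = (g * t * g⁻¹) ^ k := by rw [conj_zpow]
    rw [this]
    exact S.zpow_mem h k
  exact hsc.2 _ hR _ hφ ⟨t, Subgroup.mem_zpowers t⟩

/-- An automorphism of `T` in `F_S(G)` is conjugation by an element of `N_G(T)`. -/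
theorem exists_normalizer_of_mem_autGroup (hTS : T ≤ S) {α : MulAut T} (hα : α ∈ (groupFusionSystem S).autGroup T) :
    ∃ b ∈ Subgroup.normalizer (T : Set G), ∀ x : T, ((α x : T) : G) = b * x * b⁻¹ := by
  have h1 := (mem_autGroup_iff (groupFusionSystem S) hTS α).mp hα
  obtain ⟨-, -, b, hb⟩ := h1
  have hb' : ∀ x : T, ((α x : T) : G) = b * x * b⁻¹ := fun x => hb x
  refine ⟨b, ?_, hb'⟩
  rw [Subgroup.mem_normalizer_iff]
  intro h
  constructor
  · intro hh
    rw [← hb' ⟨h, hh⟩]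
    exact (α _).2
  · intro hh
    have h2 := hb' (α⁻¹ ⟨b * h * b⁻¹, hh⟩)
    rw [MulAut.apply_inv_self] at h2
    have h3 : h = ((α⁻¹ ⟨b * h * b⁻¹, hh⟩ : T) : G) := by
      have := mul_left_cancel (mul_right_cancel h2)
      exact this
    rw [h3]
    exact (α⁻¹ _).2

/-- Conjugation by an element of `N_G(T)` is an automorphism of `T` in `F_S(G)`. -/
theorem conjAut_mem_autGroup (hTS : T ≤ S) {b : G} (hb : b ∈ Subgroup.normalizer (T : Set G)) :
    conjAut T b hb ∈ (groupFusionSystem S).autGroup T := by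
  rw [mem_autGroup_iff _ hTS]
  exact ⟨hTS, fun x => hTS (conjAut T b hb x).2, b, fun x => rfl⟩

theorem imgT_conjAut {b : G} (hb : b ∈ Subgroup.normalizer (T : Set G)) {P : Subgroup G} (hP : P ≤ T) :
    imgT (conjAut T b hb) P = cj b P := by
  ext y
  rw [mem_imgT_iff]
  constructor
  · rintro ⟨x, hx, rfl⟩
    exact conj_mem_cj hx
  · rintro ⟨x, hx, rfl⟩
    exact ⟨⟨x, hP hx⟩, hx, rfl⟩

/-- Invariance: `E`-conjugation maps are carried to `E`-conjugation maps by `N_G(T)`. -/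
theorem ec_conj_of_normalizer {E : FusionSystem T} (hinv : E.IsInvariantIn (groupFusionSystem S)) {g : G}
    {P : Subgroup G} (h : EC E g P) {b : G} (hb : b ∈ Subgroup.normalizer (T : Set G)) :
    EC E (b * g * b⁻¹) (cj b P) := by
  have hTS : T ≤ S := hinv.2.1.1
  have hPT : P ≤ T := h.le
  obtain ⟨χ, hχ, hχx⟩ := exists_transport hinv hPT h (conjAut_mem_autGroup hTS hb)
  have heq : cj b P = imgT (conjAut T b hb) P := (imgT_conjAut hb hPT).symm
  have h1 := cast_mem E hχ heq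
  refine mem_of_eq E h1 (fun y => ?_)
  obtain ⟨x, hx, hxy⟩ := y.2
  have hy : (y : G) = b * x * b⁻¹ := hxy.symm
  have h2 := hχx ⟨x, hPT hx⟩ hx (apply_mem_imgT _ _ hx) (h.conj_mem hx)
  have e : Subgroup.inclusion heq.le y =
      ⟨((conjAut T b hb ⟨x, hPT hx⟩ : T) : G), apply_mem_imgT _ ⟨x, hPT hx⟩ hx⟩ := Subtype.ext hy
  show b * g * b⁻¹ * (y : G) * (b * g * b⁻¹)⁻¹ = χ (Subgroup.inclusion heq.le y)
  rw [e, h2, hy]
  show _ = b * (g * x * g⁻¹) * b⁻¹
  group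

/-- Frattini condition, for conjugation maps. -/
theorem exists_frattini {E : FusionSystem T} (hinv : E.IsInvariantIn (groupFusionSystem S))
    (hsub : E.IsSubsystemOf (groupFusionSystem S)) {P : Subgroup G} (hP : P ≤ T) {a : G} (ha : cj a P ≤ S) :
    ∃ b ∈ Subgroup.normalizer (T : Set G), ∃ g₀ : G, EC E g₀ P ∧
      ∀ x ∈ P, a * x * a⁻¹ = b * (g₀ * x * g₀⁻¹) * b⁻¹ := by
  have hTS : T ≤ S := hinv.2.1.1
  have hφ : conjHom P a ∈ (groupFusionSystem S).Hom P :=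
    ⟨hP.trans hTS, fun x => ha (conj_mem_cj x.2), a, fun _ => rfl⟩
  obtain ⟨α, hα, φ₀, hφ₀, hx⟩ := hinv.2.2.2 P hP _ hφ
  obtain ⟨b, hb, hbα⟩ := exists_normalizer_of_mem_autGroup hTS hα
  obtain ⟨g₀, rfl, hg₀⟩ := exists_ec_of_mem hsub hφ₀
  refine ⟨b, hb, g₀, hg₀, fun x hxP => ?_⟩
  have h1 := hx ⟨x, hxP⟩ (hg₀.conj_mem hxP)
  rw [hbα] at h1
  exact h1

end Cfsg.Agent.Helper85.NS
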