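-- Consequences of saturation and of the extension condition for a normal subsystem of `F_S(G)`, in group-element
-- form (helper85; for S5121).
import Cfsg.Agent.Helper85.NSNormal
import Cfsg.Agent.Helper87.FusionAlperin
import Cfsg.Agent.Helper87.FusionExtend

set_option autoImplicit false

namespace Cfsg.Agent.Helper85.NS

open Cfsg Cfsg.FusionSystem Cfsg.Agent.Helper85 Cfsg.Agent.Helper87

variable {G : Type*} [Group G] {S T : Subgroup G}

theorem conjAut_mem_autGroup_of_ec {E : FusionSystem T} {g : G} {R : Subgroup G} (h : EC E g R)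
    (hg : g ∈ Subgroup.normalizer (R : Set G)) : conjAut R g hg ∈ E.autGroup R := by
  rw [mem_autGroup_iff E h.le]
  unfold IsIso
  exact mem_of_eq E h (fun x => rfl)

theorem ec_of_conjAut_mem {E : FusionSystem T} {g : G} {R : Subgroup G} (hR : R ≤ T)
    (hg : g ∈ Subgroup.normalizer (R : Set G)) (h : conjAut R g hg ∈ E.autGroup R) : EC E g R := by
  rw [mem_autGroup_iff E hR] at h
  unfold IsIso at h
  exact mem_of_eq E h (fun x => rfl)

/-- An element of `Aut_E(R)`, for a subsystem `E` of `F_S(G)`, is conjugation by an element of `N_G(R)`. -/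
theorem exists_ec_of_mem_autGroup {E : FusionSystem T} (hsub : E.IsSubsystemOf (groupFusionSystem S)) {R : Subgroup G}
    (hR : R ≤ T) {α : MulAut R} (hα : α ∈ E.autGroup R) :
    ∃ g : G, ∃ hg : g ∈ Subgroup.normalizer (R : Set G), EC E g R ∧ α = conjAut R g hg := by
  have h1 := (mem_autGroup_iff E hR α).mp hα
  obtain ⟨g, hgeq, hg⟩ := exists_ec_of_mem hsub h1
  have hx : ∀ x : R, ((α x : R) : G) = g * x * g⁻¹ := fun x => by
    have := congrArg (fun f : R →* G => f x) hgeq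
    exact this
  have hgn : g ∈ Subgroup.normalizer (R : Set G) := by
    rw [Subgroup.mem_normalizer_iff]
    intro h
    constructor
    · intro hh
      rw [← hx ⟨h, hh⟩]
      exact (α _).2
    · intro hh
      have h2 := hx (α⁻¹ ⟨g * h * g⁻¹, hh⟩)
      rw [MulAut.apply_inv_self] at h2
      have h3 : h = ((α⁻¹ ⟨g * h * g⁻¹, hh⟩ : R) : G) := mul_left_cancel (mul_right_cancel h2)
      rw [h3]
      exact (α⁻¹ _).2
  refine ⟨g, hgn, hg, ?_⟩
  ext x
  rw [hx]
  rfl

/-- A subgroup with no other conjugate in a saturated system is fully automized and receptive. -/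
theorem fa_rec_of_weaklyClosed {p : ℕ} {E : FusionSystem T} (hE : E.IsSaturated p) {R : Subgroup G} (hR : R ≤ T)
    (hwc : ∀ φ ∈ E.Hom R, φ.range = R) : E.IsFullyAutomized p R ∧ E.IsReceptive R := by
  obtain ⟨Q, ⟨φ, hφ, hQ⟩, hfa, hrec⟩ := hE R hR
  have : Q = R := by rw [← hQ]; exact hwc φ hφ
  subst this
  exact ⟨hfa, hrec⟩

theorem range_eq_top_sub [Finite T] {E : FusionSystem T} : ∀ φ ∈ E.Hom T, φ.range = T := by
  intro φ hφ
  have hle : φ.range ≤ T := range_le E hφ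
  have hcard : Nat.card φ.range = Nat.card T :=
    (Nat.card_congr (MonoidHom.ofInjective (E.injective_of_mem hφ)).toEquiv).symm
  exact Subgroup.eq_of_le_of_card_ge hle (le_of_eq hcard.symm)

theorem mem_normalizer_of_ec_top [Finite T] {E : FusionSystem T} {g : G} (h : EC E g T) :
    g ∈ Subgroup.normalizer (T : Set G) :=
  Subgroup.mem_normalizer_fintype (fun _ hn => h.conj_mem hn)

/-- `p`-elements inducing an automorphism of `T` in the saturated system `E` act on `T` as elements of `T`. -/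
theorem exists_mem_of_pElement [Finite T] {p : ℕ} [Fact p.Prime] {E : FusionSystem T} (hE : E.IsSaturated p)
    {a : G} (ha : EC E a T) (hap : ∃ k : ℕ, orderOf a = p ^ k) :
    ∃ t ∈ T, ∀ u ∈ T, a * u * a⁻¹ = t * u * t⁻¹ := by
  have han := mem_normalizer_of_ec_top ha
  obtain ⟨⟨-, Sy, hSy⟩, -⟩ := fa_rec_of_weaklyClosed hE le_rfl range_eq_top_sub
  have : Finite (MulAut T) := finite_mulAut_of_le (S := T) le_rfl
  obtain ⟨k, hk⟩ := hap
  set α : E.autGroup T := ⟨conjAut T a han, conjAut_mem_autGroup_of_ec ha han⟩ with hα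
  have hpow : α ^ (p ^ k) = 1 := by
    apply Subtype.ext
    rw [Subgroup.coe_pow]
    show (conjAut T a han) ^ (p ^ k) = 1
    rw [conjAut_pow]
    have : a ^ (p ^ k) = 1 := by rw [← hk]; exact pow_orderOf_eq_one a
    ext x
    show a ^ (p ^ k) * (x : G) * (a ^ (p ^ k))⁻¹ = x
    rw [this]
    simp
  have hB : IsPGroup p (Subgroup.zpowers α) := by
    rw [IsPGroup.iff_card, Nat.card_zpowers]
    exact (Nat.dvd_prime_pow Fact.out).mp (orderOf_dvd_of_pow_eq_one hpow) |>.imp fun j hj => hj.2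
  obtain ⟨γ, hγ⟩ := exists_conj_mem_sylow_of_isPGroup Sy _ hB
  have h1 := hγ α (Subgroup.mem_zpowers α)
  rw [hSy, Subgroup.mem_subgroupOf] at h1
  obtain ⟨s, hs, hsx⟩ := (mem_autInducedBy_iff T T _).mp h1
  refine ⟨((γ : MulAut T)⁻¹ ⟨s, hs⟩ : T), ((γ : MulAut T)⁻¹ ⟨s, hs⟩ : T).2, fun u hu => ?_⟩
  have h2 := hsx ((γ : MulAut T) ⟨u, hu⟩)
  have h3 : ((γ * α * γ⁻¹ : E.autGroup T) : MulAut T) ((γ : MulAut T) ⟨u, hu⟩) =
      (γ : MulAut T) ((conjAut T a han) ⟨u, hu⟩) := by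
    show (γ : MulAut T) ((conjAut T a han) ((γ : MulAut T)⁻¹ ((γ : MulAut T) ⟨u, hu⟩))) = _
    rw [MulAut.inv_apply_self]
  rw [h3] at h2
  -- apply `γ⁻¹`
  have h4 : (conjAut T a han) ⟨u, hu⟩ =
      (γ : MulAut T)⁻¹ (⟨s, hs⟩ * (γ : MulAut T) ⟨u, hu⟩ * ⟨s, hs⟩⁻¹) := by
    have : (γ : MulAut T) ((conjAut T a han) ⟨u, hu⟩) = ⟨s, hs⟩ * (γ : MulAut T) ⟨u, hu⟩ * ⟨s, hs⟩⁻¹ :=
      Subtype.ext h2
    rw [← this, MulAut.inv_apply_self]
  have h5 := congrArg (fun z : T => (z : G)) h4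
  simp only [map_mul, map_inv, MulAut.inv_apply_self] at h5
  exact h5

/-- The extension condition for a normal subsystem of `F_S(G)`, for conjugation maps. -/
theorem exists_extension [Finite T] {p : ℕ} {E : FusionSystem T} (hE : E.IsNormalIn (groupFusionSystem S) p)
    {g : G} (hg : EC E g T) :
    ∃ b : G, (∀ x ∈ T, b * x * b⁻¹ = g * x * g⁻¹) ∧
      ∀ c ∈ centralizerIn S T, c⁻¹ * (b * c * b⁻¹) ∈ T ⊓ Subgroup.centralizer (T : Set G) := by
  have hTS : T ≤ S := hE.1.2.2.2.1.1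
  have hgn := mem_normalizer_of_ec_top hg
  obtain ⟨β, hβ, hβT, hβC⟩ := hE.2 (conjAut T g hgn) (conjAut_mem_autGroup_of_ec hg hgn)
  have hle : T ⊔ centralizerIn S T ≤ S := sup_le hTS inf_le_left
  have h1 := (mem_autGroup_iff (groupFusionSystem S) hle β).mp hβ
  obtain ⟨-, -, b, hb⟩ := h1
  have hb' : ∀ y : ↥(T ⊔ centralizerIn S T), ((β y : ↥(T ⊔ centralizerIn S T)) : G) = b * y * b⁻¹ := fun y => hb y
  refine ⟨b, fun x hx => ?_, fun c hc => ?_⟩
  · have := hβT ⟨x, hx⟩
    rw [hb'] at this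
    exact this
  · have hc' : c ∈ T ⊔ centralizerIn S T := (le_sup_right : centralizerIn S T ≤ _) hc
    have := hβC ⟨c, hc'⟩ hc
    rw [hb'] at this
    exact this

end Cfsg.Agent.Helper85.NS
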