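-- The subgroups of `G` attached to a normal subsystem `E` of `F_S(G)` over `T`: elements inducing an `E`-automorphism of
-- a `G`-invariant subgroup `R ≤ T`, and the stabilizer of the chain `R ≤ O_p(G)` (helper85; for S5121).
import Cfsg.Agent.Helper85.NSSat
import Cfsg.Agent.Lib.Cores

set_option autoImplicit false

namespace Cfsg.Agent.Helper85.NS

open Cfsg Cfsg.FusionSystem Cfsg.Agent.Helper85 Cfsg.Agent.Helper87

variable {G : Type*} [Group G] {S T : Subgroup G}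

/-- The elements of `G` inducing by conjugation an `E`-automorphism of `R`, for `R ≤ T` mapped to itself by every
such element. -/
def ecSubgroup (E : FusionSystem T) (R : Subgroup G) (hRT : R ≤ T) (hR : ∀ g : G, EC E g R → cj g R = R) :
    Subgroup G where
  carrier := {g | EC E g R}
  one_mem' := ec_one E hRT
  mul_mem' := by
    intro a b ha hb
    exact EC.mul hb ha (hR b hb).le
  inv_mem' := by
    intro a ha
    have := ha.inv
    rwa [hR a ha] at this

theorem mem_ecSubgroup (E : FusionSystem T) (R : Subgroup G) (hRT : R ≤ T) (hR : ∀ g : G, EC E g R → cj g R = R)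
    (g : G) : g ∈ ecSubgroup E R hRT hR ↔ EC E g R := Iff.rfl

theorem le_ecSubgroup (E : FusionSystem T) (R : Subgroup G) (hRT : R ≤ T) (hR : ∀ g : G, EC E g R → cj g R = R) :
    T ≤ ecSubgroup E R hRT hR := fun _ ht => ec_of_mem E ht hRT

theorem centralizer_le_ecSubgroup (E : FusionSystem T) (R : Subgroup G) (hRT : R ≤ T)
    (hR : ∀ g : G, EC E g R → cj g R = R) : Subgroup.centralizer (R : Set G) ≤ ecSubgroup E R hRT hR := by
  intro d hd
  refine (ec_one E hRT).congr (fun x hx => ?_)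
  have := hd x hx
  rw [one_mul, inv_one, mul_one, ← this, mul_inv_cancel_right]

theorem cj_eq_of_normal {R : Subgroup G} (hRn : R.Normal) (g : G) : cj g R = R :=
  cj_eq_self_of_mem_normalizer (by rw [Subgroup.normalizer_eq_top_iff.mpr hRn]; trivial)

/-- For `R ⊴ G`, the subgroup of the elements inducing an `E`-automorphism of `R` is normal in `G`
(`E` invariant in `F_S(G)`). -/
theorem ecSubgroup_normal {E : FusionSystem T} (hinv : E.IsInvariantIn (groupFusionSystem S))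
    (R : Subgroup G) (hRT : R ≤ T) (hRn : R.Normal) :
    (ecSubgroup E R hRT (fun g _ => cj_eq_of_normal hRn g)).Normal := by
  have hsub : E.IsSubsystemOf (groupFusionSystem S) := hinv.1
  have hTS : T ≤ S := hinv.2.1.1
  refine ⟨fun g hg a => ?_⟩
  have hg' : EC E g R := hg
  have hRa : cj a R ≤ S := by rw [cj_eq_of_normal hRn]; exact hRT.trans hTS
  obtain ⟨b, hb, g₀, hg₀, hx⟩ := exists_frattini hinv hsub hRT hRa
  -- `w = b g₀` acts on `R` like `a`
  have h1 : EC E (g₀ * g * g₀⁻¹) R := by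
    have hA := ecSubgroup E R hRT (fun g _ => cj_eq_of_normal hRn g)
    have : g₀ * g * g₀⁻¹ ∈ ecSubgroup E R hRT (fun g _ => cj_eq_of_normal hRn g) :=
      Subgroup.mul_mem _ (Subgroup.mul_mem _ hg₀ hg') (Subgroup.inv_mem _ hg₀)
    exact this
  have h2 := ec_conj_of_normalizer hinv h1 hb
  rw [cj_eq_of_normal hRn] at h2
  refine h2.congr (fun x hxR => ?_)
  -- conjugation by `a g a⁻¹` and by `b g₀ g g₀⁻¹ b⁻¹` agree on `R`
  have hw : ∀ y ∈ R, a * y * a⁻¹ = (b * g₀) * y * (b * g₀)⁻¹ := fun y hy => by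
    rw [hx y hy]; group
  have hx' : a⁻¹ * x * a ∈ R := by
    have := hRn.conj_mem x hxR a⁻¹
    simpa using this
  have e1 : a⁻¹ * x * a = (b * g₀)⁻¹ * x * (b * g₀) := by
    have h0 := hw _ hx'
    calc a⁻¹ * x * a = (b * g₀)⁻¹ * ((b * g₀) * (a⁻¹ * x * a) * (b * g₀)⁻¹) * (b * g₀) := by group
      _ = (b * g₀)⁻¹ * (a * (a⁻¹ * x * a) * a⁻¹) * (b * g₀) := by rw [h0]
      _ = (b * g₀)⁻¹ * x * (b * g₀) := by group
  have hx'' : g * (a⁻¹ * x * a) * g⁻¹ ∈ R := by
    have := hg'.conj_mem hx'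
    have h4 : cj g R = R := cj_eq_of_normal hRn g
    rw [← h4]
    exact conj_mem_cj hx'
  have e2 := hw _ hx''
  show a * g * a⁻¹ * x * (a * g * a⁻¹)⁻¹ = b * (g₀ * g * g₀⁻¹) * b⁻¹ * x * (b * (g₀ * g * g₀⁻¹) * b⁻¹)⁻¹
  have e3 : a * g * a⁻¹ * x * (a * g * a⁻¹)⁻¹ = a * (g * (a⁻¹ * x * a) * g⁻¹) * a⁻¹ := by group
  rw [e3, e2, e1]
  group

/-- The stabilizer of the chain `R ≤ Q`: the elements `g` with `[g, Q] ≤ R`. -/
def chainStab (R Q : Subgroup G) (hRn : R.Normal) (hQn : Q.Normal) : Subgroup G where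
  carrier := {g | ∀ x ∈ Q, g * x * g⁻¹ * x⁻¹ ∈ R}
  one_mem' := by
    intro x _
    simp
  mul_mem' := by
    intro a b ha hb x hx
    have h1 := hb x hx
    have h2 := ha x hx
    have h3 := hRn.conj_mem _ h1 a
    have e : a * b * x * (a * b)⁻¹ * x⁻¹ = a * (b * x * b⁻¹ * x⁻¹) * a⁻¹ * (a * x * a⁻¹ * x⁻¹) := by group
    rw [e]
    exact R.mul_mem h3 h2
  inv_mem' := by
    intro a ha x hx
    have hx' : a⁻¹ * x * a ∈ Q := by
      have := hQn.conj_mem x hx a⁻¹
      simpa using this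
    have h1 := ha _ hx'
    have e : a⁻¹ * x * a⁻¹⁻¹ * x⁻¹ = (a * (a⁻¹ * x * a) * a⁻¹ * (a⁻¹ * x * a)⁻¹)⁻¹ := by group
    rw [e]
    exact R.inv_mem h1

theorem mem_chainStab (R Q : Subgroup G) (hRn : R.Normal) (hQn : Q.Normal) (g : G) :
    g ∈ chainStab R Q hRn hQn ↔ ∀ x ∈ Q, g * x * g⁻¹ * x⁻¹ ∈ R := Iff.rfl

theorem chainStab_normal (R Q : Subgroup G) (hRn : R.Normal) (hQn : Q.Normal) : (chainStab R Q hRn hQn).Normal := by
  refine ⟨fun g hg a x hx => ?_⟩
  have hx' : a⁻¹ * x * a ∈ Q := by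
    have := hQn.conj_mem x hx a⁻¹
    simpa using this
  have h1 := hRn.conj_mem _ (hg _ hx') a
  have e : a * g * a⁻¹ * x * (a * g * a⁻¹)⁻¹ * x⁻¹ = a * (g * (a⁻¹ * x * a) * g⁻¹ * (a⁻¹ * x * a)⁻¹) * a⁻¹ := by group
  rw [e]
  exact h1

end Cfsg.Agent.Helper85.NS
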