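-- Sylow property of the elements inducing `E`-automorphisms of a `G`-invariant subgroup (helper85; for S5121).
import Cfsg.Agent.Helper85.NSAR

set_option autoImplicit false

namespace Cfsg.Agent.Helper85.NS

open Cfsg Cfsg.FusionSystem Cfsg.Agent.Helper85 Cfsg.Agent.Helper87

variable {G : Type*} [Group G] {S T : Subgroup G}

theorem range_eq_of_normal {E : FusionSystem T} (hsub : E.IsSubsystemOf (groupFusionSystem S)) {R : Subgroup G}
    (hRn : R.Normal) : ∀ φ ∈ E.Hom R, φ.range = R := by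
  intro φ hφ
  obtain ⟨g, rfl, -⟩ := exists_ec_of_mem hsub hφ
  rw [conjHom_range, cj_eq_of_normal hRn]

/-- `R ⊴ G`, `R ≤ T`: a `p`-subgroup of `G` containing `T` whose elements induce `E`-automorphisms of `R` acts on `R`
as `T` does (`Aut_T(R)` is a Sylow `p`-subgroup of `Aut_E(R)`). -/
theorem syl_of_normal [Finite T] {p : ℕ} [Fact p.Prime] {E : FusionSystem T} (hEsat : E.IsSaturated p)
    (hsub : E.IsSubsystemOf (groupFusionSystem S)) (R : Subgroup G) (hRT : R ≤ T) (hRn : R.Normal)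
    (P₁ : Subgroup G) (hP₁ : ∀ x ∈ P₁, EC E x R) (hP₁p : IsPGroup p P₁) (hTP₁ : T ≤ P₁) :
    ∀ x ∈ P₁, ∃ t ∈ T, ∀ r ∈ R, x * r * x⁻¹ = t * r * t⁻¹ := by
  obtain ⟨⟨-, Sy, hSy⟩, -⟩ := fa_rec_of_weaklyClosed hEsat hRT (range_eq_of_normal hsub hRn)
  have hN : ∀ x : G, x ∈ Subgroup.normalizer (R : Set G) := fun x => by
    rw [Subgroup.normalizer_eq_top_iff.mpr hRn]; trivial
  -- the action of `P₁` on `R`
  let ρ₀ : ↥P₁ →* MulAut R := R.normalizerMonoidHom.comp (Subgroup.inclusion (fun x _ => hN x))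
  have hρ₀ : ∀ x : ↥P₁, ρ₀ x = conjAut R x (hN x) := fun x => rfl
  have hρmem : ∀ x : ↥P₁, ρ₀ x ∈ E.autGroup R := fun x => by
    rw [hρ₀]; exact conjAut_mem_autGroup_of_ec (hP₁ x x.2) (hN x)
  let ρ : ↥P₁ →* ↥(E.autGroup R) := ρ₀.codRestrict (E.autGroup R) hρmem
  have hB : IsPGroup p ρ.range := IsPGroup.of_surjective hP₁p ρ.rangeRestrict ρ.rangeRestrict_surjective
  have hle : (Sy : Subgroup (E.autGroup R)) ≤ ρ.range := by
    intro σ hσ
    rw [hSy, Subgroup.mem_subgroupOf] at hσ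
    obtain ⟨t, ht, htx⟩ := (mem_autInducedBy_iff T R _).mp hσ
    refine ⟨⟨t, hTP₁ ht⟩, ?_⟩
    apply Subtype.ext
    ext r
    show t * (r : G) * t⁻¹ = _
    rw [htx]
  have heq : ρ.range = Sy := Sy.is_maximal' hB hle
  intro x hx
  have h1 : ρ ⟨x, hx⟩ ∈ (Sy : Subgroup (E.autGroup R)) := by rw [← heq]; exact ⟨_, rfl⟩
  rw [hSy, Subgroup.mem_subgroupOf] at h1
  obtain ⟨t, ht, htx⟩ := (mem_autInducedBy_iff T R _).mp h1
  exact ⟨t, ht, fun r hr => htx ⟨r, hr⟩⟩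

end Cfsg.Agent.Helper85.NS
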