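-- The reverse inclusion `F_T(H) ≤ E` for the normal subgroup `H` built from a normal subsystem `E` of `F_S(G)`
-- (helper85; for S5121).
import Cfsg.Agent.Helper85.NSSyl

set_option autoImplicit false

namespace Cfsg.Agent.Helper85.NS

open Cfsg Cfsg.FusionSystem Cfsg.Agent.Helper85 Cfsg.Agent.Helper87

variable {G : Type*} [Group G] {S T : Subgroup G}

/-- Let `R ⊴ G`, `R ≤ T` be receptive in `E`, with `C_H(R) ≤ R`, every element of `H` inducing an `E`-automorphism of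
`R`, and `E ≤ F_T(H)`. Then `F_T(H) ≤ E`. -/
theorem subgroup_hom_subset {p : ℕ} {E : FusionSystem T} (hEsat : E.IsSaturated p)
    (hsub : E.IsSubsystemOf (groupFusionSystem S)) (R : Subgroup G) (hRT : R ≤ T) (hRn : R.Normal)
    (H : Subgroup G) (hTH : T ≤ H) (hHR : ∀ h ∈ H, EC E h R)
    (hcent : H ⊓ Subgroup.centralizer (R : Set G) ≤ R)
    (hle : ∀ P : Subgroup G, E.Hom P ⊆ (fusionSystemOfSubgroup H T hTH).Hom P) :
    ∀ P : Subgroup G, (fusionSystemOfSubgroup H T hTH).Hom P ⊆ E.Hom P := by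
  obtain ⟨-, hrec⟩ := fa_rec_of_weaklyClosed hEsat hRT (range_eq_of_normal hsub hRn)
  rintro P φ ⟨hPT, hφT, h, hh, hφ⟩
  have hRh : cj h R = R := cj_eq_of_normal hRn h
  have hN : ∀ x : G, x ∈ Subgroup.normalizer (R : Set G) := fun x => by
    rw [Subgroup.normalizer_eq_top_iff.mpr hRn]; trivial
  -- work on `P' = P ⊔ R`
  have hP'T : P ⊔ R ≤ T := sup_le hPT hRT
  have hcjP' : cj h (P ⊔ R) ≤ T := by
    rw [cj_sup, hRh]
    refine sup_le ?_ hRT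
    rintro _ ⟨x, hx, rfl⟩
    have := hφT ⟨x, hx⟩
    rw [hφ] at this
    exact this
  have hφ₀ : conjHom R h ∈ E.Hom R := hHR h hh
  obtain ⟨ψ, hψ, hψx⟩ := hrec.2 R _ hφ₀ (by rw [conjHom_range, hRh])
  have hP'ext : P ⊔ R ≤ extender T R (conjHom R h) := by
    intro x hx
    rw [mem_extender_iff]
    refine ⟨hP'T hx, hN x, h * x * h⁻¹, hcjP' (conj_mem_cj hx), fun r hr => ?_⟩
    show h * (x * (r : G) * x⁻¹) * h⁻¹ = h * x * h⁻¹ * (h * (r : G) * h⁻¹) * (h * x * h⁻¹)⁻¹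
    group
  have hψ' := restrict_mem E hψ hP'ext
  obtain ⟨k, hkeq, hk⟩ := exists_ec_of_mem hsub hψ'
  -- `k` acts on `R` like `h`
  have hkR : ∀ r ∈ R, k * r * k⁻¹ = h * r * h⁻¹ := by
    intro r hr
    have hrP' : r ∈ P ⊔ R := (le_sup_right : R ≤ P ⊔ R) hr
    have h1 := congrArg (fun f : ↥(P ⊔ R) →* G => f ⟨r, hrP'⟩) hkeq
    have h2 := hψx r hr (hP'ext hrP')
    have h3 : (ψ.comp (Subgroup.inclusion hP'ext)) ⟨r, hrP'⟩ = ψ ⟨r, hP'ext hrP'⟩ := rfl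
    have h4 : ψ ⟨r, hP'ext hrP'⟩ = k * r * k⁻¹ := by rw [← h3]; exact h1
    rw [← h4, h2]
    rfl
  -- `k` acts on `P'` like some `k' ∈ H`
  obtain ⟨-, -, k', hk', hkk'⟩ := hle _ hk
  have hkk'x : ∀ x ∈ P ⊔ R, k * x * k⁻¹ = k' * x * k'⁻¹ := fun x hx => hkk' ⟨x, hx⟩
  -- `z = k'⁻¹ h` centralizes `R`, hence lies in `R`
  have hzR : k'⁻¹ * h ∈ R := by
    refine hcent ⟨H.mul_mem (H.inv_mem hk') hh, ?_⟩
    show k'⁻¹ * h ∈ Subgroup.centralizer (R : Set G)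
    rw [Subgroup.mem_centralizer_iff]
    intro r hr
    have hrP' : r ∈ P ⊔ R := (le_sup_right : R ≤ P ⊔ R) hr
    have e1 : k' * r * k'⁻¹ = h * r * h⁻¹ := by rw [← hkk'x r hrP', hkR r hr]
    calc r * (k'⁻¹ * h) = k'⁻¹ * (k' * r * k'⁻¹) * h := by group
      _ = k'⁻¹ * (h * r * h⁻¹) * h := by rw [e1]
      _ = k'⁻¹ * h * r := by group
  set z := k'⁻¹ * h with hz
  have hzP' : z ∈ P ⊔ R := (le_sup_right : R ≤ P ⊔ R) hzR
  have hzT : z ∈ T := hRT hzR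
  have hcjz : cj z (P ⊔ R) ≤ P ⊔ R := by
    rintro _ ⟨x, hx, rfl⟩
    exact Subgroup.mul_mem _ (Subgroup.mul_mem _ hzP' hx) (Subgroup.inv_mem _ hzP')
  have h5 : EC E (k * z) (P ⊔ R) := EC.mul (ec_of_mem E hzT hP'T) hk hcjz
  have h6 : EC E h (P ⊔ R) := by
    refine h5.congr (fun x hx => ?_)
    have hx' : z * x * z⁻¹ ∈ P ⊔ R := hcjz (conj_mem_cj hx)
    have e2 := hkk'x _ hx'
    calc h * x * h⁻¹ = k' * (z * x * z⁻¹) * k'⁻¹ := by rw [hz]; group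
      _ = k * (z * x * z⁻¹) * k⁻¹ := by rw [e2]
      _ = k * z * x * (k * z)⁻¹ := by group
  have h7 : EC E h P := h6.mono le_sup_left
  exact mem_of_eq E h7 (fun x => hφ x)

end Cfsg.Agent.Helper85.NS
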