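-- The automorphisms of `T` in a normal subsystem `E` of `F_S(G)` (`C_G(O_p(G)) ≤ O_p(G)`) are induced by elements of the
-- normal subgroup built from `E` (helper85; for S5121).
import Cfsg.Agent.Helper85.NSSyl
import Cfsg.Agent.Helper80.NSExt
import Cfsg.Agent.Helper2.Residual

set_option autoImplicit false

namespace Cfsg.Agent.Helper85.NS

open Cfsg Cfsg.FusionSystem Cfsg.Agent.Helper85 Cfsg.Agent.Helper87

variable {G : Type*} [Group G] {S T : Subgroup G}

theorem cj_eq_of_ec_top [Finite T] {E : FusionSystem T} {g : G} (h : EC E g T) : cj g T = T :=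
  cj_eq_self_of_mem_normalizer (mem_normalizer_of_ec_top h)

/-- `Z(T)` is normalized by `N_G(T)`. -/
theorem conj_mem_center {b z : G} (hb : b ∈ Subgroup.normalizer (T : Set G))
    (hz : z ∈ T ⊓ Subgroup.centralizer (T : Set G)) : b * z * b⁻¹ ∈ T ⊓ Subgroup.centralizer (T : Set G) := by
  refine ⟨(Subgroup.mem_normalizer_iff.mp hb z).mp hz.1, ?_⟩
  show b * z * b⁻¹ ∈ Subgroup.centralizer (T : Set G)
  rw [Subgroup.mem_centralizer_iff]
  intro t ht
  have ht' : b⁻¹ * t * b ∈ T := by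
    have := (Subgroup.mem_normalizer_iff.mp (Subgroup.inv_mem _ hb) t).mp ht
    simpa using this
  have h1 := (Subgroup.mem_centralizer_iff.mp hz.2) _ ht'
  calc t * (b * z * b⁻¹) = b * ((b⁻¹ * t * b) * z) * b⁻¹ := by group
    _ = b * (z * (b⁻¹ * t * b)) * b⁻¹ := by rw [h1]
    _ = b * z * b⁻¹ * t := by group

/-- The elements inducing an `E`-automorphism of `T` and acting trivially on `C_S(T)` modulo `Z(T)`. -/
def extSubgroup [Finite T] (S : Subgroup G) (E : FusionSystem T) : Subgroup G where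
  carrier := {b | EC E b T ∧
    ∀ c ∈ centralizerIn S T, c⁻¹ * (b * c * b⁻¹) ∈ T ⊓ Subgroup.centralizer (T : Set G)}
  one_mem' := by
    refine ⟨ec_one E le_rfl, fun c _ => ?_⟩
    have : c⁻¹ * (1 * c * 1⁻¹) = 1 := by group
    rw [this]
    exact Subgroup.one_mem _
  mul_mem' := by
    rintro a b ⟨ha, haC⟩ ⟨hb, hbC⟩
    refine ⟨EC.mul hb ha (cj_eq_of_ec_top hb).le, fun c hc => ?_⟩
    have h1 := hbC c hc
    have h2 := haC c hc
    have h3 := conj_mem_center (mem_normalizer_of_ec_top ha) h1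
    have e : c⁻¹ * (a * b * c * (a * b)⁻¹) =
        c⁻¹ * (a * c * a⁻¹) * (a * (c⁻¹ * (b * c * b⁻¹)) * a⁻¹) := by group
    rw [e]
    exact Subgroup.mul_mem _ h2 h3
  inv_mem' := by
    rintro b ⟨hb, hbC⟩
    have hb' : EC E b⁻¹ T := by
      have := hb.inv
      rwa [cj_eq_of_ec_top hb] at this
    refine ⟨hb', fun c hc => ?_⟩
    have h1 := hbC c hc
    have h3 := conj_mem_center (mem_normalizer_of_ec_top hb') (Subgroup.inv_mem _ h1)
    have e : c⁻¹ * (b⁻¹ * c * b⁻¹⁻¹) = b⁻¹ * (c⁻¹ * (b * c * b⁻¹))⁻¹ * b⁻¹⁻¹ := by group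
    rw [e]
    exact h3

theorem mem_extSubgroup [Finite T] (S : Subgroup G) (E : FusionSystem T) (b : G) :
    b ∈ extSubgroup S E ↔ EC E b T ∧
      ∀ c ∈ centralizerIn S T, c⁻¹ * (b * c * b⁻¹) ∈ T ⊓ Subgroup.centralizer (T : Set G) := Iff.rfl

/-- The elements acting on `T` as some element of `H`. -/
def actSubgroup (H : Subgroup G) (T : Subgroup G) : Subgroup G where
  carrier := {b | b ∈ Subgroup.normalizer (T : Set G) ∧ ∃ h ∈ H, ∀ x ∈ T, b * x * b⁻¹ = h * x * h⁻¹}
  one_mem' := ⟨Subgroup.one_mem _, 1, H.one_mem, fun _ _ => rfl⟩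
  mul_mem' := by
    rintro a b ⟨han, h₁, hh₁, ha⟩ ⟨hbn, h₂, hh₂, hb⟩
    refine ⟨Subgroup.mul_mem _ han hbn, h₁ * h₂, H.mul_mem hh₁ hh₂, fun x hx => ?_⟩
    have hx' : b * x * b⁻¹ ∈ T := (Subgroup.mem_normalizer_iff.mp hbn x).mp hx
    have e : a * b * x * (a * b)⁻¹ = a * (b * x * b⁻¹) * a⁻¹ := by group
    rw [e, ha _ hx', hb x hx]
    group
  inv_mem' := by
    rintro b ⟨hbn, h, hh, hb⟩
    refine ⟨Subgroup.inv_mem _ hbn, h⁻¹, H.inv_mem hh, fun x hx => ?_⟩
    have hx' : b⁻¹ * x * b ∈ T := by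
      have := (Subgroup.mem_normalizer_iff.mp (Subgroup.inv_mem _ hbn) x).mp hx
      simpa using this
    have h1 := hb _ hx'
    have e : b * (b⁻¹ * x * b) * b⁻¹ = x := by group
    rw [e] at h1
    calc b⁻¹ * x * b⁻¹⁻¹ = b⁻¹ * x * b := by group
      _ = h⁻¹ * (h * (b⁻¹ * x * b) * h⁻¹) * h := by group
      _ = h⁻¹ * x * h⁻¹⁻¹ := by rw [← h1]; group

section Top

variable [Finite G] {p : ℕ} [Fact p.Prime] (S : Sylow p G)

/-- Every `E`-automorphism of `T` is induced by an element of `H`, for a subgroup `H ⊇ T` containing the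
`p'`-elements of `G` that stabilize the chain `T ∩ O_p(G) ≤ O_p(G)` and induce an `E`-automorphism of
`T ∩ O_p(G)`. -/
theorem exists_act_of_ec_top {T : Subgroup G} {E : FusionSystem T}
    (hE : E.IsNormalIn (groupFusionSystem (S : Subgroup G)) p) (H : Subgroup G) (hTH : T ≤ H)
    (hp' : ∀ g : G, (∀ x ∈ Cfsg.pCore p G, g * x * g⁻¹ * x⁻¹ ∈ T ⊓ Cfsg.pCore p G) →
      EC E g (T ⊓ Cfsg.pCore p G) → (orderOf g).Coprime p → g ∈ H) :
    ∀ g : G, EC E g T → ∃ h ∈ H, ∀ x ∈ T, g * x * g⁻¹ = h * x * h⁻¹ := by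
  have hEsat : E.IsSaturated p := hE.1.1
  have hinv : E.IsInvariantIn (groupFusionSystem (S : Subgroup G)) := hE.1.2.2
  have hsc := hinv.2.1
  have hTS : T ≤ (S : Subgroup G) := hsc.1
  have hTn : ∀ s ∈ (S : Subgroup G), ∀ t ∈ T, s * t * s⁻¹ ∈ T := fun s hs t ht =>
    sc_elt hsc ht (Subgroup.mul_mem _ (Subgroup.mul_mem _ hs (hTS ht)) (Subgroup.inv_mem _ hs))
  have hSN : ∀ s ∈ (S : Subgroup G), s ∈ Subgroup.normalizer (T : Set G) := fun s hs =>
    Subgroup.mem_normalizer_fintype (fun n hn => hTn s hs n hn)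
  -- the subgroup `A` of the elements inducing an `E`-automorphism of `T`
  set A : Subgroup G := ecSubgroup E T le_rfl (fun g hg => cj_eq_of_ec_top hg) with hA
  have hAN : A ≤ Subgroup.normalizer (T : Set G) := fun a ha => mem_normalizer_of_ec_top ha
  have hAQ : ∀ x ∈ Cfsg.pCore p G, ∀ a ∈ A, x * a * x⁻¹ ∈ A := by
    intro x hx a ha
    have hxS : x ∈ (S : Subgroup G) := Cfsg.Agent.Lib.pCore_le_sylow S hx
    have h1 := ec_conj_of_normalizer hinv (show EC E a T from ha) (hSN x hxS)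
    rw [cj_eq_self_of_mem_normalizer (hSN x hxS)] at h1
    exact h1
  have hAp : ∀ a ∈ A, (∃ k : ℕ, orderOf a = p ^ k) → ∃ t ∈ T, ∀ u ∈ T, a * u * a⁻¹ = t * u * t⁻¹ :=
    fun a ha hk => exists_mem_of_pElement hEsat ha hk
  -- the two subgroups
  set L : Subgroup G := extSubgroup (S : Subgroup G) E with hL
  set L' : Subgroup G := actSubgroup H T with hL'
  have hLL' : L ≤ L' := by
    obtain ⟨PΛ⟩ : Nonempty (Sylow p ↥L) := inferInstance
    have htop := Cfsg.Agent.Helper2.pResidual_sup_sylow_eq_top PΛ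
    have hall : L'.subgroupOf L = ⊤ := by
      rw [eq_top_iff, ← htop]
      refine sup_le ?_ ?_
      · unfold pResidual
        rw [Subgroup.closure_le]
        intro lam hlam
        have hord : (orderOf (lam : G)).Coprime p := by
          rw [Subgroup.orderOf_coe]; exact hlam
        obtain ⟨hlamT, hlamC⟩ := (mem_extSubgroup (S : Subgroup G) E (lam : G)).mp lam.2
        have hK := Cfsg.Agent.Helper80.NSExt.comm_pCore_mem_of_ext p S T hTS hTn A hAN hAQ hAp (lam : G) hlamT hord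
          (fun c hcS hcT => by
            have hc : c ∈ centralizerIn (S : Subgroup G) T := by
              refine ⟨hcS, ?_⟩
              show c ∈ Subgroup.centralizer (T : Set G)
              rw [Subgroup.mem_centralizer_iff]
              intro t ht
              exact (hcT t ht).symm
            exact (hlamC c hc).1)
        have hH := hp' (lam : G) hK (hlamT.mono inf_le_left) hord
        show (lam : G) ∈ L'
        exact ⟨mem_normalizer_of_ec_top hlamT, (lam : G), hH, fun _ _ => rfl⟩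
      · intro lam hlam
        obtain ⟨k, hk⟩ := (IsPGroup.iff_orderOf.mp PΛ.2) ⟨lam, hlam⟩
        have hord : orderOf (lam : G) = p ^ k := by
          rw [Subgroup.orderOf_coe, ← hk]
          exact (Subgroup.orderOf_mk lam hlam).symm
        obtain ⟨hlamT, -⟩ := (mem_extSubgroup (S : Subgroup G) E (lam : G)).mp lam.2
        obtain ⟨t, ht, htx⟩ := exists_mem_of_pElement hEsat hlamT ⟨k, hord⟩
        show (lam : G) ∈ L'
        exact ⟨mem_normalizer_of_ec_top hlamT, t, hTH ht, htx⟩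
    intro b hb
    have : (⟨b, hb⟩ : ↥L) ∈ L'.subgroupOf L := by rw [hall]; trivial
    exact this
  intro g hg
  obtain ⟨b, hbT, hbC⟩ := exists_extension hE hg
  have hbL : b ∈ L := ⟨hg.congr hbT, hbC⟩
  obtain ⟨-, h, hh, hhx⟩ := hLL' hbL
  exact ⟨h, hh, fun x hx => by rw [← hbT x hx, hhx x hx]⟩

end Top

end Cfsg.Agent.Helper85.NS
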