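-- Direct products of fusion systems: API for `IsProductSystem`, receptive subgroups (helper85).
import Cfsg.Agent.S5136
import Cfsg.Agent.Helper87.FusionRS
import Cfsg.Agent.Helper87.FusionAlperin

set_option autoImplicit false

namespace Cfsg.Agent.Helper85

open Cfsg Cfsg.FusionSystem Cfsg.Agent.Helper87 Cfsg.Agent.S5136

variable {Ω₁ Ω₂ : Type*} [Group Ω₁] [Group Ω₂] {S₁ : Subgroup Ω₁} {S₂ : Subgroup Ω₂}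

/-- The product map `x ↦ (φ₁ x.1, φ₂ x.2)` on a subgroup `P ≤ P₁ × P₂`. -/
def prodMap {P : Subgroup (Ω₁ × Ω₂)} {P₁ : Subgroup Ω₁} {P₂ : Subgroup Ω₂} (hP : P ≤ P₁.prod P₂) (φ₁ : P₁ →* Ω₁)
    (φ₂ : P₂ →* Ω₂) : P →* Ω₁ × Ω₂ :=
  (φ₁.comp (((MonoidHom.fst Ω₁ Ω₂).comp P.subtype).codRestrict P₁ (fun x => (hP x.2).1))).prod
    (φ₂.comp (((MonoidHom.snd Ω₁ Ω₂).comp P.subtype).codRestrict P₂ (fun x => (hP x.2).2)))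

theorem prodMap_apply {P : Subgroup (Ω₁ × Ω₂)} {P₁ : Subgroup Ω₁} {P₂ : Subgroup Ω₂} (hP : P ≤ P₁.prod P₂)
    (φ₁ : P₁ →* Ω₁) (φ₂ : P₂ →* Ω₂) (x : P) :
    prodMap hP φ₁ φ₂ x = (φ₁ ⟨(x : Ω₁ × Ω₂).1, (hP x.2).1⟩, φ₂ ⟨(x : Ω₁ × Ω₂).2, (hP x.2).2⟩) := rfl

section
variable (F₁ : FusionSystem S₁) (F₂ : FusionSystem S₂) (E : FusionSystem (S₁.prod S₂))

theorem prodMap_mem (hE : IsProductSystem F₁ F₂ E) {P : Subgroup (Ω₁ × Ω₂)} {P₁ : Subgroup Ω₁} {P₂ : Subgroup Ω₂}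
    (hP : P ≤ P₁.prod P₂) {φ₁ : P₁ →* Ω₁} {φ₂ : P₂ →* Ω₂} (h₁ : φ₁ ∈ F₁.Hom P₁) (h₂ : φ₂ ∈ F₂.Hom P₂) :
    prodMap hP φ₁ φ₂ ∈ E.Hom P := by
  rw [hE]
  have hP₁ : P₁ ≤ S₁ := (F₁.le_of_mem h₁).1
  have hP₂ : P₂ ≤ S₂ := (F₂.le_of_mem h₂).1
  have hle₁ : P.map (MonoidHom.fst Ω₁ Ω₂) ≤ P₁ := by
    rintro _ ⟨x, hx, rfl⟩
    exact (hP hx).1
  have hle₂ : P.map (MonoidHom.snd Ω₁ Ω₂) ≤ P₂ := by
    rintro _ ⟨x, hx, rfl⟩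
    exact (hP hx).2
  refine ⟨fun x hx => ⟨hP₁ (hP hx).1, hP₂ (hP hx).2⟩, φ₁.comp (Subgroup.inclusion hle₁), restrict_mem F₁ h₁ hle₁,
    φ₂.comp (Subgroup.inclusion hle₂), restrict_mem F₂ h₂ hle₂, fun x _ _ => rfl⟩

theorem exists_of_mem_prod (hE : IsProductSystem F₁ F₂ E) {P : Subgroup (Ω₁ × Ω₂)} {φ : P →* Ω₁ × Ω₂}
    (hφ : φ ∈ E.Hom P) :
    P ≤ S₁.prod S₂ ∧ ∃ φ₁ ∈ F₁.Hom (P.map (MonoidHom.fst Ω₁ Ω₂)), ∃ φ₂ ∈ F₂.Hom (P.map (MonoidHom.snd Ω₁ Ω₂)),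
      ∀ x : P, φ x = (φ₁ ⟨(x : Ω₁ × Ω₂).1, fst_mem P x⟩, φ₂ ⟨(x : Ω₁ × Ω₂).2, snd_mem P x⟩) := by
  rw [hE] at hφ
  obtain ⟨hP, φ₁, hφ₁, φ₂, hφ₂, h⟩ := hφ
  exact ⟨hP, φ₁, hφ₁, φ₂, hφ₂, fun x => h x _ _⟩

theorem fst_mem_normalizer {R : Subgroup (Ω₁ × Ω₂)} {g : Ω₁ × Ω₂} (hg : g ∈ Subgroup.normalizer (R : Set (Ω₁ × Ω₂))) :
    g.1 ∈ Subgroup.normalizer ((R.map (MonoidHom.fst Ω₁ Ω₂) : Subgroup Ω₁) : Set Ω₁) := by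
  have key : ∀ k : Ω₁ × Ω₂, k ∈ Subgroup.normalizer (R : Set (Ω₁ × Ω₂)) →
      ∀ y ∈ R.map (MonoidHom.fst Ω₁ Ω₂), k.1 * y * k.1⁻¹ ∈ R.map (MonoidHom.fst Ω₁ Ω₂) := by
    rintro k hk _ ⟨x, hx, rfl⟩
    exact ⟨k * x * k⁻¹, (Subgroup.mem_normalizer_iff.1 hk x).1 hx, rfl⟩
  apply mem_normalizer_of_conj_mem_of_inv_conj_mem (key g hg)
  intro y hy
  have := key g⁻¹ (Subgroup.inv_mem _ hg) y hy
  simpa using this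

theorem snd_mem_normalizer {R : Subgroup (Ω₁ × Ω₂)} {g : Ω₁ × Ω₂} (hg : g ∈ Subgroup.normalizer (R : Set (Ω₁ × Ω₂))) :
    g.2 ∈ Subgroup.normalizer ((R.map (MonoidHom.snd Ω₁ Ω₂) : Subgroup Ω₂) : Set Ω₂) := by
  have key : ∀ k : Ω₁ × Ω₂, k ∈ Subgroup.normalizer (R : Set (Ω₁ × Ω₂)) →
      ∀ y ∈ R.map (MonoidHom.snd Ω₁ Ω₂), k.2 * y * k.2⁻¹ ∈ R.map (MonoidHom.snd Ω₁ Ω₂) := by
    rintro k hk _ ⟨x, hx, rfl⟩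
    exact ⟨k * x * k⁻¹, (Subgroup.mem_normalizer_iff.1 hk x).1 hx, rfl⟩
  apply mem_normalizer_of_conj_mem_of_inv_conj_mem (key g hg)
  intro y hy
  have := key g⁻¹ (Subgroup.inv_mem _ hg) y hy
  simpa using this

/-- A subgroup of `S₁ × S₂` whose two projections are receptive is receptive in the product system. -/
theorem receptive_of_proj (hE : IsProductSystem F₁ F₂ E) {P' : Subgroup (Ω₁ × Ω₂)} (hP' : P' ≤ S₁.prod S₂)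
    (h₁ : F₁.IsReceptive (P'.map (MonoidHom.fst Ω₁ Ω₂))) (h₂ : F₂.IsReceptive (P'.map (MonoidHom.snd Ω₁ Ω₂))) :
    E.IsReceptive P' := by
  refine ⟨hP', fun R φ hφ hrange => ?_⟩
  obtain ⟨hR, φ₁, hφ₁, φ₂, hφ₂, hφx⟩ := exists_of_mem_prod F₁ F₂ E hE hφ
  have hrange₁ : φ₁.range = P'.map (MonoidHom.fst Ω₁ Ω₂) := by
    rw [← hrange]
    ext y
    constructor
    · rintro ⟨⟨_, x, hx, rfl⟩, rfl⟩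
      refine ⟨φ ⟨x, hx⟩, ⟨_, rfl⟩, ?_⟩
      rw [hφx]
      rfl
    · rintro ⟨_, ⟨x, rfl⟩, rfl⟩
      refine ⟨⟨(x : Ω₁ × Ω₂).1, fst_mem R x⟩, ?_⟩
      rw [hφx]
      rfl
  have hrange₂ : φ₂.range = P'.map (MonoidHom.snd Ω₁ Ω₂) := by
    rw [← hrange]
    ext y
    constructor
    · rintro ⟨⟨_, x, hx, rfl⟩, rfl⟩
      refine ⟨φ ⟨x, hx⟩, ⟨_, rfl⟩, ?_⟩
      rw [hφx]
      rfl
    · rintro ⟨_, ⟨x, rfl⟩, rfl⟩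
      refine ⟨⟨(x : Ω₁ × Ω₂).2, snd_mem R x⟩, ?_⟩
      rw [hφx]
      rfl
  obtain ⟨ψ₁, hψ₁, hψ₁x⟩ := h₁.2 _ φ₁ hφ₁ hrange₁
  obtain ⟨ψ₂, hψ₂, hψ₂x⟩ := h₂.2 _ φ₂ hφ₂ hrange₂
  have hN : extender (S₁.prod S₂) R φ ≤
      (extender S₁ (R.map (MonoidHom.fst Ω₁ Ω₂)) φ₁).prod (extender S₂ (R.map (MonoidHom.snd Ω₁ Ω₂)) φ₂) := by
    intro g hg
    rw [mem_extender_iff] at hg
    obtain ⟨hgS, hgN, h, hhS, hh⟩ := hg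
    constructor
    · show g.1 ∈ extender S₁ _ φ₁
      rw [mem_extender_iff]
      refine ⟨hgS.1, fst_mem_normalizer hgN, h.1, hhS.1, ?_⟩
      rintro ⟨_, x, hx, rfl⟩ hx₁
      have hx' : g * x * g⁻¹ ∈ R := (Subgroup.mem_normalizer_iff.1 hgN x).1 hx
      have := hh ⟨x, hx⟩ hx'
      rw [hφx, hφx] at this
      exact congrArg Prod.fst this
    · show g.2 ∈ extender S₂ _ φ₂
      rw [mem_extender_iff]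
      refine ⟨hgS.2, snd_mem_normalizer hgN, h.2, hhS.2, ?_⟩
      rintro ⟨_, x, hx, rfl⟩ hx₁
      have hx' : g * x * g⁻¹ ∈ R := (Subgroup.mem_normalizer_iff.1 hgN x).1 hx
      have := hh ⟨x, hx⟩ hx'
      rw [hφx, hφx] at this
      exact congrArg Prod.snd this
  refine ⟨prodMap hN ψ₁ ψ₂, prodMap_mem F₁ F₂ E hE hN hψ₁ hψ₂, fun x hxR hxN => ?_⟩
  rw [prodMap_apply, hφx]
  exact Prod.ext (hψ₁x x.1 (fst_mem R ⟨x, hxR⟩) _) (hψ₂x x.2 (snd_mem R ⟨x, hxR⟩) _)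

end

end Cfsg.Agent.Helper85
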