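-- Direct products of saturated fusion systems: fully normalized subgroups are receptive (helper85).
import Cfsg.Agent.Helper85.Product
import Cfsg.Agent.Helper85.Morphism

set_option autoImplicit false

namespace Cfsg.Agent.Helper85

open Cfsg Cfsg.FusionSystem Cfsg.Agent.Helper87 Cfsg.Agent.S5136

variable {Ω : Type*} [Group Ω] {S : Subgroup Ω}

/-- Receptivity can be transported back along an isomorphism of the system defined on the normalizers, when it maps the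
normalizer of `P` onto the normalizer of `P'`. -/
theorem receptive_of_iso_normalizerIn [Finite S] (E : FusionSystem S) {P P' : Subgroup Ω} (hPS : P ≤ S)
    (hP'r : E.IsReceptive P') (eΘ : normalizerIn S P ≃* normalizerIn S P') (heΘ : IsIso E eΘ)
    (hΘP : ∀ x : normalizerIn S P, (x : Ω) ∈ P → ((eΘ x : normalizerIn S P') : Ω) ∈ P')
    (hΘP' : ∀ y ∈ P', ∃ x : normalizerIn S P, (x : Ω) ∈ P ∧ ((eΘ x : normalizerIn S P') : Ω) = y) :
    E.IsReceptive P := by
  have hPN : P ≤ normalizerIn S P := le_normalizerIn hPS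
  have hP'S : P' ≤ S := hP'r.1
  have : Finite P := finite_of_le hPS
  have : Finite P' := finite_of_le hP'S
  refine ⟨hPS, fun R φ hφ hrange => ?_⟩
  have hRS : R ≤ S := (E.le_of_mem hφ).1
  have hφP : ∀ x : R, φ x ∈ P := fun x => by rw [← hrange]; exact ⟨x, rfl⟩
  -- the composite `φ' = Θ ∘ φ`
  have hΘ : (normalizerIn S P').subtype.comp eΘ.toMonoidHom ∈ E.Hom (normalizerIn S P) := heΘ
  have hφ' := E.comp_mem hφ hΘ (fun x => hPN (hφP x))
  set φ' : R →* Ω := ((normalizerIn S P').subtype.comp eΘ.toMonoidHom).comp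
    (φ.codRestrict (normalizerIn S P) (fun x => hPN (hφP x))) with hφ'def
  have hφ'x : ∀ x : R, φ' x = ((eΘ ⟨φ x, hPN (hφP x)⟩ : normalizerIn S P') : Ω) := fun x => rfl
  have hrange' : φ'.range = P' := by
    ext y
    constructor
    · rintro ⟨x, rfl⟩
      rw [hφ'x]
      exact hΘP _ (hφP x)
    · intro hy
      obtain ⟨z, hzP, hzy⟩ := hΘP' y hy
      have hz : (z : Ω) ∈ φ.range := by rw [hrange]; exact hzP
      obtain ⟨x, hx⟩ := hz
      refine ⟨x, ?_⟩
      rw [hφ'x, ← hzy]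
      congr 2
      exact Subtype.ext hx
  have hext : extender S R φ ≤ extender S R φ' := by
    intro g hg
    rw [mem_extender_iff] at hg ⊢
    obtain ⟨hgS, hgN, h, hhS, hh⟩ := hg
    -- `h` normalizes `P`
    have hconj : ∀ y ∈ P, h * y * h⁻¹ ∈ P := by
      intro y hy
      have hy' : y ∈ φ.range := by rw [hrange]; exact hy
      obtain ⟨x, rfl⟩ := hy'
      have hx' : g * (x : Ω) * g⁻¹ ∈ R := (Subgroup.mem_normalizer_iff.1 hgN x).1 x.2
      rw [← hh x hx']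
      exact hφP _
    have hhN : h ∈ normalizerIn S P := ⟨hhS, mem_normalizer_of_finite hconj⟩
    refine ⟨hgS, hgN, ((eΘ ⟨h, hhN⟩ : normalizerIn S P') : Ω), (eΘ ⟨h, hhN⟩).2.1, fun x hx => ?_⟩
    rw [hφ'x, hφ'x]
    have e1 : (⟨φ ⟨g * (x : Ω) * g⁻¹, hx⟩, hPN (hφP _)⟩ : normalizerIn S P) =
        ⟨h, hhN⟩ * ⟨φ x, hPN (hφP x)⟩ * ⟨h, hhN⟩⁻¹ := Subtype.ext (hh x hx)
    rw [e1, map_mul, map_mul, map_inv]
    rfl
  obtain ⟨ψ', hψ', hψ'x⟩ := hP'r.2 R φ' hφ' hrange'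
  have hψ'N := restrict_mem E hψ' hext
  have hRle : R ≤ extender S R φ := le_extender_of_mem E hφ
  have hval : ∀ g : extender S R φ, (ψ'.comp (Subgroup.inclusion hext)) g ∈ normalizerIn S P' := by
    intro g
    refine ⟨(E.le_of_mem hψ'N).2 g, ?_⟩
    apply map_mem_normalizer (ψ'.comp (Subgroup.inclusion hext)) hRle (P := P')
    · intro q
      have : (ψ'.comp (Subgroup.inclusion hext)) (Subgroup.inclusion hRle q) = φ' q :=
        hψ'x q q.2 (hext (hRle q.2))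
      rw [this, ← hrange']
      exact ⟨q, rfl⟩
    · intro y hy
      rw [← hrange'] at hy
      obtain ⟨q, rfl⟩ := hy
      exact ⟨q, hψ'x q q.2 (hext (hRle q.2))⟩
    · exact ((mem_extender_iff S R φ g).1 g.2).2.1
  have hΘsymm : (normalizerIn S P).subtype.comp eΘ.symm.toMonoidHom ∈ E.Hom (normalizerIn S P') := heΘ.symm
  have hψ := E.comp_mem hψ'N hΘsymm hval
  refine ⟨_, hψ, fun x hxR hxN => ?_⟩
  show ((eΘ.symm ⟨ψ' ⟨x, hext hxN⟩, hval ⟨x, hxN⟩⟩ : normalizerIn S P) : Ω) = φ ⟨x, hxR⟩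
  have h1 : ψ' ⟨x, hext hxN⟩ = φ' ⟨x, hxR⟩ := hψ'x x hxR (hext hxN)
  have h2 : (⟨ψ' ⟨x, hext hxN⟩, hval ⟨x, hxN⟩⟩ : normalizerIn S P') = eΘ ⟨φ ⟨x, hxR⟩, hPN (hφP _)⟩ :=
    Subtype.ext (h1.trans (hφ'x _))
  rw [h2, MulEquiv.symm_apply_apply]

end Cfsg.Agent.Helper85
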