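-- Direct products of saturated fusion systems are saturated (helper85), via Stancu's criterion (S5111).
import Cfsg.Agent.Helper85.Product2
import Cfsg.Agent.S5111

set_option autoImplicit false

namespace Cfsg.Agent.Helper85

open Cfsg Cfsg.FusionSystem Cfsg.Agent.Helper87 Cfsg.Agent.S5136

section general
variable {Ω : Type*} [Group Ω] {S : Subgroup Ω}

/-- If `S` is fully automized, every `p`-element of `Aut_F(S)` is an inner automorphism of `S`. -/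
theorem mem_autInducedBy_of_pElement [Finite S] {p : ℕ} [Fact p.Prime] (F : FusionSystem S)
    (hSa : F.IsFullyAutomized p S) (α : MulAut S) (hα : α ∈ F.autGroup S) (k : ℕ) (hk : α ^ p ^ k = 1) :
    α ∈ autInducedBy S S := by
  obtain ⟨-, R, hR⟩ := hSa
  have : Finite (MulAut S) := finite_mulAut_of_le le_rfl
  have ha : (⟨α, hα⟩ : F.autGroup S) ^ p ^ k = 1 := Subtype.ext hk
  have hp : IsPGroup p (Subgroup.zpowers (⟨α, hα⟩ : F.autGroup S)) := by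
    rintro ⟨x, hx⟩
    obtain ⟨n, rfl⟩ := Subgroup.mem_zpowers_iff.1 hx
    refine ⟨k, Subtype.ext ?_⟩
    show ((⟨α, hα⟩ : F.autGroup S) ^ n) ^ p ^ k = 1
    rw [← zpow_natCast, ← zpow_mul, mul_comm, zpow_mul, zpow_natCast, ha, one_zpow]
  obtain ⟨b, hb⟩ := exists_conj_mem_sylow_of_isPGroup R _ hp
  have h1 := hb _ (Subgroup.mem_zpowers (⟨α, hα⟩ : F.autGroup S))
  rw [hR, Subgroup.mem_subgroupOf, mem_autInducedBy_iff] at h1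
  obtain ⟨g, hg, hgx⟩ := h1
  rw [mem_autInducedBy_iff]
  refine ⟨(((b : MulAut S)⁻¹ ⟨g, hg⟩ : S) : Ω), ((b : MulAut S)⁻¹ ⟨g, hg⟩).2, fun x => ?_⟩
  have h2 := hgx ((b : MulAut S) x)
  have h3 : ((b * ⟨α, hα⟩ * b⁻¹ : F.autGroup S) : MulAut S) ((b : MulAut S) x) = (b : MulAut S) (α x) := by
    show (b : MulAut S) (α ((b : MulAut S)⁻¹ ((b : MulAut S) x))) = _
    rw [MulAut.inv_apply_self]
  rw [h3] at h2
  have h4 : (b : MulAut S) (α x) = ⟨g, hg⟩ * (b : MulAut S) x * ⟨g, hg⟩⁻¹ := Subtype.ext h2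
  have h5 : α x = (b : MulAut S)⁻¹ ⟨g, hg⟩ * x * ((b : MulAut S)⁻¹ ⟨g, hg⟩)⁻¹ := by
    have := congrArg (fun y => (b : MulAut S)⁻¹ y) h4
    simp only [MulAut.inv_apply_self, map_mul, map_inv] at this
    exact this
  rw [h5]
  rfl

end general

variable {Ω₁ Ω₂ : Type*} [Group Ω₁] [Group Ω₂] {S₁ : Subgroup Ω₁} {S₂ : Subgroup Ω₂}

/-- The automorphism of `S₁ × S₂` given by a pair of automorphisms. -/
def prodAut (α₁ : MulAut S₁) (α₂ : MulAut S₂) : MulAut ↥(S₁.prod S₂) :=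
  (Subgroup.prodEquiv S₁ S₂).trans ((MulEquiv.prodCongr α₁ α₂).trans (Subgroup.prodEquiv S₁ S₂).symm)

theorem prodAut_apply (α₁ : MulAut S₁) (α₂ : MulAut S₂) (x : ↥(S₁.prod S₂)) :
    ((prodAut α₁ α₂ x : ↥(S₁.prod S₂)) : Ω₁ × Ω₂) =
      (((α₁ ⟨(x : Ω₁ × Ω₂).1, x.2.1⟩ : S₁) : Ω₁), ((α₂ ⟨(x : Ω₁ × Ω₂).2, x.2.2⟩ : S₂) : Ω₂)) := rfl

/-- `prodAut` as a homomorphism. -/
def prodAutHom (S₁ : Subgroup Ω₁) (S₂ : Subgroup Ω₂) : MulAut S₁ × MulAut S₂ →* MulAut ↥(S₁.prod S₂) where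
  toFun a := prodAut a.1 a.2
  map_one' := by
    ext x <;> rfl
  map_mul' a b := by
    ext x <;> rfl

theorem prodAut_pow (α₁ : MulAut S₁) (α₂ : MulAut S₂) (n : ℕ) : prodAut α₁ α₂ ^ n = prodAut (α₁ ^ n) (α₂ ^ n) := by
  have := map_pow (prodAutHom S₁ S₂) (α₁, α₂) n
  exact this.symm

theorem prodAut_eq_one {α₁ : MulAut S₁} {α₂ : MulAut S₂} (h : prodAut α₁ α₂ = 1) : α₁ = 1 ∧ α₂ = 1 := by
  constructor
  · ext s
    have := congrArg (fun γ : MulAut ↥(S₁.prod S₂) => ((γ ⟨((s : Ω₁), (1 : Ω₂)), ⟨s.2, S₂.one_mem⟩⟩ : ↥(S₁.prod S₂)) : Ω₁ × Ω₂).1) h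
    exact this
  · ext s
    have := congrArg (fun γ : MulAut ↥(S₁.prod S₂) => ((γ ⟨((1 : Ω₁), (s : Ω₂)), ⟨S₁.one_mem, s.2⟩⟩ : ↥(S₁.prod S₂)) : Ω₁ × Ω₂).2) h
    exact this

theorem isPGroup_prod {p : ℕ} (h₁ : IsPGroup p S₁) (h₂ : IsPGroup p S₂) : IsPGroup p ↥(S₁.prod S₂) := by
  rintro ⟨⟨a, b⟩, ha, hb⟩
  obtain ⟨k, hk⟩ := h₁ ⟨a, ha⟩
  obtain ⟨l, hl⟩ := h₂ ⟨b, hb⟩
  have hk' : a ^ p ^ k = 1 := congrArg Subtype.val hk
  have hl' : b ^ p ^ l = 1 := congrArg Subtype.val hl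
  refine ⟨k + l, Subtype.ext (Prod.ext ?_ ?_)⟩
  · show a ^ p ^ (k + l) = 1
    rw [pow_add, pow_mul, hk', one_pow]
  · show b ^ p ^ (k + l) = 1
    rw [pow_add, mul_comm, pow_mul, hl', one_pow]

section
variable (F₁ : FusionSystem S₁) (F₂ : FusionSystem S₂) (E : FusionSystem (S₁.prod S₂))

/-- In a product of saturated systems, a fully normalized subgroup is receptive. -/
theorem receptive_of_fullyNormalized_prod [Finite S₁] [Finite S₂] {p : ℕ} [Fact p.Prime] (h₁ : IsPGroup p S₁)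
    (h₂ : IsPGroup p S₂) (hF₁ : F₁.IsSaturated p) (hF₂ : F₂.IsSaturated p) (hE : IsProductSystem F₁ F₂ E)
    {P : Subgroup (Ω₁ × Ω₂)} (hP : E.IsFullyNormalized P) : E.IsReceptive P := by
  have hPS := hP.1
  have : Finite ↥(S₁.prod S₂) := Finite.of_equiv _ (Subgroup.prodEquiv S₁ S₂).symm.toEquiv
  have hP₁S : P.map (MonoidHom.fst Ω₁ Ω₂) ≤ S₁ := map_fst_le hPS
  have hP₂S : P.map (MonoidHom.snd Ω₁ Ω₂) ≤ S₂ := map_snd_le hPS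
  obtain ⟨Q₁, hPQ₁, hQ₁n⟩ := exists_isConj_fullyNormalized F₁ hP₁S
  obtain ⟨hQ₁c, hQ₁a⟩ := fullyAutomized_fullyCentralized_of_fullyNormalized h₁ F₁ hF₁ hQ₁n
  have hQ₁r := receptive_of_fullyCentralized h₁ F₁ hF₁ hQ₁c
  obtain ⟨e₁, he₁⟩ := (isConj_iff F₁ _ Q₁).1 hPQ₁
  obtain ⟨θ₁, hθ₁, e₁', he₁', hθ₁x, hθ₁N, -, -⟩ := exists_extension_normalizerIn' h₁ F₁ hQ₁a hQ₁r e₁ he₁
  obtain ⟨Q₂, hPQ₂, hQ₂n⟩ := exists_isConj_fullyNormalized F₂ hP₂S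
  obtain ⟨hQ₂c, hQ₂a⟩ := fullyAutomized_fullyCentralized_of_fullyNormalized h₂ F₂ hF₂ hQ₂n
  have hQ₂r := receptive_of_fullyCentralized h₂ F₂ hF₂ hQ₂c
  obtain ⟨e₂, he₂⟩ := (isConj_iff F₂ _ Q₂).1 hPQ₂
  obtain ⟨θ₂, hθ₂, e₂', he₂', hθ₂x, hθ₂N, -, -⟩ := exists_extension_normalizerIn' h₂ F₂ hQ₂a hQ₂r e₂ he₂
  have hNP : normalizerIn (S₁.prod S₂) P ≤
      (normalizerIn S₁ (P.map (MonoidHom.fst Ω₁ Ω₂))).prod (normalizerIn S₂ (P.map (MonoidHom.snd Ω₁ Ω₂))) := by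
    rintro g ⟨hgS, hgN⟩
    exact ⟨⟨hgS.1, fst_mem_normalizer hgN⟩, ⟨hgS.2, snd_mem_normalizer hgN⟩⟩
  have hΘ := prodMap_mem F₁ F₂ E hE hNP hθ₁ hθ₂
  have hPN : P ≤ normalizerIn (S₁.prod S₂) P := le_normalizerIn hPS
  have hΘP := restrict_mem E hΘ hPN
  have hΘx : ∀ x : normalizerIn (S₁.prod S₂) P, prodMap hNP θ₁ θ₂ x =
      (θ₁ ⟨(x : Ω₁ × Ω₂).1, (hNP x.2).1⟩, θ₂ ⟨(x : Ω₁ × Ω₂).2, (hNP x.2).2⟩) := fun x => rfl
  have hconj : E.IsConj P ((prodMap hNP θ₁ θ₂).comp (Subgroup.inclusion hPN)).range := ⟨_, hΘP, rfl⟩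
  have hP'S : ((prodMap hNP θ₁ θ₂).comp (Subgroup.inclusion hPN)).range ≤ S₁.prod S₂ := by
    rintro _ ⟨x, rfl⟩
    exact (E.le_of_mem hΘP).2 x
  have hfst : (((prodMap hNP θ₁ θ₂).comp (Subgroup.inclusion hPN)).range).map (MonoidHom.fst Ω₁ Ω₂) = Q₁ := by
    ext y
    constructor
    · rintro ⟨_, ⟨x, rfl⟩, rfl⟩
      have h1 := hθ₁x ⟨(x : Ω₁ × Ω₂).1, fst_mem P x⟩
      show θ₁ ⟨(x : Ω₁ × Ω₂).1, _⟩ ∈ Q₁
      rw [h1]
      exact (e₁' _).2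
    · intro hy
      obtain ⟨⟨_, x, hx, rfl⟩, hx₁⟩ : ∃ x₁, e₁' x₁ = ⟨y, hy⟩ := ⟨e₁'.symm ⟨y, hy⟩, by simp⟩
      refine ⟨_, ⟨⟨x, hx⟩, rfl⟩, ?_⟩
      have h1 := hθ₁x ⟨(MonoidHom.fst Ω₁ Ω₂) x, ⟨x, hx, rfl⟩⟩
      exact h1.trans (congrArg Subtype.val hx₁)
  have hsnd : (((prodMap hNP θ₁ θ₂).comp (Subgroup.inclusion hPN)).range).map (MonoidHom.snd Ω₁ Ω₂) = Q₂ := by
    ext y
    constructor
    · rintro ⟨_, ⟨x, rfl⟩, rfl⟩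
      have h1 := hθ₂x ⟨(x : Ω₁ × Ω₂).2, snd_mem P x⟩
      show θ₂ ⟨(x : Ω₁ × Ω₂).2, _⟩ ∈ Q₂
      rw [h1]
      exact (e₂' _).2
    · intro hy
      obtain ⟨⟨_, x, hx, rfl⟩, hx₁⟩ : ∃ x₁, e₂' x₁ = ⟨y, hy⟩ := ⟨e₂'.symm ⟨y, hy⟩, by simp⟩
      refine ⟨_, ⟨⟨x, hx⟩, rfl⟩, ?_⟩
      have h1 := hθ₂x ⟨(MonoidHom.snd Ω₁ Ω₂) x, ⟨x, hx, rfl⟩⟩
      exact h1.trans (congrArg Subtype.val hx₁)
  have hP'r : E.IsReceptive ((prodMap hNP θ₁ θ₂).comp (Subgroup.inclusion hPN)).range := by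
    apply receptive_of_proj F₁ F₂ E hE hP'S
    · rw [hfst]; exact hQ₁r
    · rw [hsnd]; exact hQ₂r
  have hΘN : ∀ x : normalizerIn (S₁.prod S₂) P, prodMap hNP θ₁ θ₂ x ∈
      normalizerIn (S₁.prod S₂) ((prodMap hNP θ₁ θ₂).comp (Subgroup.inclusion hPN)).range := by
    intro x
    refine ⟨(E.le_of_mem hΘ).2 x, ?_⟩
    apply map_mem_normalizer (P := ((prodMap hNP θ₁ θ₂).comp (Subgroup.inclusion hPN)).range)
      (prodMap hNP θ₁ θ₂) hPN (fun q => ⟨q, rfl⟩) _ x x.2.2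
    rintro y ⟨q, rfl⟩
    exact ⟨q, rfl⟩
  have hsurj := extension_surjective_of_fullyNormalized E hP (isoOfRange E hΘP rfl) (isIso_isoOfRange E hΘP rfl)
    hΘ hΘN
  have hinj : Function.Injective ((prodMap hNP θ₁ θ₂).codRestrict _ hΘN) := by
    intro a b hab
    exact E.injective_of_mem hΘ (congrArg Subtype.val hab)
  have hbij : Function.Bijective ((prodMap hNP θ₁ θ₂).codRestrict _ hΘN) := by
    refine ⟨hinj, fun y => ?_⟩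
    obtain ⟨g, hg⟩ := hsurj y y.2
    exact ⟨g, Subtype.ext hg⟩
  let eΘ : normalizerIn (S₁.prod S₂) P ≃*
      normalizerIn (S₁.prod S₂) ((prodMap hNP θ₁ θ₂).comp (Subgroup.inclusion hPN)).range :=
    MulEquiv.ofBijective _ hbij
  have heΘ : IsIso E eΘ := mem_of_eq E hΘ (fun x => rfl)
  apply receptive_of_iso_normalizerIn E hPS hP'r eΘ heΘ
  · intro x hx
    exact ⟨⟨x, hx⟩, rfl⟩
  · rintro y ⟨q, rfl⟩
    exact ⟨Subgroup.inclusion hPN q, q.2, rfl⟩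

/-- `S₁ × S₂` is fully automized in the product system. -/
theorem fullyAutomized_prod_top [Finite S₁] [Finite S₂] {p : ℕ} [Fact p.Prime] (h₁ : IsPGroup p S₁)
    (h₂ : IsPGroup p S₂) (hE : IsProductSystem F₁ F₂ E) (hS₁a : F₁.IsFullyAutomized p S₁)
    (hS₂a : F₂.IsFullyAutomized p S₂) : E.IsFullyAutomized p (S₁.prod S₂) := by
  have : Finite ↥(S₁.prod S₂) := Finite.of_equiv _ (Subgroup.prodEquiv S₁ S₂).symm.toEquiv
  have hS : IsPGroup p ↥(S₁.prod S₂) := isPGroup_prod h₁ h₂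
  refine ⟨le_rfl, ?_⟩
  have : Finite (MulAut ↥(S₁.prod S₂)) := finite_mulAut_of_le (S := S₁.prod S₂) le_rfl
  have hpel : ∀ γ : E.autGroup (S₁.prod S₂), (∃ k : ℕ, γ ^ p ^ k = 1) →
      γ ∈ (autInducedBy (S₁.prod S₂) (S₁.prod S₂)).subgroupOf (E.autGroup (S₁.prod S₂)) := by
    rintro γ ⟨k, hk⟩
    have hγ : IsIso E ((γ : MulAut ↥(S₁.prod S₂)) : ↥(S₁.prod S₂) ≃* ↥(S₁.prod S₂)) :=
      (mem_autGroup_iff E le_rfl _).1 γ.2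
    obtain ⟨-, φ₁, hφ₁, φ₂, hφ₂, hφx⟩ := exists_of_mem_prod F₁ F₂ E hE hγ
    have hle₁ : S₁ ≤ (S₁.prod S₂).map (MonoidHom.fst Ω₁ Ω₂) := fun s hs => ⟨(s, 1), ⟨hs, S₂.one_mem⟩, rfl⟩
    have hle₂ : S₂ ≤ (S₁.prod S₂).map (MonoidHom.snd Ω₁ Ω₂) := fun s hs => ⟨(1, s), ⟨S₁.one_mem, hs⟩, rfl⟩
    have hψ₁ := restrict_mem F₁ hφ₁ hle₁
    have hψ₂ := restrict_mem F₂ hφ₂ hle₂
    have hinj₁ : Function.Injective ((φ₁.comp (Subgroup.inclusion hle₁)).codRestrict S₁ (F₁.le_of_mem hψ₁).2) := by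
      intro a b hab
      exact F₁.injective_of_mem hψ₁ (congrArg Subtype.val hab)
    have hinj₂ : Function.Injective ((φ₂.comp (Subgroup.inclusion hle₂)).codRestrict S₂ (F₂.le_of_mem hψ₂).2) := by
      intro a b hab
      exact F₂.injective_of_mem hψ₂ (congrArg Subtype.val hab)
    let α₁ : MulAut S₁ := MulEquiv.ofBijective _ ⟨hinj₁, Finite.injective_iff_surjective.1 hinj₁⟩
    let α₂ : MulAut S₂ := MulEquiv.ofBijective _ ⟨hinj₂, Finite.injective_iff_surjective.1 hinj₂⟩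
    have hα₁ : α₁ ∈ F₁.autGroup S₁ := (mem_autGroup_iff F₁ le_rfl _).2 (mem_of_eq F₁ hψ₁ (fun x => rfl))
    have hα₂ : α₂ ∈ F₂.autGroup S₂ := (mem_autGroup_iff F₂ le_rfl _).2 (mem_of_eq F₂ hψ₂ (fun x => rfl))
    have hγeq : (γ : MulAut ↥(S₁.prod S₂)) = prodAut α₁ α₂ := by
      ext x
      · have := congrArg Prod.fst (hφx x)
        exact this
      · have := congrArg Prod.snd (hφx x)
        exact this
    have hk' : (γ : MulAut ↥(S₁.prod S₂)) ^ p ^ k = 1 := congrArg Subtype.val hk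
    rw [hγeq, prodAut_pow] at hk'
    obtain ⟨hk₁, hk₂⟩ := prodAut_eq_one hk'
    obtain ⟨g₁, hg₁, hg₁x⟩ := (mem_autInducedBy_iff S₁ S₁ α₁).1
      (mem_autInducedBy_of_pElement F₁ hS₁a α₁ hα₁ k hk₁)
    obtain ⟨g₂, hg₂, hg₂x⟩ := (mem_autInducedBy_iff S₂ S₂ α₂).1
      (mem_autInducedBy_of_pElement F₂ hS₂a α₂ hα₂ k hk₂)
    rw [Subgroup.mem_subgroupOf, mem_autInducedBy_iff]
    refine ⟨(g₁, g₂), ⟨hg₁, hg₂⟩, fun x => ?_⟩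
    rw [hγeq, prodAut_apply, hg₁x, hg₂x]
    rfl
  exact ⟨((isPGroup_autInducedBy hS (S₁.prod S₂)).comap_subtype).toSylow
    (Cfsg.Agent.Helper84.not_dvd_index_of_forall_pElement _ hpel), IsPGroup.toSylow_coe _ _⟩

/-- The direct product of two saturated fusion systems is saturated. -/
theorem isSaturated_prod [Finite S₁] [Finite S₂] {p : ℕ} [Fact p.Prime] (h₁ : IsPGroup p S₁) (h₂ : IsPGroup p S₂)
    (hF₁ : F₁.IsSaturated p) (hF₂ : F₂.IsSaturated p) (hE : IsProductSystem F₁ F₂ E) : E.IsSaturated p := by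
  have : Finite ↥(S₁.prod S₂) := Finite.of_equiv _ (Subgroup.prodEquiv S₁ S₂).symm.toEquiv
  have hS : IsPGroup p ↥(S₁.prod S₂) := isPGroup_prod h₁ h₂
  rw [Cfsg.Agent.S5111.result p hS E]
  exact ⟨fullyAutomized_prod_top F₁ F₂ E h₁ h₂ hE ((Cfsg.Agent.S5111.result p h₁ F₁).1 hF₁).1
    ((Cfsg.Agent.S5111.result p h₂ F₂).1 hF₂).1,
    fun P hP => receptive_of_fullyNormalized_prod F₁ F₂ E h₁ h₂ hF₁ hF₂ hE hP⟩

end

end Cfsg.Agent.Helper85
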