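import Mathlib
import Cfsg.Agent.Helper99.Pron.Defs

/-! # S2225/S2226 block I (helper99 farm #15213), piece (GK) (helper85)

`GK` with its prerequisites `GK_BM1`, `GK_BM3`, `GK_GK2` (own copies of (BM1), (BM3), (GK2)). -/

set_option autoImplicit false

namespace Cfsg.Agent.Helper85.Pron

open Matrix Cfsg.Agent.Helper99.Pron

variable {F : Type*} [Field F] {ι : Type*} [Fintype ι] [DecidableEq ι]

/-- own copy of (BM1) -/
theorem GK_BM1 (h2 : (2 : F) ≠ 0) (X : Matrix (ι ⊕ ι) (ι ⊕ ι) F)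
    (h : fromBlocks (-1 : Matrix ι ι F) 0 0 1 * X = X * fromBlocks (-1 : Matrix ι ι F) 0 0 1) :
    X.toBlocks₁₂ = 0 ∧ X.toBlocks₂₁ = 0 := by
  have hX : X = fromBlocks X.toBlocks₁₁ X.toBlocks₁₂ X.toBlocks₂₁ X.toBlocks₂₂ :=
    (fromBlocks_toBlocks X).symm
  generalize X.toBlocks₁₁ = A at hX
  generalize X.toBlocks₁₂ = B at hX ⊢
  generalize X.toBlocks₂₁ = C at hX ⊢
  generalize X.toBlocks₂₂ = D at hX
  subst hX
  rw [fromBlocks_multiply, fromBlocks_multiply] at h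
  obtain ⟨-, h12, h21, -⟩ := fromBlocks_inj.1 h
  simp only [neg_mul, one_mul, zero_mul, add_zero, mul_zero, zero_add, mul_one, mul_neg] at h12 h21
  have key : ∀ M : Matrix ι ι F, -M = M → M = 0 := by
    intro M hM
    ext i j
    have h1 : -(M i j) = M i j := by
      have := congrFun (congrFun hM i) j
      simpa using this
    have h3 : (2 : F) * M i j = 0 := by linear_combination -h1
    rcases mul_eq_zero.mp h3 with h4 | h4
    · exact absurd h4 h2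
    · simpa using h4
  exact ⟨key B h12, key C h21.symm⟩

/-- own copy of (BM3) -/
theorem GK_BM3 [Nonempty ι] (l m : F) (a b : GL ι F)
    (h : (ad a b : GL (ι ⊕ ι) F).1 * fromBlocks (l • (1 : Matrix ι ι F)) 0 0 (m • 1) =
      fromBlocks (l • (1 : Matrix ι ι F)) 0 0 (m • 1) * (ad a b : GL (ι ⊕ ι) F).1) : l = m := by
  have h' : fromBlocks (0 : Matrix ι ι F) a.1 b.1 0 * fromBlocks (l • (1 : Matrix ι ι F)) 0 0 (m • 1) =
      fromBlocks (l • (1 : Matrix ι ι F)) 0 0 (m • 1) * fromBlocks (0 : Matrix ι ι F) a.1 b.1 0 := h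
  rw [fromBlocks_multiply, fromBlocks_multiply] at h'
  obtain ⟨-, h12, -, -⟩ := fromBlocks_inj.1 h'
  simp only [mul_zero, zero_add, add_zero, Matrix.mul_smul, Matrix.smul_mul, mul_one,
    one_mul] at h12
  -- h12 : m • a = l • a
  have ha : (a : Matrix ι ι F) ≠ 0 := by
    intro h0
    have : IsUnit (a : Matrix ι ι F) := a.isUnit
    rw [h0] at this
    exact not_isUnit_zero this
  by_contra hlm
  apply ha
  ext i j
  have h1 : m * (a : Matrix ι ι F) i j = l * (a : Matrix ι ι F) i j := by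
    have := congrFun (congrFun h12 i) j
    simpa using this
  have h3 : (l - m) * (a : Matrix ι ι F) i j = 0 := by linear_combination -h1
  rcases mul_eq_zero.mp h3 with h4 | h4
  · exact absurd (sub_eq_zero.mp h4) hlm
  · simpa using h4

/-- own copy of (GK2) -/
theorem GK_GK2 (h2 : (2 : F) ≠ 0) (Q : Subgroup (GL ι F))
    (hQ : ∀ X : Matrix ι ι F,
      (∀ a ∈ Q, (a : Matrix ι ι F) * X = X * (a : Matrix ι ι F)) → ∃ l : F, X = l • 1)
    (T : Subgroup (GL (ι ⊕ ι) F))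
    (hneg : ∃ m : GL ι F, (m : Matrix ι ι F) = -1 ∧ bd m 1 ∈ T)
    (hp1 : ∀ a ∈ Q, ∃ b : GL ι F, bd a b ∈ T) (hp2 : ∀ b ∈ Q, ∃ a : GL ι F, bd a b ∈ T)
    (X : Matrix (ι ⊕ ι) (ι ⊕ ι) F)
    (hX : ∀ g ∈ T, (g : Matrix (ι ⊕ ι) (ι ⊕ ι) F) * X = X * (g : Matrix (ι ⊕ ι) (ι ⊕ ι) F)) :
    ∃ l m : F, X = fromBlocks (l • (1 : Matrix ι ι F)) 0 0 (m • 1) := by
  obtain ⟨m, hm, hmT⟩ := hneg
  have h1 := hX _ hmT
  rw [bd_val, hm, Units.val_one] at h1
  obtain ⟨h12, h21⟩ := GK_BM1 h2 X h1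
  have hXb : X = fromBlocks X.toBlocks₁₁ 0 0 X.toBlocks₂₂ := by
    conv_lhs => rw [← fromBlocks_toBlocks X, h12, h21]
  generalize X.toBlocks₁₁ = A at hXb
  generalize X.toBlocks₂₂ = D at hXb
  subst hXb
  have hA : ∃ l : F, A = l • 1 := by
    apply hQ
    intro a ha
    obtain ⟨b, hb⟩ := hp1 a ha
    have := hX _ hb
    rw [bd_val, fromBlocks_multiply, fromBlocks_multiply] at this
    obtain ⟨h11, -, -, -⟩ := fromBlocks_inj.1 this
    simpa using h11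
  have hD : ∃ l : F, D = l • 1 := by
    apply hQ
    intro b hb
    obtain ⟨a, ha⟩ := hp2 b hb
    have := hX _ ha
    rw [bd_val, fromBlocks_multiply, fromBlocks_multiply] at this
    obtain ⟨-, -, -, h22⟩ := fromBlocks_inj.1 this
    simpa using h22
  obtain ⟨l, rfl⟩ := hA
  obtain ⟨m', rfl⟩ := hD
  exact ⟨l, m', rfl⟩

/-- (GK) if moreover `T` contains an antidiagonal element, the commutant is the scalars (GK2 + BM3;
`fromBlocks (l • 1) 0 0 (l • 1) = l • 1` by `fromBlocks_smul`, `fromBlocks_one`). -/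
theorem GK [Nonempty ι] (h2 : (2 : F) ≠ 0) (Q : Subgroup (GL ι F))
    (hQ : ∀ X : Matrix ι ι F,
      (∀ a ∈ Q, (a : Matrix ι ι F) * X = X * (a : Matrix ι ι F)) → ∃ l : F, X = l • 1)
    (T : Subgroup (GL (ι ⊕ ι) F))
    (hneg : ∃ m : GL ι F, (m : Matrix ι ι F) = -1 ∧ bd m 1 ∈ T)
    (hτ : ∃ a₀ b₀ : GL ι F, ad a₀ b₀ ∈ T)
    (hp1 : ∀ a ∈ Q, ∃ b : GL ι F, bd a b ∈ T) (hp2 : ∀ b ∈ Q, ∃ a : GL ι F, bd a b ∈ T)
    (X : Matrix (ι ⊕ ι) (ι ⊕ ι) F)
    (hX : ∀ g ∈ T, (g : Matrix (ι ⊕ ι) (ι ⊕ ι) F) * X = X * (g : Matrix (ι ⊕ ι) (ι ⊕ ι) F)) :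
    ∃ l : F, X = l • 1 := by
  obtain ⟨l, m, rfl⟩ := GK_GK2 h2 Q hQ T hneg hp1 hp2 X hX
  obtain ⟨a₀, b₀, hab⟩ := hτ
  have hlm : l = m := GK_BM3 l m a₀ b₀ (hX _ hab)
  subst hlm
  refine ⟨l, ?_⟩
  rw [← fromBlocks_one, fromBlocks_smul, smul_zero]

end Cfsg.Agent.Helper85.Pron
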