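import Mathlib
import Cfsg.Agent.Helper99.Pron.Defs
import Cfsg.Agent.Helper85.PronGK

/-! # S2225/S2226 block I (helper99 farm #15213), piece (C6) `comm6_Wr` (helper85)

Own copies `C6_det_bd`, `C6_det_J` of (DET). -/

set_option autoImplicit false

namespace Cfsg.Agent.Helper85.Pron

open Matrix Cfsg.Agent.Helper99.Pron

variable {F : Type*} [Field F] {ι : Type*} [Fintype ι] [DecidableEq ι]

/-- own copy of (DETBD) -/
theorem C6_det_bd (a b : GL ι F) :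
    ((bd a b : GL (ι ⊕ ι) F) : Matrix (ι ⊕ ι) (ι ⊕ ι) F).det =
      (a : Matrix ι ι F).det * (b : Matrix ι ι F).det := by
  rw [bd_val, det_fromBlocks_zero₂₁]

/-- own copy of (DETJ) -/
theorem C6_det_J : (fromBlocks (0 : Matrix ι ι F) (1 : Matrix ι ι F) (-1) 0).det = 1 := by
  have h : fromBlocks (0 : Matrix ι ι F) (1 : Matrix ι ι F) (-1) 0 =
      fromBlocks (1 : Matrix ι ι F) (1 : Matrix ι ι F) 0 (1 : Matrix ι ι F) *
        fromBlocks (1 : Matrix ι ι F) 0 (-1 : Matrix ι ι F) (1 : Matrix ι ι F) *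
        fromBlocks (1 : Matrix ι ι F) (1 : Matrix ι ι F) 0 (1 : Matrix ι ι F) := by
    rw [fromBlocks_multiply, fromBlocks_multiply]
    simp
  rw [h, det_mul, det_mul, det_fromBlocks_zero₂₁, det_fromBlocks_zero₁₂]
  simp

/-- the determinant of the inverse -/
theorem C6_det_inv (a : GL ι F) :
    (a : Matrix ι ι F).det * ((a⁻¹ : GL ι F) : Matrix ι ι F).det = 1 := by
  rw [← det_mul, ← Units.val_mul, mul_inv_cancel, Units.val_one, det_one]

/-- (C6) commutant of `Ksub (Wr P)` is the scalars, for `P` with `InvP`: `Ksub (Wr P)` contains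
`bd c 1` (`c` from `neg1`; its square is `diag(-1,1)`), `bd a a⁻¹` (`a ∈ P`) and `ad 1 m` with
`m = c * c` (`m.1 = -1`, determinant one by det_J); all have determinant `1 = (det 1)²`.
Use GK with `Q := P`, `T := Ksub (Wr P)`. -/
theorem comm6_Wr [Nonempty ι] (h2 : (2 : F) ≠ 0) (P : Subgroup (GL ι F)) (hP : InvP P) :
    ∀ X : Matrix (ι ⊕ ι) (ι ⊕ ι) F,
      (∀ g ∈ Wr P, (∃ e ∈ Wr P, (g : Matrix (ι ⊕ ι) (ι ⊕ ι) F).det =
          (e : Matrix (ι ⊕ ι) (ι ⊕ ι) F).det ^ 2) →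
        (g : Matrix (ι ⊕ ι) (ι ⊕ ι) F) * X = X * (g : Matrix (ι ⊕ ι) (ι ⊕ ι) F)) →
      ∃ l : F, X = l • 1 := by
  intro X hX
  obtain ⟨c, hcP, hcc, hcdet⟩ := hP.neg1
  -- membership in `Ksub (Wr P)` of elements of `Wr P` of determinant one
  have hone : ∀ g ∈ Wr P, (g : Matrix (ι ⊕ ι) (ι ⊕ ι) F).det = 1 → g ∈ Ksub (Wr P) := by
    intro g hg hdet
    refine mem_Ksub.mpr ⟨hg, 1, (Wr P).one_mem, ?_⟩
    rw [hdet, Units.val_one, det_one, one_pow]
  have hm : ((c * c : GL ι F) : Matrix ι ι F) = -1 := by rw [Units.val_mul, hcc]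
  have hmP : c * c ∈ P := P.mul_mem hcP hcP
  have hmdet : ((c * c : GL ι F) : Matrix ι ι F).det = 1 := by
    rw [Units.val_mul, det_mul, hcdet, mul_one]
  refine GK h2 P hP.comm (Ksub (Wr P)) ⟨c * c, hm, ?_⟩ ⟨1, c * c, ?_⟩ ?_ ?_ X ?_
  · apply hone _ (bd_mem_Wr hmP P.one_mem)
    rw [C6_det_bd, hmdet, Units.val_one, det_one, mul_one]
  · apply hone _ (ad_mem_Wr P.one_mem hmP)
    rw [ad_val, hm, Units.val_one]
    exact C6_det_J
  · intro a ha
    refine ⟨a⁻¹, hone _ (bd_mem_Wr ha (P.inv_mem ha)) ?_⟩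
    rw [C6_det_bd]
    exact C6_det_inv a
  · intro b hb
    refine ⟨b⁻¹, hone _ (bd_mem_Wr (P.inv_mem hb) hb) ?_⟩
    rw [C6_det_bd, mul_comm]
    exact C6_det_inv b
  · intro g hg
    obtain ⟨hgW, e, heW, hge⟩ := mem_Ksub.mp hg
    exact hX g hgW ⟨e, heW, hge⟩

end Cfsg.Agent.Helper85.Pron
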