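-- The automizer of a subgroup in a realized fusion system is a quotient of its normalizer in the group (helper85).
import Cfsg.Agent.Helper87.FusionBasic

set_option autoImplicit false

namespace Cfsg.Agent.Helper85

open Cfsg Cfsg.FusionSystem

variable {Ω : Type*} [Group Ω] {G : Type*} [Group G] {S : Subgroup Ω}

/-- The image in the group of a subgroup of `S`. -/
def imgR (ι : S →* G) (Q : Subgroup Ω) : Subgroup G := (Q.subgroupOf S).map ι

theorem mem_imgR (ι : S →* G) {Q : Subgroup Ω} (hQ : Q ≤ S) (y : G) :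
    y ∈ imgR ι Q ↔ ∃ (x : Ω) (hx : x ∈ Q), ι ⟨x, hQ hx⟩ = y := by
  constructor
  · rintro ⟨s, hs, rfl⟩
    exact ⟨s.1, Subgroup.mem_subgroupOf.mp hs, rfl⟩
  · rintro ⟨x, hx, rfl⟩
    exact ⟨⟨x, hQ hx⟩, Subgroup.mem_subgroupOf.mpr hx, rfl⟩

/-- The isomorphism of a subgroup of `S` with its image. -/
noncomputable def imgREquiv (ι : S →* G) (hinj : Function.Injective ι) {Q : Subgroup Ω} (hQ : Q ≤ S) :
    Q ≃* imgR ι Q :=
  (Subgroup.subgroupOfEquivOfLe hQ).symm.trans ((Q.subgroupOf S).equivMapOfInjective ι hinj)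

theorem imgREquiv_apply (ι : S →* G) (hinj : Function.Injective ι) {Q : Subgroup Ω} (hQ : Q ≤ S) (x : Q) :
    ((imgREquiv ι hinj hQ x : imgR ι Q) : G) = ι ⟨x, hQ x.2⟩ := rfl

/-- The action of the normalizer of the image of `Q` on `Q`. -/
noncomputable def autHomR (ι : S →* G) (hinj : Function.Injective ι) {Q : Subgroup Ω} (hQ : Q ≤ S) :
    Subgroup.normalizer ((imgR ι Q : Subgroup G) : Set G) →* MulAut Q :=
  (MulAut.congr (imgREquiv ι hinj hQ).symm).toMonoidHom.comp (imgR ι Q).normalizerMonoidHom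

theorem autHomR_spec (ι : S →* G) (hinj : Function.Injective ι) {Q : Subgroup Ω} (hQ : Q ≤ S)
    (n : Subgroup.normalizer ((imgR ι Q : Subgroup G) : Set G)) (x : Q) :
    ι ⟨(autHomR ι hinj hQ n x : Q), hQ (autHomR ι hinj hQ n x).2⟩ = (n : G) * ι ⟨x, hQ x.2⟩ * (n : G)⁻¹ := by
  rw [← imgREquiv_apply ι hinj hQ, ← imgREquiv_apply ι hinj hQ]
  show (((imgREquiv ι hinj hQ) ((imgREquiv ι hinj hQ).symm
    ((imgR ι Q).normalizerMonoidHom n ((imgREquiv ι hinj hQ) x))) : imgR ι Q) : G) = _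
  rw [MulEquiv.apply_symm_apply]
  rfl

theorem autHomR_ker (ι : S →* G) (hinj : Function.Injective ι) {Q : Subgroup Ω} (hQ : Q ≤ S) :
    (autHomR ι hinj hQ).ker =
      (Subgroup.centralizer ((imgR ι Q : Subgroup G) : Set G)).subgroupOf
        (Subgroup.normalizer ((imgR ι Q : Subgroup G) : Set G)) := by
  rw [← Subgroup.normalizerMonoidHom_ker]
  ext n
  rw [MonoidHom.mem_ker, MonoidHom.mem_ker]
  show (MulAut.congr (imgREquiv ι hinj hQ).symm) ((imgR ι Q).normalizerMonoidHom n) = 1 ↔ _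
  rw [MulEquiv.map_eq_one_iff]

/-- The range of the action is the automizer of `Q` in the realized system. -/
theorem autHomR_range (F : FusionSystem S) (ι : S →* G) (hι : F.IsRealizedBy ι) {Q : Subgroup Ω} (hQ : Q ≤ S) :
    (autHomR ι hι.1 hQ).range = F.autGroup Q := by
  obtain ⟨hinj, hreal⟩ := hι
  ext α
  rw [Cfsg.Agent.Helper87.mem_autGroup_iff F hQ α]
  show _ ↔ Q.subtype.comp α.toMonoidHom ∈ F.Hom Q
  rw [hreal Q hQ (Q.subtype.comp α.toMonoidHom) (fun x => hQ (α x).2)]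
  constructor
  · rintro ⟨n, rfl⟩
    exact ⟨(n : G), fun x => autHomR_spec ι hinj hQ n x⟩
  · rintro ⟨g, hg⟩
    have hg' : ∀ x : Q, ι ⟨(α x : Q), hQ (α x).2⟩ = g * ι ⟨x, hQ x.2⟩ * g⁻¹ := hg
    have hgn : g ∈ Subgroup.normalizer ((imgR ι Q : Subgroup G) : Set G) := by
      rw [Subgroup.mem_normalizer_iff]
      intro h
      constructor
      · intro hh
        obtain ⟨x, hx, rfl⟩ := (mem_imgR ι hQ h).mp hh
        rw [← hg' ⟨x, hx⟩]
        exact (mem_imgR ι hQ _).mpr ⟨_, (α ⟨x, hx⟩).2, rfl⟩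
      · intro hh
        obtain ⟨y, hy, hyh⟩ := (mem_imgR ι hQ _).mp hh
        have h1 := hg' (α.symm ⟨y, hy⟩)
        rw [MulEquiv.apply_symm_apply] at h1
        have h2 : ι ⟨y, hQ hy⟩ = g * ι ⟨(α.symm ⟨y, hy⟩ : Q), hQ (α.symm ⟨y, hy⟩).2⟩ * g⁻¹ := h1
        rw [hyh] at h2
        have h3 : h = ι ⟨(α.symm ⟨y, hy⟩ : Q), hQ (α.symm ⟨y, hy⟩).2⟩ := by
          have := congrArg (fun z => g⁻¹ * z * g) h2
          simpa [mul_assoc] using this
        rw [h3]
        exact (mem_imgR ι hQ _).mpr ⟨_, (α.symm ⟨y, hy⟩).2, rfl⟩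
    refine ⟨⟨g, hgn⟩, ?_⟩
    ext x
    have h1 := autHomR_spec ι hinj hQ ⟨g, hgn⟩ x
    rw [← hg' x] at h1
    exact congrArg (fun z : S => (z : Ω)) (hinj h1)

end Cfsg.Agent.Helper85
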