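-- A realized system is also realized by the quotient of the group by a normal subgroup of order prime to p (helper85).
import Cfsg.Agent.Helper85.FacRealize

set_option autoImplicit false

namespace Cfsg.Agent.Helper85

open Cfsg Cfsg.FusionSystem

variable {Ω : Type*} [Group Ω]

/-- A factor system modulo the trivial subgroup is an image system. -/
theorem isImgF_of_isFacF_bot {Ω₁ : Type*} [Group Ω₁] {f : Ω → Ω₁} {S : Subgroup Ω} {F : FusionSystem S}
    {S' : Subgroup Ω₁} {E' : FusionSystem S'} (h : IsFacF f ⊥ F E') : IsImgF f F E' := by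
  have hinj : ∀ x ∈ S, ∀ y ∈ S, f x = f y → x = y := by
    intro x hx y hy hxy
    have h1 := (h.eq_iff hx hy).mp hxy
    rw [Subgroup.mem_bot] at h1
    exact inv_mul_eq_one.mp h1
  refine ⟨⟨h.mul, hinj⟩, h.im, fun P' φ' => ?_⟩
  rw [h.iff P' φ']
  constructor
  · rintro ⟨hP', P, φ, hφ, hspec, hind⟩
    refine ⟨P, φ, hφ, fun y => ?_, hind⟩
    constructor
    · intro hy
      obtain ⟨x, hx, rfl⟩ := (h.im y).mp (hP' hy)
      exact ⟨x, (hspec x).mpr ⟨hx, hy⟩, rfl⟩
    · rintro ⟨x, hx, rfl⟩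
      exact ((hspec x).mp hx).2
  · rintro ⟨P, φ, hφ, him, hind⟩
    have hPS : P ≤ S := (F.le_of_mem hφ).1
    refine ⟨fun y hy => ?_, P, φ, hφ, fun x => ?_, hind⟩
    · obtain ⟨x, hx, rfl⟩ := (him y).mp hy
      exact (h.im _).mpr ⟨x, hPS hx, rfl⟩
    · constructor
      · intro hx
        exact ⟨hPS hx, (him _).mpr ⟨x, hx, rfl⟩⟩
      · rintro ⟨hxS, hfx⟩
        obtain ⟨x', hx', hxx'⟩ := (him _).mp hfx
        have := hinj x' (hPS hx') x hxS hxx'
        rwa [← this]

/-- A system realized by `ι` in a finite group `L` on a Sylow subgroup is also realized in `L/K`, for a normal subgroup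
`K` of order prime to `p`. -/
theorem isRealizedBy_quot_of_coprime {L : Type*} [Group L] [Finite L] {p : ℕ} [Fact p.Prime] {S : Subgroup Ω}
    {F : FusionSystem S} {ι : S →* L} (hι : F.IsRealizedBy ι) (T₀ : Sylow p L) (hT₀ : (T₀ : Subgroup L) = ι.range)
    (K : Subgroup L) [K.Normal] (hK : (Nat.card K).Coprime p) :
    F.IsRealizedBy ((QuotientGroup.mk' K).comp ι) := by
  have hQ : ∀ (x : Ω) (hx : x ∈ S), x ∈ (⊥ : Subgroup Ω) ↔ ι ⟨x, hx⟩ ∈ K := by
    intro x hx
    constructor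
    · intro h
      rw [Subgroup.mem_bot] at h
      subst h
      have : (⟨1, hx⟩ : S) = 1 := rfl
      rw [this, map_one]
      exact K.one_mem
    · intro h
      have hT : ι ⟨x, hx⟩ ∈ (T₀ : Subgroup L) := by
        rw [hT₀]
        exact ⟨_, rfl⟩
      have hT' : ∀ y : ↥(T₀ : Subgroup L), ∃ k : ℕ, y ^ p ^ k = 1 := T₀.isPGroup'
      obtain ⟨k, hk⟩ := hT' ⟨ι ⟨x, hx⟩, hT⟩
      have hk' : (ι ⟨x, hx⟩) ^ p ^ k = 1 := by
        have := congrArg Subtype.val hk
        simpa using this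
      have h1 : orderOf (ι ⟨x, hx⟩) ∣ p ^ k := orderOf_dvd_of_pow_eq_one hk'
      have h2 : orderOf (ι ⟨x, hx⟩) ∣ Nat.card K := by
        have := Subgroup.orderOf_dvd_natCard K h
        exact this
      have h3 : orderOf (ι ⟨x, hx⟩) = 1 := by
        have hc : (Nat.card K).Coprime (p ^ k) := Nat.Coprime.pow_right k hK
        exact Nat.eq_one_of_dvd_coprimes hc h2 h1
      rw [orderOf_eq_one_iff] at h3
      rw [Subgroup.mem_bot]
      have h4 : (⟨x, hx⟩ : S) = 1 := hι.1 (by rw [h3, map_one])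
      exact congrArg Subtype.val h4
  have h := isFacF_quot_of_isRealizedBy hι T₀ hT₀ K ⊥ bot_le hQ
  have himg := isImgF_of_isFacF_bot h
  have hr := isRealizedBy_of_isImgF himg
  have heq : himg.hom.toHom = (QuotientGroup.mk' K).comp ι := by
    ext x
    exact extFun_comp_apply ι T₀ hT₀ K x.2
  rw [heq] at hr
  exact hr

end Cfsg.Agent.Helper85
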