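import Mathlib
import Cfsg.Agent.Helper81.ResA2.Defs

/-!
# S5289 piece (ALL2) sub-farm leaf (AI) (sub-architect helper81, architect helper77)

`C_G(E) ∩ N = E` for `E ≤ N` abelian of order `p²`.
-/

set_option autoImplicit false
universe u
namespace Cfsg.Agent.Helper85.ResA2
open Cfsg.Agent.Helper81.ResA2
variable {G : Type u} [Group G] {p : ℕ} [hp : Fact p.Prime] {N : Subgroup G}

/-- (AI) `C_G(E) ∩ N = E` for `E ≤ N` of order `p²`: `⊇` as `E` is abelian; `⊆`: pick `y ∈ E ∖ Z(N)` (`|E| = p² > p`), then (QC) = `hqc`. -/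
theorem centralizer_inf (hc : Cf p N) (hZ : Nat.card (zN N) = p) (E : Subgroup G) (hEN : E ≤ N) (hE : Nat.card E = p ^ 2)
    (hEab : ∀ a ∈ E, ∀ b ∈ E, a * b = b * a)
    (hqc : ∀ x ∈ E, x ∉ zN N → ∀ g ∈ N, g * x = x * g → g ∈ E) :
    Subgroup.centralizer (E : Set G) ⊓ N = E := by
  have hpp : p.Prime := hp.out
  have hfin : Finite G := hc.fin
  apply le_antisymm
  · intro g hg
    obtain ⟨hgc, hgN⟩ := Subgroup.mem_inf.mp hg
    have hex : ∃ y ∈ E, y ∉ zN N := by
      by_contra hcon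
      have hle : E ≤ zN N := fun y hy => by
        by_contra h
        exact hcon ⟨y, hy, h⟩
      have h1 := Subgroup.card_le_of_le hle
      rw [hE, hZ] at h1
      have h2 : p < p ^ 2 := by
        calc p = p ^ 1 := (pow_one p).symm
          _ < p ^ 2 := Nat.pow_lt_pow_right hpp.one_lt (by norm_num)
      omega
    obtain ⟨y, hyE, hyZ⟩ := hex
    have hcomm := (Subgroup.mem_centralizer_iff.mp hgc) y hyE
    exact hqc y hyE hyZ g hgN hcomm.symm
  · intro g hg
    refine Subgroup.mem_inf.mpr ⟨?_, hEN hg⟩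
    rw [Subgroup.mem_centralizer_iff]
    intro h hh
    exact hEab h hh g hg

end Cfsg.Agent.Helper85.ResA2
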