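import Mathlib
import Cfsg.Agent.Helper81.ResA2.Defs
import Cfsg.Agent.Helper89.BlkRK

/-!
# S5289 piece (ALL2) sub-farm leaf (AR) (sub-architect helper81, architect helper77)

Rank `≤ 2`: an element `t` with `t ^ p = 1` centralizing `E` (`|E| = p²`, `E ≤ N`) lies in `E`
(helper89's `Blk.mem_of_rank`).
-/

set_option autoImplicit false
universe u
namespace Cfsg.Agent.Helper85.ResA2
open Cfsg.Agent.Helper81.ResA2
variable {G : Type u} [Group G] {p : ℕ} [hp : Fact p.Prime] {N : Subgroup G}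

/-- (AR) rank: an element `t` with `t^p = 1` centralizing `E` (`|E| = p²`, `E ≤ N` so exponent `p`) lies in `E`. -/
theorem mem_sq_of_pow (hc : Cf p N) (E : Subgroup G) (hEN : E ≤ N) (hE : Nat.card E = p ^ 2) :
    ∀ t ∈ Subgroup.centralizer (E : Set G), t ^ p = 1 → t ∈ E := by
  intro t ht htp
  have hfin : Finite G := hc.fin
  have hrk : Cfsg.PRankLE p 2 G := by
    intro A hA hAexp
    refine hc.rank A ?_ hAexp
    intro a ha b hb
    exact congrArg Subtype.val (hA.is_comm.comm (⟨a, ha⟩ : A) ⟨b, hb⟩)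
  exact Cfsg.Agent.Helper89.Blk.mem_of_rank hrk E hE (fun e he => hc.exp e (hEN he)) t ht htp

end Cfsg.Agent.Helper85.ResA2
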