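-- Sylow normalizer representatives: every P ≤ S is conjugate to Q ≤ S with N_S(Q) Sylow in N_G(Q); consequences (helper85).
import Cfsg.Agent.Helper85.GroupFusion
import Cfsg.Agent.Helper87.FusionExtend

set_option autoImplicit false

namespace Cfsg.Agent.Helper85

open Cfsg Cfsg.FusionSystem

variable {G : Type*} [Group G]

/-- A `p`-subgroup at least as large as a Sylow `p`-subgroup is a Sylow `p`-subgroup. -/
theorem exists_sylow_eq_of_card_ge [Finite G] {p : ℕ} [Fact p.Prime] (R : Sylow p G) {K : Subgroup G}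
    (hK : IsPGroup p K) (h : Nat.card R ≤ Nat.card K) : ∃ R' : Sylow p G, (R' : Subgroup G) = K := by
  have h1 : Nat.card K = Nat.card R := le_antisymm (card_le_card_sylow R hK) h
  have h2 : Nat.card K = p ^ (Nat.card G).factorization p := by
    rw [h1]
    exact R.card_eq_multiplicity
  exact ⟨Sylow.ofCard K h2, Sylow.coe_ofCard K h2⟩

/-- Every `P ≤ S` has a conjugate `Q = gPg⁻¹ ≤ S` with `N_S(Q)` a Sylow `p`-subgroup of `N_G(Q)`. -/
theorem exists_cj_normalizer_sylow [Finite G] (p : ℕ) [Fact p.Prime] (S : Sylow p G) (P : Subgroup G)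
    (hP : P ≤ (S : Subgroup G)) :
    ∃ g : G, cj g P ≤ (S : Subgroup G) ∧
      ∃ R : Sylow p ↥(Subgroup.normalizer ((cj g P : Subgroup G) : Set G)),
        (R : Subgroup ↥(Subgroup.normalizer ((cj g P : Subgroup G) : Set G))) =
          (normalizerIn (S : Subgroup G) (cj g P)).subgroupOf
            (Subgroup.normalizer ((cj g P : Subgroup G) : Set G)) := by
  classical
  have hne : Nonempty {g : G // cj g P ≤ (S : Subgroup G)} := ⟨⟨1, by rw [cj_one]; exact hP⟩⟩
  obtain ⟨⟨g₀, hg₀⟩, hmax⟩ := Finite.exists_max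
    (fun g : {g : G // cj g P ≤ (S : Subgroup G)} =>
      Nat.card ((S : Subgroup G) ⊓ Subgroup.normalizer ((cj g.1 P : Subgroup G) : Set G) : Subgroup G))
  refine ⟨g₀, hg₀, ?_⟩
  refine sylow_of_card_max S (cj g₀ P) hg₀ (fun Q => Subgroup.normalizer (Q : Set G)) normalizer_cj le_rfl ?_
  intro h hh
  rw [cj_cj] at hh ⊢
  exact hmax ⟨h * g₀, hh⟩

/-- If `N_S(Q)` is a Sylow `p`-subgroup of `N_G(Q)` then `C_S(Q)` is a Sylow `p`-subgroup of `C_G(Q)`. -/
theorem centralizer_sylow_of_normalizer_sylow [Finite G] (p : ℕ) [Fact p.Prime] (S : Subgroup G) (Q : Subgroup G)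
    (R : Sylow p ↥(Subgroup.normalizer (Q : Set G)))
    (hR : (R : Subgroup ↥(Subgroup.normalizer (Q : Set G))) =
      (normalizerIn S Q).subgroupOf (Subgroup.normalizer (Q : Set G))) :
    ∃ R' : Sylow p ↥(Subgroup.centralizer (Q : Set G)),
      (R' : Subgroup ↥(Subgroup.centralizer (Q : Set G))) =
        (centralizerIn S Q).subgroupOf (Subgroup.centralizer (Q : Set G)) := by
  have hCN : Subgroup.centralizer (Q : Set G) ≤ Subgroup.normalizer (Q : Set G) :=
    Subgroup.centralizer_le_normalizer _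
  -- `N_S(Q)` is a `p`-group
  have hNS : IsPGroup p (normalizerIn S Q) := by
    have h1 : IsPGroup p ((normalizerIn S Q).subgroupOf (Subgroup.normalizer (Q : Set G))) := hR ▸ R.isPGroup'
    exact h1.of_equiv (Subgroup.subgroupOfEquivOfLe (inf_le_right : normalizerIn S Q ≤ _))
  have hCS : IsPGroup p (centralizerIn S Q) :=
    hNS.to_le (inf_le_inf le_rfl hCN)
  have hK : IsPGroup p ((centralizerIn S Q).subgroupOf (Subgroup.centralizer (Q : Set G))) := hCS.comap_subtype
  -- an arbitrary Sylow subgroup of `C_G(Q)`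
  obtain ⟨T₀⟩ : Nonempty (Sylow p ↥(Subgroup.centralizer (Q : Set G))) := Sylow.nonempty
  refine exists_sylow_eq_of_card_ge T₀ hK ?_
  -- its image in `G` and in `N_G(Q)`
  set T' : Subgroup G := (T₀ : Subgroup ↥(Subgroup.centralizer (Q : Set G))).map
    (Subgroup.centralizer (Q : Set G)).subtype with hT'def
  have hT' : IsPGroup p T' := T₀.isPGroup'.map _
  have hT'C : T' ≤ Subgroup.centralizer (Q : Set G) := by
    rintro _ ⟨y, -, rfl⟩
    exact y.2
  have hT'' : IsPGroup p (T'.subgroupOf (Subgroup.normalizer (Q : Set G))) := hT'.comap_subtype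
  obtain ⟨n, hn⟩ := exists_cj_le_sylow R hT''
  -- conjugating by `n` inside `G`
  have hcj : cj (n : G) T' ≤ centralizerIn S Q := by
    intro x hx
    rw [mem_cj] at hx
    have hxC : (n : G)⁻¹ * x * n ∈ Subgroup.centralizer (Q : Set G) := hT'C hx
    have hxN : (n : G)⁻¹ * x * n ∈ Subgroup.normalizer (Q : Set G) := hCN hxC
    have h1 : (⟨(n : G)⁻¹ * x * n, hxN⟩ : ↥(Subgroup.normalizer (Q : Set G))) ∈
        T'.subgroupOf (Subgroup.normalizer (Q : Set G)) := hx
    have h2 := hn (conj_mem_cj (g := n) h1)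
    rw [hR, Subgroup.mem_subgroupOf] at h2
    have e : ((n * ⟨(n : G)⁻¹ * x * n, hxN⟩ * n⁻¹ : ↥(Subgroup.normalizer (Q : Set G))) : G) = x := by
      show (n : G) * ((n : G)⁻¹ * x * n) * (n : G)⁻¹ = x
      group
    rw [e] at h2
    refine ⟨h2.1, ?_⟩
    -- `x = n (n⁻¹ x n) n⁻¹` centralizes `Q` since `n` normalizes `Q`
    have hcc : cj (n : G) (Subgroup.centralizer (Q : Set G)) = Subgroup.centralizer (Q : Set G) := by
      rw [← centralizer_cj, cj_eq_self_of_mem_normalizer n.2]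
    rw [← hcc]
    exact mem_cj.mpr hxC
  have c1 : Nat.card (T₀ : Subgroup ↥(Subgroup.centralizer (Q : Set G))) = Nat.card T' :=
    (Subgroup.card_subtype (Subgroup.centralizer (Q : Set G))
      (T₀ : Subgroup ↥(Subgroup.centralizer (Q : Set G)))).symm
  have c2 : Nat.card T' = Nat.card (cj (n : G) T') := (card_cj _ _).symm
  have c3 : Nat.card (cj (n : G) T') ≤ Nat.card (centralizerIn S Q) := Subgroup.card_le_of_le hcj
  have c4 : Nat.card (centralizerIn S Q) =
      Nat.card ((centralizerIn S Q).subgroupOf (Subgroup.centralizer (Q : Set G))) :=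
    (card_subgroupOf_of_le inf_le_right).symm
  rw [c1, c2, ← c4]
  exact c3

/-- The canonical surjection `N_G(Q) → Aut_G(Q)`. -/
def normalizerToAut (Q : Subgroup G) : ↥(Subgroup.normalizer (Q : Set G)) →* ↥(autInducedBy (⊤ : Subgroup G) Q) :=
  (Q.normalizerMonoidHom).codRestrict (autInducedBy (⊤ : Subgroup G) Q)
    (fun n => Subgroup.subset_closure ⟨n, Subgroup.mem_top _, fun _ => rfl⟩)

theorem normalizerToAut_apply (Q : Subgroup G) (n : ↥(Subgroup.normalizer (Q : Set G))) (x : Q) :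
    (((normalizerToAut Q n : MulAut Q) x : Q) : G) = n * x * (n : G)⁻¹ := rfl

theorem normalizerToAut_surjective (Q : Subgroup G) : Function.Surjective (normalizerToAut Q) := by
  rintro ⟨α, hα⟩
  obtain ⟨g, -, hg⟩ := (Cfsg.Agent.Helper87.mem_autInducedBy_iff ⊤ Q α).1 hα
  refine ⟨⟨g, Cfsg.Agent.Helper87.mem_normalizer_of_conj_eq α g hg⟩, ?_⟩
  apply Subtype.ext
  apply MulEquiv.ext
  intro x
  apply Subtype.ext
  rw [hg x]
  rfl

/-- If `N_S(Q)` is a Sylow `p`-subgroup of `N_G(Q)` then `Aut_S(Q)` is a Sylow `p`-subgroup of `Aut_G(Q)`. -/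
theorem aut_sylow_of_normalizer_sylow [Finite G] (p : ℕ) [Fact p.Prime] (S : Subgroup G) (Q : Subgroup G)
    (R : Sylow p ↥(Subgroup.normalizer (Q : Set G)))
    (hR : (R : Subgroup ↥(Subgroup.normalizer (Q : Set G))) =
      (normalizerIn S Q).subgroupOf (Subgroup.normalizer (Q : Set G))) :
    ∃ R' : Sylow p ↥(autInducedBy (⊤ : Subgroup G) Q),
      (R' : Subgroup ↥(autInducedBy (⊤ : Subgroup G) Q)) =
        (autInducedBy S Q).subgroupOf (autInducedBy (⊤ : Subgroup G) Q) := by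
  refine ⟨R.mapSurjective (normalizerToAut_surjective Q), ?_⟩
  rw [Sylow.coe_mapSurjective, hR]
  ext ⟨α, hα⟩
  rw [Subgroup.mem_subgroupOf, Subgroup.mem_map]
  constructor
  · rintro ⟨n, hn, hnα⟩
    rw [Subgroup.mem_subgroupOf] at hn
    rw [Cfsg.Agent.Helper87.mem_autInducedBy_iff]
    refine ⟨n, hn.1, fun x => ?_⟩
    have : (normalizerToAut Q n : MulAut Q) = α := congrArg Subtype.val hnα
    show ((α x : Q) : G) = _
    rw [← this]
    rfl
  · intro h
    obtain ⟨g, hgS, hg⟩ := (Cfsg.Agent.Helper87.mem_autInducedBy_iff S Q α).1 h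
    have hgN : g ∈ Subgroup.normalizer (Q : Set G) := Cfsg.Agent.Helper87.mem_normalizer_of_conj_eq α g hg
    refine ⟨⟨g, hgN⟩, ?_, ?_⟩
    · rw [Subgroup.mem_subgroupOf]
      exact ⟨hgS, hgN⟩
    · apply Subtype.ext
      apply MulEquiv.ext
      intro x
      apply Subtype.ext
      rw [hg x]
      rfl

theorem normalizer_le_normalizer_centralizer (Q : Subgroup G) :
    Subgroup.normalizer (Q : Set G) ≤ Subgroup.normalizer ((Subgroup.centralizer (Q : Set G) : Subgroup G) : Set G) := by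
  intro n hn
  have hcc : cj n (Subgroup.centralizer (Q : Set G)) = Subgroup.centralizer (Q : Set G) := by
    rw [← centralizer_cj, cj_eq_self_of_mem_normalizer hn]
  rw [Subgroup.mem_normalizer_iff'']
  intro x
  rw [← mem_cj, hcc]

/-- Sylow extension lemma: if `gPg⁻¹ = Q` and `N_S(Q)` is a Sylow `p`-subgroup of `N_G(Q)`, then for
`N = {x ∈ N_S(P) : gxg⁻¹ ∈ N_S(Q) C_G(Q)}` some `h ∈ C_G(Q)` has `(hg) N (hg)⁻¹ ≤ S`. -/
theorem exists_centralizer_cj_le [Finite G] (p : ℕ) [Fact p.Prime] (S : Sylow p G) (P Q : Subgroup G) (g : G)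
    (R : Sylow p ↥(Subgroup.normalizer (Q : Set G)))
    (hR : (R : Subgroup ↥(Subgroup.normalizer (Q : Set G))) =
      (normalizerIn (S : Subgroup G) Q).subgroupOf (Subgroup.normalizer (Q : Set G))) :
    ∃ h ∈ Subgroup.centralizer (Q : Set G),
      cj (h * g) ((normalizerIn (S : Subgroup G) P) ⊓
        (normalizerIn (S : Subgroup G) Q ⊔ Subgroup.centralizer (Q : Set G)).comap (MulAut.conj g).toMonoidHom)
        ≤ (S : Subgroup G) := by
  set NS : Subgroup G := normalizerIn (S : Subgroup G) Q with hNSdef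
  set C : Subgroup G := Subgroup.centralizer (Q : Set G) with hCdef
  set M : Subgroup G := NS ⊔ C with hMdef
  have hNSN : NS ≤ Subgroup.normalizer (Q : Set G) := inf_le_right
  have hCN : C ≤ Subgroup.normalizer (Q : Set G) := Subgroup.centralizer_le_normalizer _
  have hMN : M ≤ Subgroup.normalizer (Q : Set G) := sup_le hNSN hCN
  have hNSp : IsPGroup p NS := S.isPGroup'.to_inf_left
  -- `NS` is a Sylow subgroup of `M`
  obtain ⟨T₀⟩ : Nonempty (Sylow p ↥M) := Sylow.nonempty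
  have hcardT : Nat.card (T₀ : Subgroup ↥M) ≤ Nat.card (NS.subgroupOf M) := by
    set T' : Subgroup G := (T₀ : Subgroup ↥M).map M.subtype with hT'def
    have hT' : IsPGroup p T' := T₀.isPGroup'.map _
    have hT'M : T' ≤ M := by
      rintro _ ⟨y, -, rfl⟩
      exact y.2
    have hT'' : IsPGroup p (T'.subgroupOf (Subgroup.normalizer (Q : Set G))) := hT'.comap_subtype
    have h1 := card_le_card_sylow R hT''
    rw [card_subgroupOf_of_le (hT'M.trans hMN), hR, card_subgroupOf_of_le hNSN] at h1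
    have c1 : Nat.card (T₀ : Subgroup ↥M) = Nat.card T' :=
      (Subgroup.card_subtype M (T₀ : Subgroup ↥M)).symm
    rw [c1, card_subgroupOf_of_le (le_sup_left : NS ≤ M)]
    exact h1
  obtain ⟨RM, hRM⟩ := exists_sylow_eq_of_card_ge T₀ (hNSp.comap_subtype (K := M)) hcardT
  -- the subgroup `K = g N₀ g⁻¹`
  set N₀ : Subgroup G := (normalizerIn (S : Subgroup G) P) ⊓ M.comap (MulAut.conj g).toMonoidHom with hN₀def
  have hN₀p : IsPGroup p N₀ := (S.isPGroup'.to_inf_left (K := Subgroup.normalizer (P : Set G))).to_inf_left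
  have hKM : cj g N₀ ≤ M := by
    intro x hx
    rw [mem_cj] at hx
    have h2 : (MulAut.conj g).toMonoidHom (g⁻¹ * x * g) ∈ M := hx.2
    have e : (MulAut.conj g).toMonoidHom (g⁻¹ * x * g) = x := by
      show g * (g⁻¹ * x * g) * g⁻¹ = x
      group
    rwa [e] at h2
  have hKp : IsPGroup p ((cj g N₀).subgroupOf M) := (isPGroup_cj g hN₀p).comap_subtype
  obtain ⟨m, hm⟩ := exists_cj_le_sylow RM hKp
  -- decompose `m = s * c`
  have hmM : (m : G) ∈ ((NS ⊔ C : Subgroup G) : Set G) := m.2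
  rw [Subgroup.coe_mul_of_left_le_normalizer_right NS C
    (hNSN.trans (normalizer_le_normalizer_centralizer Q))] at hmM
  obtain ⟨s, hs, c, hc, hsc⟩ := hmM
  refine ⟨c, hc, ?_⟩
  rw [← cj_cj]
  intro x hx
  rw [mem_cj] at hx
  have hxM : c⁻¹ * x * c ∈ M := hKM hx
  have h1 : (⟨c⁻¹ * x * c, hxM⟩ : ↥M) ∈ (cj g N₀).subgroupOf M := hx
  have h2 := hm (conj_mem_cj (g := m) h1)
  rw [hRM] at h2
  have h2' : ((m * ⟨c⁻¹ * x * c, hxM⟩ * m⁻¹ : ↥M) : G) ∈ NS := h2
  have e : ((m * ⟨c⁻¹ * x * c, hxM⟩ * m⁻¹ : ↥M) : G) = s * x * s⁻¹ := by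
    show (m : G) * (c⁻¹ * x * c) * (m : G)⁻¹ = s * x * s⁻¹
    rw [← hsc]
    show s * c * (c⁻¹ * x * c) * (s * c)⁻¹ = s * x * s⁻¹
    group
  rw [e] at h2'
  have h3 : s⁻¹ * (s * x * s⁻¹) * s ∈ NS := NS.mul_mem (NS.mul_mem (NS.inv_mem hs) h2') hs
  have e2 : s⁻¹ * (s * x * s⁻¹) * s = x := by group
  rw [e2] at h3
  exact h3.1

end Cfsg.Agent.Helper85
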