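import Mathlib
import Cfsg.Agent.Helper95.TIC.Defs
import Cfsg.Agent.Helper95.TIC.SE5
import Cfsg.Agent.Helper95.SzOrd.Main
import Cfsg.Agent.Helper56.PSLCongr
import Cfsg.Agent.S1230
import Cfsg.Agent.S3375

/-!
# (ZR) piece of helper95's farm for S4064, batch 3: `A` acts regularly on the cosets `≠ N`
-/

set_option autoImplicit false

namespace Cfsg.Agent.Helper85.TICent

open Subgroup Cfsg Cfsg.Agent.Helper75 Cfsg.Agent.Helper21 Cfsg.Agent.Helper4
open Cfsg.Agent.Helper95.TICent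

universe u

variable {G : Type u} [Group G]

/-- every coset different from `N` is the coset of an involution outside `N` -/
theorem BData.exists_invol_rep (c : BData G) [Finite G] (y : G ⧸ c.N)
    (hy : y ≠ ((1 : G) : G ⧸ c.N)) :
    ∃ v : G, orderOf v = 2 ∧ v ∉ c.N ∧ ((v : G) : G ⧸ c.N) = y := by
  obtain ⟨g, rfl⟩ := QuotientGroup.mk_surjective y
  have hgN : g ∉ c.N := by
    intro h
    apply hy
    exact (QuotientGroup.eq.mpr (by simpa using c.N.inv_mem h))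
  obtain ⟨v, hv2, hvg, hvN⟩ := IsStronglyEmbedded.exists_invol_coset c.stronglyEmbedded hgN
  refine ⟨v, hv2, hvN, ?_⟩
  rw [QuotientGroup.eq]
  have : v⁻¹ * g = (g⁻¹ * v)⁻¹ := by group
  rw [this]
  exact c.N.inv_mem hvg

/-- (ZR) `A` acts regularly on the cosets different from `N`. -/
theorem BData.regular (c : BData G) [Finite G] (hw : 2 ≤ caE c.A) :
    ∀ y z : G ⧸ c.N, y ≠ ((1 : G) : G ⧸ c.N) → z ≠ ((1 : G) : G ⧸ c.N) →
      ∃! x : c.A, (x : G) • y = z := by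
  intro y z hy hz
  obtain ⟨v, hv2, hvN, rfl⟩ := BData.exists_invol_rep c y hy
  obtain ⟨v', hv'2, hv'N, rfl⟩ := BData.exists_invol_rep c z hz
  obtain ⟨x, hx, hxv⟩ := c.exists_coset hv2 hvN hv'2 hv'N hw
  refine ⟨⟨x, hx⟩, ?_, ?_⟩
  · show ((x * v : G) : G ⧸ c.N) = ((v' : G) : G ⧸ c.N)
    rw [QuotientGroup.eq]
    exact hxv
  · intro x₂ hx₂
    have h1 : ((x₂.1 * v : G) : G ⧸ c.N) = ((x * v : G) : G ⧸ c.N) := by
      have e1 : ((x₂.1 * v : G) : G ⧸ c.N) = ((v' : G) : G ⧸ c.N) := hx₂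
      have e2 : ((x * v : G) : G ⧸ c.N) = ((v' : G) : G ⧸ c.N) := by
        rw [QuotientGroup.eq]
        exact hxv
      rw [e1, e2]
    have h2 : (x₂.1 * v)⁻¹ * (x * v) ∈ c.N := QuotientGroup.eq.mp h1
    have h3 : x₂.1⁻¹ * x ∈ c.A := c.A.mul_mem (c.A.inv_mem x₂.2) hx
    have h4 : x₂.1⁻¹ * x ∈ c.Dsub v := by
      rw [c.mem_Dsub]
      refine ⟨c.A_le_N h3, ?_⟩
      have : v⁻¹ * (x₂.1⁻¹ * x) * v = (x₂.1 * v)⁻¹ * (x * v) := by group
      rw [this]
      exact h2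
    have h5 := c.Dsub_inf_A hv2 hvN h4 h3
    apply Subtype.ext
    exact (inv_mul_eq_one.mp h5)

end Cfsg.Agent.Helper85.TICent
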