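-- Transport of the centre, of simplicity and of quasisimplicity along an injective homomorphism (helper85).
import Cfsg.Agent.Helper85.TransportQuasi

set_option autoImplicit false

namespace Cfsg.Agent.Helper85

open Cfsg Cfsg.FusionSystem

variable {Ω : Type*} [Group Ω] {Ω' : Type*} [Group Ω']

section center

variable {g : Ω → Ω'} {T : Subgroup Ω} {C : FusionSystem T} {T' : Subgroup Ω'} {E : FusionSystem T'}

theorem isCentral_img [Finite T] {p : ℕ} [Fact p.Prime] (hT : IsPGroup p T) (hCsat : C.IsSaturated p)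
    (hE : IsImgF g C E) {Q : Subgroup Ω} {Q' : Subgroup Ω'} (him : IsIm g Q Q') (hQ : C.IsCentral Q) :
    E.IsCentral Q' := by
  have hfinT' : Finite T' := finite_of_isIm hE.im
  have hT' : IsPGroup p T' := isPGroup_of_isIm hE.hom hE.im hT
  have hEsat := isSaturated_img hT hE hCsat
  rw [Cfsg.Agent.S5084.result p hT' E hEsat Q']
  obtain ⟨hQT, hfix⟩ := (Cfsg.Agent.S5084.result p hT C hCsat Q).mp hQ
  refine ⟨him.le_right hE.im hQT, ?_⟩
  rintro x' hx' y' ⟨φ', hφ', hy'⟩
  obtain ⟨x, hx, rfl⟩ := (him x').mp hx'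
  obtain ⟨P, φ, hφ, himP, hind⟩ := (hE.iff _ φ').mp hφ'
  have hPT := (C.le_of_mem hφ).1
  have hxP : x ∈ P := himP.mem_of_map_mem hE.hom hPT (hQT hx) (Subgroup.mem_zpowers (g x))
  have hzP : Subgroup.zpowers x ≤ P := (Subgroup.zpowers_le).mpr hxP
  have hconj : C.IsConjElt x (φ ⟨x, hxP⟩) := ⟨φ.comp (Subgroup.inclusion hzP), restrict_mem C hφ hzP, rfl⟩
  have hfx := hfix x hx _ hconj
  rw [← hy', hind.apply ⟨g x, Subgroup.mem_zpowers (g x)⟩ x hxP rfl, hfx]

theorem isCentral_pre [Finite T] {p : ℕ} [Fact p.Prime] (hT : IsPGroup p T) (hCsat : C.IsSaturated p)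
    (hE : IsImgF g C E) {Q' : Subgroup Ω'} (hQ' : E.IsCentral Q') : C.IsCentral (preS hE.hom Q') := by
  have hfinT' : Finite T' := finite_of_isIm hE.im
  have hT' : IsPGroup p T' := isPGroup_of_isIm hE.hom hE.im hT
  have hEsat := isSaturated_img hT hE hCsat
  rw [Cfsg.Agent.S5084.result p hT C hCsat _]
  obtain ⟨hQ'T', hfix'⟩ := (Cfsg.Agent.S5084.result p hT' E hEsat Q').mp hQ'
  refine ⟨preS_le _ _, ?_⟩
  rintro x hx y ⟨φ, hφ, hy⟩
  obtain ⟨hxT, hgx⟩ := (mem_preS hE.hom Q' x).mp hx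
  have hzT : Subgroup.zpowers x ≤ T := (Subgroup.zpowers_le).mpr hxT
  have himP := isIm_imS hE.hom hzT
  obtain ⟨φ', hφ', hind⟩ := hE.push hφ himP
  have hgxP : g x ∈ imS hE.hom (Subgroup.zpowers x) := himP.map_mem (Subgroup.mem_zpowers x)
  have hzP : Subgroup.zpowers (g x) ≤ imS hE.hom (Subgroup.zpowers x) := (Subgroup.zpowers_le).mpr hgxP
  have hconj : E.IsConjElt (g x) (φ' ⟨g x, hgxP⟩) :=
    ⟨φ'.comp (Subgroup.inclusion hzP), restrict_mem E hφ' hzP, rfl⟩
  have hfx := hfix' (g x) hgx _ hconj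
  have e1 := hind ⟨x, Subgroup.mem_zpowers x⟩ hgxP
  rw [hfx] at e1
  rw [← hy]
  exact (hE.hom.inj _ hxT _ ((C.le_of_mem hφ).2 _) e1).symm

/-- The centre of the image system is the image of the centre. -/
theorem isIm_center [Finite T] {p : ℕ} [Fact p.Prime] (hT : IsPGroup p T) (hCsat : C.IsSaturated p)
    (hE : IsImgF g C E) : IsIm g C.center E.center := by
  have hfinT' : Finite T' := finite_of_isIm hE.im
  have hZ : C.IsCentral C.center := Cfsg.Agent.S5144.result C
  have hZ' : E.IsCentral E.center := Cfsg.Agent.S5144.result E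
  have h1 : imS hE.hom C.center ≤ E.center := le_sSup (isCentral_img hT hCsat hE (isIm_imS hE.hom hZ.1) hZ)
  have h2 : preS hE.hom E.center ≤ C.center := le_sSup (isCentral_pre hT hCsat hE hZ')
  intro y
  constructor
  · intro hy
    obtain ⟨x, hx, rfl⟩ := (hE.im y).mp (hZ'.1 hy)
    exact ⟨x, h2 ((mem_preS hE.hom _ x).mpr ⟨hx, hy⟩), rfl⟩
  · rintro ⟨x, hx, rfl⟩
    exact h1 ((isIm_imS hE.hom hZ.1).map_mem hx)

end center

/-- If the image of a saturated system is simple, so is the system. -/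
theorem isSimple_of_img {j : Ω → Ω'} {SA : Subgroup Ω} {A : FusionSystem SA} {SB : Subgroup Ω'}
    {B : FusionSystem SB} [Finite SA] {p : ℕ} [Fact p.Prime] (hSA : IsPGroup p SA) (hAsat : A.IsSaturated p)
    (h : IsImgF j A B) (hB : B.IsSimple p) : A.IsSimple p := by
  obtain ⟨-, hSBne, hBsimple⟩ := hB
  refine ⟨hAsat, fun hbot => hSBne ?_, fun R N hN => ?_⟩
  · rw [eq_bot_iff]
    intro y hy
    obtain ⟨x, hx, rfl⟩ := (h.im y).mp hy
    rw [hbot, Subgroup.mem_bot] at hx
    rw [hx, h.hom.one]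
    exact Subgroup.one_mem _
  · have hRS : R ≤ SA := hN.1.2.2.2.1.1
    have hfinR : Finite R := Cfsg.Agent.Helper87.finite_of_le hRS
    obtain ⟨R', N', hN'⟩ := exists_isImgF (h.hom.mono hRS) N
    have hN'B := isNormalIn_img hSA h hN' hN
    rcases hBsimple R' N' hN'B with hR' | ⟨hR', hHom⟩
    · left
      rw [eq_bot_iff]
      intro x hx
      have hjx : j x ∈ R' := hN'.im.map_mem hx
      rw [hR', Subgroup.mem_bot] at hjx
      rw [Subgroup.mem_bot]
      exact (h.hom.eq_one_iff (hRS hx)).mp hjx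
    · right
      have hRSA : R = SA := IsIm.eq_left h.hom hRS le_rfl hN'.im (by rw [hR']; exact h.im)
      refine ⟨hRSA, fun P => ?_⟩
      apply Set.Subset.antisymm (hN.1.2.2.1 P)
      intro φ hφ
      have hPS := (A.le_of_mem hφ).1
      have himP := isIm_imS h.hom hPS
      obtain ⟨φ', hφ', hind⟩ := h.push hφ himP
      rw [← hHom] at hφ'
      obtain ⟨φ₁, hφ₁, hind₁⟩ := hN'.pull hφ' (by rw [hRSA]; exact hPS) himP
      have hφφ : φ₁ = φ := by
        ext x
        have hx : j x ∈ imS h.hom P := himP.map_mem x.2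
        have e1 := hind x hx
        have e2 := hind₁ x hx
        exact h.hom.inj _ (hRS ((N.le_of_mem hφ₁).2 x)) _ ((A.le_of_mem hφ).2 x) (e2.symm.trans e1)
      rw [← hφφ]
      exact hφ₁

/-- The image of a quasisimple system is quasisimple. -/
theorem quasisimple_img {g : Ω → Ω'} {T : Subgroup Ω} {C : FusionSystem T} {T' : Subgroup Ω'}
    {E : FusionSystem T'} [Finite T] {p : ℕ} [Fact p.Prime] (hT : IsPGroup p T) (hE : IsImgF g C E)
    (hC : C.Quasisimple p) : E.Quasisimple p := by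
  obtain ⟨hCsat, hChyp, hCquot⟩ := hC
  have hfinT' : Finite T' := finite_of_isIm hE.im
  have hT' : IsPGroup p T' := isPGroup_of_isIm hE.hom hE.im hT
  have hEsat := isSaturated_img hT hE hCsat
  have hfs := isFactorSystem_of_isImgF hE
  refine ⟨hEsat, ?_, fun E'' hE'' => ?_⟩
  · rw [Cfsg.Agent.Helper87.hyperfocalSubgroup_factor hT C hCsat (Cfsg.Agent.Helper87.stronglyClosed_bot C)
      hE.hom.toHom E hfs, hChyp, Subgroup.subgroupOf_self, ← MonoidHom.range_eq_map]
    exact hfs.2.2.1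
  · have hZ := isIm_center hT hCsat hE
    have hZc : C.IsCentral C.center := Cfsg.Agent.S5144.result C
    have hZ'c : E.IsCentral E.center := Cfsg.Agent.S5144.result E
    have hZsc := Cfsg.Agent.S5148.stronglyClosed_of_isCentral C hZc
    have hZ'sc := Cfsg.Agent.S5148.stronglyClosed_of_isCentral E hZ'c
    have hfacE := isFacF_of_isFactorSystem hE''
    have hfac₂ := isFacF_comp_img hE hfacE hZc.1
      (fun x hx => ⟨fun h => hZ.map_mem h, fun h => hZ.mem_of_map_mem hE.hom hZc.1 hx h⟩)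
    have hker : ∀ s : T, QuotientGroup.mk' ((C.center).subgroupOf T) s = 1 ↔ (s : Ω) ∈ C.center := fun s => by
      rw [QuotientGroup.mk'_apply, QuotientGroup.eq_one_iff, Subgroup.mem_subgroupOf]
    have hrange : (QuotientGroup.mk' ((C.center).subgroupOf T)).range = ⊤ :=
      MonoidHom.range_eq_top.mpr (QuotientGroup.mk'_surjective _)
    have hE₀fs := isFactorSystem_factorSystem C (QuotientGroup.mk' ((C.center).subgroupOf T)) ⊤ C.center hker
      hZsc hrange
    have hE₀simple := hCquot _ hE₀fs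
    have hfac₁ := isFacF_of_isFactorSystem hE₀fs
    obtain ⟨k, hk⟩ := exists_compare hfac₁ hfac₂
    have himg := isImgF_of_isFacF hfac₁ hfac₂ hk
    have hsm := Cfsg.Agent.S5134.result p hT' E hEsat E.center hZ'sc _ E'' hE''
    have hE''sat := isSaturated_of_surjectiveMorphism E E'' _ hT' hEsat hsm
    have hQ : IsPGroup p (⊤ : Subgroup (T' ⧸ (E.center).subgroupOf T')) :=
      (hT'.to_quotient _).to_subgroup _
    exact isSimple_of_img hQ hE''sat himg hE₀simple

end Cfsg.Agent.Helper85
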