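-- Automorphisms of a fusion system carry the system onto itself; the layer is carried into its image (helper85).
import Cfsg.Agent.Helper85.TransportQuasi2

set_option autoImplicit false

namespace Cfsg.Agent.Helper85

open Cfsg Cfsg.FusionSystem

variable {Ω : Type*} [Group Ω] {Ω' : Type*} [Group Ω']

theorem isIm_imageAlong {S : Subgroup Ω} (θ : S →* Ω') {P : Subgroup Ω} (hP : P ≤ S) :
    IsIm (extFun θ) P (imageAlong θ P) := by
  intro y
  rw [mem_imageAlong]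
  constructor
  · rintro ⟨s, hs, rfl⟩
    exact ⟨s, hs, extFun_coe θ s⟩
  · rintro ⟨x, hx, rfl⟩
    exact ⟨⟨x, hP hx⟩, hx, (extFun_eq θ (hP hx)).symm⟩

theorem ind_of_inducedAlong {S : Subgroup Ω} (θ : S →* Ω') {P : Subgroup Ω} {φ : P →* Ω} {P' : Subgroup Ω'}
    {φ' : P' →* Ω'} (h : InducedAlong θ φ φ') : Ind (extFun θ) φ φ' := by
  obtain ⟨hP, hφ, hP', hx⟩ := h
  intro x h
  rw [extFun_eq θ (hφ x), ← hx x]
  congr 1
  exact Subtype.ext (extFun_eq θ (hP x.2))

/-- Mutually inverse morphisms of a system to itself carry the system onto itself. -/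
theorem isImgF_of_isMorphism {S : Subgroup Ω} {F : FusionSystem S} {θ θ' : S →* Ω}
    (h1 : ∀ x : S, ∃ h : θ x ∈ S, θ' ⟨θ x, h⟩ = x) (h2 : ∀ x : S, ∃ h : θ' x ∈ S, θ ⟨θ' x, h⟩ = x)
    (hmor : F.IsMorphism F θ) (hmor' : F.IsMorphism F θ') : IsImgF (extFun θ) F F := by
  have hinj : Function.Injective θ := by
    intro a b hab
    obtain ⟨ha, ha'⟩ := h1 a
    obtain ⟨hb, hb'⟩ := h1 b
    have e : (⟨θ a, ha⟩ : S) = ⟨θ b, hb⟩ := Subtype.ext hab
    apply Subtype.ext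
    rw [← ha', ← hb', e]
  have hf := homOn_extFun θ hinj
  have hff' : ∀ x (hx : x ∈ S), extFun θ (extFun θ' x) = x := by
    intro x hx
    obtain ⟨h, hx'⟩ := h2 ⟨x, hx⟩
    rw [extFun_eq θ' hx, extFun_eq θ h]
    exact hx'
  have hf'S : ∀ x (hx : x ∈ S), extFun θ' x ∈ S := by
    intro x hx
    rw [extFun_eq θ' hx]
    exact (h2 ⟨x, hx⟩).1
  have hfS : ∀ x (hx : x ∈ S), extFun θ x ∈ S := by
    intro x hx
    rw [extFun_eq θ hx]
    exact (h1 ⟨x, hx⟩).1
  have him : IsIm (extFun θ) S S := by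
    intro y
    constructor
    · intro hy
      exact ⟨extFun θ' y, hf'S y hy, hff' y hy⟩
    · rintro ⟨x, hx, rfl⟩
      exact hfS x hx
  refine ⟨hf, him, fun P' φ' => ⟨fun hφ' => ?_, ?_⟩⟩
  · obtain ⟨φ₀, hφ₀, hind₀⟩ := hmor'.2 P' φ' hφ'
    have hP'S := (F.le_of_mem hφ').1
    have hind₀' := ind_of_inducedAlong θ' hind₀
    have himP := isIm_imageAlong θ' hP'S
    refine ⟨_, φ₀, hφ₀, ?_, ?_⟩
    · intro y
      constructor
      · intro hy
        exact ⟨extFun θ' y, himP.map_mem hy, hff' y (hP'S hy)⟩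
      · rintro ⟨x, hx, rfl⟩
        obtain ⟨s, hs, rfl⟩ := (himP x).mp hx
        rw [hff' s (hP'S hs)]
        exact hs
    · intro x h
      obtain ⟨s, hs, hsx⟩ := (himP x).mp x.2
      rw [hind₀'.apply x s hs hsx, hff' _ ((F.le_of_mem hφ').2 _)]
      congr 1
      apply Subtype.ext
      show extFun θ x = s
      rw [← hsx, hff' s (hP'S hs)]
  · rintro ⟨P, φ, hφ, himP, hind⟩
    obtain ⟨φ'', hφ'', hind''⟩ := hmor.2 P φ hφ
    have hPS := (F.le_of_mem hφ).1
    have hEq : imageAlong θ P = P' := (isIm_imageAlong θ hPS).eq_right himP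
    subst hEq
    have : φ'' = φ' := ind_unique himP (ind_of_inducedAlong θ hind'') hind
    rw [← this]
    exact hφ''

/-- The layer is contained in its image under an automorphism of the system. -/
theorem layer_le_img {S : Subgroup Ω} [Finite S] {p : ℕ} [Fact p.Prime] (hS : IsPGroup p S) {F : FusionSystem S}
    {f f' : Ω → Ω} (hFF : IsImgF f F F) (hF'F' : IsImgF f' F F) (hff' : ∀ x ∈ S, f (f' x) = x)
    {T : Subgroup Ω} {E : FusionSystem T} (hE : E.IsLayerOf F p) {Tα : Subgroup Ω} {Eα : FusionSystem Tα}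
    (hEα : IsImgF f E Eα) : E.IsSubsystemOf Eα := by
  have hnorm := isNormalIn_img hS hFF hEα hE.1
  apply hE.2.2 Tα Eα hnorm
  intro U C hC
  have hUS : U ≤ S := Cfsg.Agent.S5153.le_of_isSubnormalIn hC.1
  have hfinU : Finite U := Cfsg.Agent.Helper87.finite_of_le hUS
  have hU : IsPGroup p U := hS.to_le hUS
  obtain ⟨U', C', hC'⟩ := exists_isImgF (hF'F'.hom.mono hUS) C
  have hC'sn := isSubnormalIn_img hC.1 inferInstance hS f' F C' hF'F' hC'
  have hC'q := quasisimple_img hU hC' hC.2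
  have hC'E := hE.2.1 U' C' ⟨hC'sn, hC'q⟩
  intro P φ hφ
  have hPU := (C.le_of_mem hφ).1
  have himP := isIm_imS hC'.hom hPU
  obtain ⟨φ₁, hφ₁, hind₁⟩ := hC'.push hφ himP
  have hφ₁E := hC'E _ hφ₁
  refine (hEα.iff P φ).mpr ⟨_, φ₁, hφ₁E, ?_, ?_⟩
  · intro y
    constructor
    · intro hy
      exact ⟨f' y, himP.map_mem hy, hff' y (hUS (hPU hy))⟩
    · rintro ⟨z, hz, rfl⟩
      obtain ⟨x, hx, rfl⟩ := (himP z).mp hz
      rw [hff' x (hUS (hPU hx))]
      exact hx
  · intro z h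
    obtain ⟨x, hx, hxz⟩ := (himP z).mp z.2
    rw [hind₁.apply z x hx hxz, hff' _ (hUS ((C.le_of_mem hφ).2 _))]
    congr 1
    apply Subtype.ext
    show f z = x
    rw [← hxz, hff' x (hUS (hPU hx))]

end Cfsg.Agent.Helper85
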