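import Mathlib
import Cfsg.Agent.Helper38.VL.Defs

/-!
# (LA4) piece of helper38's farm for S3777 (Vaughan-Lee): functionals outside a line
-/

set_option autoImplicit false

namespace Cfsg.Agent.Helper85.VL

open Subgroup

universe u

/-- complement counting -/
theorem LA4_card_compl {X : Type*} [Finite X] (P : X → Prop) :
    Nat.card {x : X // P x} + Nat.card {x : X // ¬ P x} = Nat.card X := by
  classical
  rw [← Nat.card_sum]
  exact Nat.card_congr (Equiv.sumCompl P)

/-- cardinality of a finite `ZMod p`-space -/
theorem LA4_card_eq_pow {p : ℕ} [Fact p.Prime] (W : Type*) [AddCommGroup W] [Module (ZMod p) W]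
    [Finite W] : Nat.card W = p ^ Module.finrank (ZMod p) W := by
  have hfin : Module.Finite (ZMod p) W := Module.Finite.of_finite
  rw [Module.natCard_eq_pow_finrank (K := ZMod p) (V := W), Nat.card_eq_fintype_card, ZMod.card]

/-- (LA4) functionals outside the line spanned by `α₀`. -/
theorem card_dual_not_mem_span {p : ℕ} [Fact p.Prime] {V : Type*} [AddCommGroup V]
    [Module (ZMod p) V] [Finite V] (α₀ : Module.Dual (ZMod p) V) (hα₀ : α₀ ≠ 0) :
    Nat.card {α : Module.Dual (ZMod p) V // α ∉ Submodule.span (ZMod p) {α₀}} + p =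
      Nat.card V := by
  classical
  have hfin : Module.Finite (ZMod p) V := Module.Finite.of_finite
  have hDfin : Finite (Module.Dual (ZMod p) V) := Module.finite_of_finite (ZMod p)
  have hsum := LA4_card_compl (fun α : Module.Dual (ZMod p) V => α ∈ Submodule.span (ZMod p) {α₀})
  have hspan : Nat.card {α : Module.Dual (ZMod p) V // α ∈ Submodule.span (ZMod p) {α₀}} = p := by
    have h1 := LA4_card_eq_pow (p := p) (Submodule.span (ZMod p) {α₀})
    rw [finrank_span_singleton hα₀, pow_one] at h1
    exact h1
  have hD : Nat.card (Module.Dual (ZMod p) V) = Nat.card V := by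
    rw [LA4_card_eq_pow (p := p) (Module.Dual (ZMod p) V), LA4_card_eq_pow (p := p) V,
      Subspace.dual_finrank_eq]
  omega

end Cfsg.Agent.Helper85.VL
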