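import Mathlib
import Cfsg.Agent.Helper38.VL.Defs

/-!
# (LA5) piece of helper38's farm for S3777 (Vaughan-Lee): vectors outside a hyperplane
-/

set_option autoImplicit false

namespace Cfsg.Agent.Helper85.VL

open Subgroup

universe u

/-- complement counting -/
theorem LA5_card_compl {X : Type*} [Finite X] (P : X → Prop) :
    Nat.card {x : X // P x} + Nat.card {x : X // ¬ P x} = Nat.card X := by
  classical
  rw [← Nat.card_sum]
  exact Nat.card_congr (Equiv.sumCompl P)

/-- cardinality of a finite `ZMod p`-space -/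
theorem LA5_card_eq_pow {p : ℕ} [Fact p.Prime] (W : Type*) [AddCommGroup W] [Module (ZMod p) W]
    [Finite W] : Nat.card W = p ^ Module.finrank (ZMod p) W := by
  have hfin : Module.Finite (ZMod p) W := Module.Finite.of_finite
  rw [Module.natCard_eq_pow_finrank (K := ZMod p) (V := W), Nat.card_eq_fintype_card, ZMod.card]

/-- (LA5) vectors outside a hyperplane. -/
theorem card_not_ker {p : ℕ} [Fact p.Prime] {V : Type*} [AddCommGroup V]
    [Module (ZMod p) V] [Finite V] (α₀ : Module.Dual (ZMod p) V) (hα₀ : α₀ ≠ 0) :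
    p * Nat.card {v : V // α₀ v ≠ 0} = (p - 1) * Nat.card V := by
  classical
  have hp : p.Prime := Fact.out
  have hfin : Module.Finite (ZMod p) V := Module.Finite.of_finite
  have hsum : Nat.card {v : V // α₀ v = 0} + Nat.card {v : V // α₀ v ≠ 0} = Nat.card V :=
    LA5_card_compl (fun v => α₀ v = 0)
  have hker : Nat.card {v : V // α₀ v = 0} = Nat.card (LinearMap.ker α₀) :=
    Nat.card_congr (Equiv.subtypeEquivRight (fun v => LinearMap.mem_ker.symm))
  have hfr := Module.Dual.finrank_ker_add_one_of_ne_zero hα₀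
  have hV : Nat.card V = p * Nat.card (LinearMap.ker α₀) := by
    rw [LA5_card_eq_pow (p := p) V, LA5_card_eq_pow (p := p) (LinearMap.ker α₀), ← hfr, pow_succ]
    ring
  set k := Nat.card (LinearMap.ker α₀) with hk
  set c := Nat.card {v : V // α₀ v ≠ 0} with hc
  have hp1 : p - 1 + 1 = p := Nat.sub_add_cancel hp.pos
  have h1 : k + c = (p - 1 + 1) * k := by
    rw [hp1, ← hV, ← hker]; exact hsum
  have h2 : c = (p - 1) * k := by
    rw [add_mul, one_mul] at h1
    omega
  rw [hV, h2]
  ring

end Cfsg.Agent.Helper85.VL
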