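import Cfsg.Agent.Helper85.KLDefs
set_option autoImplicit false

/-!
Definitions for the proof that the `p'`-residual of a weakly normal subsystem is normal: good extensions of maps between
subgroups of `T` to the product with `C_S(T)`, and the subsets of `Aut_F(T C_S(T))` used in the induction.
-/

namespace Cfsg.Agent.Helper85.XT

open Cfsg Cfsg.FusionSystem

variable {Ω : Type*} [Group Ω] {S : Subgroup Ω}

/-- `φ : P →* Ω` (with `P ≤ T`) has a good extension: a map of `F` on `P C_S(T)` extending `φ` and acting trivially on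
`C_S(T)` modulo `T`. -/
def GoodExt (F : FusionSystem S) (T : Subgroup Ω) {P : Subgroup Ω} (φ : P →* Ω) : Prop :=
  ∃ ψ ∈ F.Hom (P ⊔ centralizerIn S T), (∀ x : P, ψ (Subgroup.inclusion le_sup_left x) = φ x) ∧
    ∀ c : ↥(P ⊔ centralizerIn S T), (c : Ω) ∈ centralizerIn S T → (c : Ω)⁻¹ * ψ c ∈ T

/-- The extension condition of `IsNormalIn` for a single automorphism `α` of `T`. -/
def ExtCond (F : FusionSystem S) (T : Subgroup Ω) (α : MulAut T) : Prop :=
  ∃ β ∈ F.autGroup (T ⊔ centralizerIn S T),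
    (∀ x : T, ((β (Subgroup.inclusion le_sup_left x) : ↥(T ⊔ centralizerIn S T)) : Ω) = ((α x : T) : Ω)) ∧
    ∀ c : ↥(T ⊔ centralizerIn S T), (c : Ω) ∈ centralizerIn S T →
      (c : Ω)⁻¹ * ((β c : ↥(T ⊔ centralizerIn S T)) : Ω) ∈ T ⊓ Subgroup.centralizer (T : Set Ω)

/-- `M`: the elements of `Aut_F(T C_S(T))` acting trivially on `C_S(T)` modulo `T`. -/
def Mset (F : FusionSystem S) (T : Subgroup Ω) : Set (MulAut ↥(T ⊔ centralizerIn S T)) :=
  {β | β ∈ F.autGroup (T ⊔ centralizerIn S T) ∧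
    ∀ c : ↥(T ⊔ centralizerIn S T), (c : Ω) ∈ centralizerIn S T → (c : Ω)⁻¹ * ((β c : ↥(T ⊔ centralizerIn S T)) : Ω) ∈ T}

/-- `K`: the elements of `Aut_F(T C_S(T))` fixing `T` pointwise. -/
def Kset (F : FusionSystem S) (T : Subgroup Ω) : Set (MulAut ↥(T ⊔ centralizerIn S T)) :=
  {β | β ∈ F.autGroup (T ⊔ centralizerIn S T) ∧ ∀ x : ↥(T ⊔ centralizerIn S T), (x : Ω) ∈ T → β x = x}

/-- `B = K M`. -/
def Bset (F : FusionSystem S) (T : Subgroup Ω) : Set (MulAut ↥(T ⊔ centralizerIn S T)) :=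
  {β | ∃ κ ∈ Kset F T, ∃ μ ∈ Mset F T, β = κ * μ}

/-- `𝔄_P`: the elements `β` of `Aut_F(T C_S(T))` whose action on `C_S(T)` modulo `T` is that of some automorphism `δ` in
`Aut_F(P C_S(T))` fixing `P` pointwise. -/
def Aset (F : FusionSystem S) (T P : Subgroup Ω) : Set (MulAut ↥(T ⊔ centralizerIn S T)) :=
  {β | β ∈ F.autGroup (T ⊔ centralizerIn S T) ∧ ∃ δ ∈ F.autGroup (P ⊔ centralizerIn S T),
    (∀ x : ↥(P ⊔ centralizerIn S T), (x : Ω) ∈ P → δ x = x) ∧
    ∀ (c : ↥(T ⊔ centralizerIn S T)) (hc : (c : Ω) ∈ centralizerIn S T),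
      ((β c : ↥(T ⊔ centralizerIn S T)) : Ω)⁻¹ *
        ((δ ⟨(c : Ω), (le_sup_right : centralizerIn S T ≤ P ⊔ centralizerIn S T) hc⟩ :
          ↥(P ⊔ centralizerIn S T)) : Ω) ∈ T}

end Cfsg.Agent.Helper85.XT
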