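import Cfsg.Agent.Helper85.XDefs
import Cfsg.Agent.Helper85.TransportSubnormal
set_option autoImplicit false

/-!
The `p'`-residual of a weakly normal subsystem is invariant under the automorphisms of `T` in the big system.
-/

namespace Cfsg.Agent.Helper85.XT

open Cfsg Cfsg.FusionSystem Cfsg.Agent.Helper87 Cfsg.Agent.Helper88.FS Cfsg.Agent.Helper85

variable {Ω : Type*} [Group Ω] {S T : Subgroup Ω}

/-- The isomorphism from `P ≤ T` onto its image under an automorphism of `T`. -/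
noncomputable def imgEquiv (α : MulAut T) {P : Subgroup Ω} (hPT : P ≤ T) : P ≃* ↥(imgT α P) :=
  MulEquiv.ofBijective
    (MonoidHom.mk' (fun x : P => (⟨((α ⟨x, hPT x.2⟩ : T) : Ω), apply_mem_imgT α ⟨x, hPT x.2⟩ x.2⟩ : ↥(imgT α P)))
      (fun a b => by
        apply Subtype.ext
        show ((α (⟨a, hPT a.2⟩ * ⟨b, hPT b.2⟩) : T) : Ω) = _
        rw [map_mul]
        rfl))
    ⟨fun a b h => by
        have h1 : ((α ⟨a, hPT a.2⟩ : T) : Ω) = ((α ⟨b, hPT b.2⟩ : T) : Ω) :=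
          congrArg (fun t : ↥(imgT α P) => (t : Ω)) h
        have h2 := α.injective (Subtype.ext h1)
        exact Subtype.ext (congrArg (fun t : T => (t : Ω)) h2),
      fun y => by
        obtain ⟨x, hx, hxy⟩ := (mem_imgT_iff α P y).mp y.2
        exact ⟨⟨x, hx⟩, Subtype.ext hxy⟩⟩

theorem imgEquiv_apply (α : MulAut T) {P : Subgroup Ω} (hPT : P ≤ T) (x : P) :
    ((imgEquiv α hPT x : ↥(imgT α P)) : Ω) = ((α ⟨x, hPT x.2⟩ : T) : Ω) := rfl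

theorem residual_invariant [Finite S] (p : ℕ) [Fact p.Prime] (hS : IsPGroup p S) (F : FusionSystem S)
    (hF : F.IsSaturated p) (E : FusionSystem T) (hE : E.IsWeaklyNormalIn F p) (D : FusionSystem T)
    (hD : E.IsPPrimeResidual p D) :
    ∀ (P : Subgroup Ω) (hPT : P ≤ T) (φ : P →* Ω), φ ∈ D.Hom P → ∀ α ∈ F.autGroup T,
      ∃ χ ∈ D.Hom ((P.subgroupOf T).map (T.subtype.comp α.toMonoidHom)),
        ∀ (x : P) (hφx : φ x ∈ T)
          (hαx : ((α ⟨x, hPT x.2⟩ : T) : Ω) ∈ (P.subgroupOf T).map (T.subtype.comp α.toMonoidHom)),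
          χ ⟨(α ⟨x, hPT x.2⟩ : T), hαx⟩ = ((α ⟨φ x, hφx⟩ : T) : Ω) := by
  have hEinv : E.IsInvariantIn F := hE.2.2
  have hTS : T ≤ S := hEinv.2.1.1
  have hfinT : Finite T := finite_of_le hTS
  have hT : IsPGroup p T := hS.to_le hTS
  have hDE : D.IsSubsystemOf E := hD.2.1.1
  intro P hPT φ hφ α hα
  set β : MulAut T := α⁻¹ with hβdef
  have hβ : β ∈ F.autGroup T := (F.autGroup T).inv_mem hα
  set g : Ω → Ω := extFun (T.subtype.comp β.toMonoidHom) with hgdef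
  have hg : ∀ x : T, g x = ((β x : T) : Ω) := fun x => extFun_coe _ x
  have hgα : ∀ x : T, g ((α x : T) : Ω) = x := by
    intro x
    rw [hg]
    show ((α⁻¹ (α x) : T) : Ω) = x
    rw [MulAut.inv_apply_self]
  have hEimg : IsImgF g E E := isImgF_aut hEinv hβ hg
  obtain ⟨T', D', hD'⟩ := exists_isImgF hEimg.hom D
  have hTT' : T = T' := IsIm.eq_right hEimg.im hD'.im
  subst hTT'
  have hsat' : D'.IsSaturated p := isSaturated_img hT hD' hD.1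
  have hsub' : D'.IsSubsystemOf E := isSubsystemOf_img hEimg hD' hDE
  -- images of subgroups
  have him : ∀ Q : Subgroup Ω, Q ≤ T → IsIm g (imgT α Q) Q := by
    intro Q hQT y
    constructor
    · intro hy
      exact ⟨((α ⟨y, hQT hy⟩ : T) : Ω), apply_mem_imgT α ⟨y, hQT hy⟩ hy, hgα _⟩
    · rintro ⟨x, hx, rfl⟩
      obtain ⟨z, hz, rfl⟩ := (mem_imgT_iff α Q x).mp hx
      rw [hgα]
      exact hz
  have hidx' : D'.HasPrimeToPIndexIn E p := by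
    refine ⟨hsub', fun Q hQT => ?_⟩
    rw [Subgroup.map_le_iff_le_comap, Subgroup.closure_le]
    rintro n ⟨k, hk⟩
    show (n : MulAut Q) ∈ D'.autGroup Q
    set γ : MulAut Q := (n : MulAut Q) with hγdef
    have hγE : γ ∈ E.autGroup Q := n.2
    have hγo : orderOf γ = p ^ k := by rw [hγdef, Subgroup.orderOf_coe, hk]
    have hQ₀T : imgT α Q ≤ T := imgT_le α Q
    set e := imgEquiv α hQT with hedef
    set γ₀ : MulAut ↥(imgT α Q) := MulAut.congr e γ with hγ₀def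
    have hγ₀app : ∀ x : Q, γ₀ (e x) = e (γ x) := by
      intro x
      show e (γ (e.symm (e x))) = e (γ x)
      rw [MulEquiv.symm_apply_apply]
    have hγ₀o : orderOf γ₀ = p ^ k := by rw [hγ₀def, MulEquiv.orderOf_eq, hγo]
    have hγiso : Q.subtype.comp (γ : Q ≃* Q).toMonoidHom ∈ E.Hom Q := (mem_autGroup_iff E hQT γ).mp hγE
    obtain ⟨χ, hχ, hχx⟩ := exists_transport hEinv hQT hγiso hα
    have hγ₀E : γ₀ ∈ E.autGroup (imgT α Q) := by
      rw [mem_autGroup_iff E hQ₀T]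
      refine mem_of_eq E hχ (fun y => ?_)
      obtain ⟨x, rfl⟩ := e.surjective y
      show ((γ₀ (e x) : ↥(imgT α Q)) : Ω) = χ (e x)
      rw [hγ₀app, imgEquiv_apply]
      have h1 := hχx ⟨x, hQT x.2⟩ x.2 (e x).2 (hQT (γ x).2)
      exact h1.symm
    have hγ₀D : γ₀ ∈ D.autGroup (imgT α Q) := by
      apply hD.2.1.2 (imgT α Q) hQ₀T
      refine Subgroup.mem_map.mpr ⟨⟨γ₀, hγ₀E⟩, Subgroup.subset_closure ⟨k, ?_⟩, rfl⟩
      rw [Subgroup.orderOf_mk, hγ₀o]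
    have hγ₀iso : (imgT α Q).subtype.comp (γ₀ : ↥(imgT α Q) ≃* ↥(imgT α Q)).toMonoidHom ∈ D.Hom (imgT α Q) :=
      (mem_autGroup_iff D hQ₀T γ₀).mp hγ₀D
    obtain ⟨φ', hφ', hind⟩ := hD'.push hγ₀iso (him Q hQT)
    rw [mem_autGroup_iff D' hQT]
    refine mem_of_eq D' hφ' (fun y => ?_)
    have hy : g ((e y : ↥(imgT α Q)) : Ω) = y := by rw [imgEquiv_apply, hgα]
    have h1 := hind.apply y ((e y : ↥(imgT α Q)) : Ω) (e y).2 hy
    rw [h1]
    show ((γ y : Q) : Ω) = g ((γ₀ (e y) : ↥(imgT α Q)) : Ω)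
    rw [hγ₀app, imgEquiv_apply, hgα]
  have hDD' : D.IsSubsystemOf D' := hD.2.2 D' hsat' hidx'
  obtain ⟨P₀, φ₀, hφ₀, himP, hind⟩ := (hD'.iff P φ).mp (hDD' P hφ)
  have hP₀ : P₀ = imgT α P := IsIm.eq_left hEimg.hom (D.le_of_mem hφ₀).1 (imgT_le α P) himP (him P hPT)
  subst hP₀
  refine ⟨φ₀, hφ₀, fun x hφx hαx => ?_⟩
  have hφ₀T : φ₀ ⟨((α ⟨x, hPT x.2⟩ : T) : Ω), hαx⟩ ∈ T := (D.le_of_mem hφ₀).2 _
  have hgx : g ((α ⟨x, hPT x.2⟩ : T) : Ω) = (x : Ω) := hgα ⟨x, hPT x.2⟩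
  have h1 := hind.apply x ((α ⟨x, hPT x.2⟩ : T) : Ω) hαx hgx
  -- `φ x = g (φ₀ (α x)) = β (φ₀ (α x))`
  have h2 : g (φ₀ ⟨((α ⟨x, hPT x.2⟩ : T) : Ω), hαx⟩) = ((β ⟨_, hφ₀T⟩ : T) : Ω) := hg ⟨_, hφ₀T⟩
  have h3 : (⟨φ x, hφx⟩ : T) = β ⟨_, hφ₀T⟩ := Subtype.ext (h1.trans h2)
  rw [h3]
  show _ = ((α (α⁻¹ ⟨_, hφ₀T⟩) : T) : Ω)
  rw [MulAut.apply_inv_self]
  rfl

end Cfsg.Agent.Helper85.XT
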