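import Cfsg.Agent.Helper85.XDefs
import Cfsg.Agent.Helper85.KLMain
import Cfsg.Agent.Helper85.XW
import Cfsg.Agent.Helper76.XS1
import Cfsg.Agent.Helper47.XS2
import Cfsg.Agent.Helper79.XD1b
import Cfsg.Agent.Helper74.XD4
import Cfsg.Agent.Helper11.XA
import Cfsg.Agent.Helper70.XD1a
import Cfsg.Agent.Helper47.XC
import Cfsg.Agent.Helper74.XD2
import Cfsg.Agent.Helper79.XBCore
import Cfsg.Agent.Helper87.XD3
import Cfsg.Agent.Helper37.XD5
set_option autoImplicit false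

/-!
The pieces of the proof that the `p'`-residual of a weakly normal subsystem is normal, collected under one namespace.
-/

namespace Cfsg.Agent.Helper85.XT

open Cfsg Cfsg.FusionSystem Cfsg.Agent.Helper85.KL

variable {Ω : Type*} [Group Ω] {S T : Subgroup Ω}

/-! ### (S1) basic facts about `U = T C_S(T)` and `P⁺ = P C_S(T)` -/

/-- `U = T C_S(T)` is weakly closed; maps of `F` on `U` carry `T` onto `T` and `C_S(T)` into `C_S(T)`. -/
theorem hom_sup_centralizer [Finite S] (F : FusionSystem S) (hT : F.StronglyClosed T)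
    (ψ : ↥(T ⊔ centralizerIn S T) →* Ω) (hψ : ψ ∈ F.Hom (T ⊔ centralizerIn S T)) :
    ψ.range = T ⊔ centralizerIn S T ∧
      (∀ x : ↥(T ⊔ centralizerIn S T), (x : Ω) ∈ T → ψ x ∈ T) ∧
      (∀ x : ↥(T ⊔ centralizerIn S T), (x : Ω) ∈ centralizerIn S T → ψ x ∈ centralizerIn S T) :=
  Cfsg.Agent.Helper76.XS1.hom_sup_centralizer F hT ψ hψ

/-- A map of `F` defined on `P C_S(T)`, `P ≤ T`, takes values in `T C_S(T)`. -/
theorem map_mem_sup_centralizer [Finite S] (p : ℕ) [Fact p.Prime] (hS : IsPGroup p S) (F : FusionSystem S)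
    (hF : F.IsSaturated p) (hT : F.StronglyClosed T) {P : Subgroup Ω} (hPT : P ≤ T)
    (ψ : ↥(P ⊔ centralizerIn S T) →* Ω) (hψ : ψ ∈ F.Hom (P ⊔ centralizerIn S T))
    (x : ↥(P ⊔ centralizerIn S T)) : ψ x ∈ T ⊔ centralizerIn S T :=
  Cfsg.Agent.Helper76.XS1.map_mem_sup_centralizer p hS F hF hT hPT ψ hψ x

/-- For `P` with `C_T(P) ≤ P`: `P C_S(T) ∩ T = P`. -/
theorem mem_of_mem_sup_of_mem {P : Subgroup Ω} (hPT : P ≤ T) (hTS : T ≤ S) (hPc : centralizerIn T P ≤ P) {x : Ω}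
    (hx : x ∈ P ⊔ centralizerIn S T) (hxT : x ∈ T) : x ∈ P :=
  Cfsg.Agent.Helper76.XS1.mem_of_mem_sup_of_mem hPT hTS hPc hx hxT

/-- For `P` with `C_T(P) ≤ P`: an element of `T C_S(T)` centralizing `P` lies in `Z(P) C_S(T)`. -/
theorem exists_mul_of_centralizes {P : Subgroup Ω} (hPT : P ≤ T) (hTS : T ≤ S) (hPc : centralizerIn T P ≤ P) {x : Ω}
    (hx : x ∈ T ⊔ centralizerIn S T) (hxP : x ∈ Subgroup.centralizer (P : Set Ω)) :
    ∃ z ∈ P, z ∈ Subgroup.centralizer (P : Set Ω) ∧ ∃ c ∈ centralizerIn S T, x = z * c :=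
  Cfsg.Agent.Helper76.XS1.exists_mul_of_centralizes hPT hTS hPc hx hxP

/-- `GoodExt` of an automorphism of `T` is the extension condition. -/
theorem extCond_of_goodExt [Finite S] (F : FusionSystem S) (hT : F.StronglyClosed T) (α : MulAut T)
    (h : GoodExt F T (T.subtype.comp α.toMonoidHom)) : ExtCond F T α :=
  Cfsg.Agent.Helper47.XS2.extCond_of_goodExt F hT α h

theorem goodExt_of_extCond [Finite S] (F : FusionSystem S) (hT : F.StronglyClosed T) (α : MulAut T)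
    (h : ExtCond F T α) : GoodExt F T (T.subtype.comp α.toMonoidHom) :=
  Cfsg.Agent.Helper47.XS2.goodExt_of_extCond F hT α h

/-- The automorphisms of `T` satisfying the extension condition form a subgroup. -/
theorem extCond_one [Finite S] (F : FusionSystem S) (hT : F.StronglyClosed T) : ExtCond F T (1 : MulAut T) :=
  Cfsg.Agent.Helper47.XS2.extCond_one F hT

theorem extCond_mul [Finite S] (F : FusionSystem S) (hT : F.StronglyClosed T) {α β : MulAut T}
    (hα : ExtCond F T α) (hβ : ExtCond F T β) : ExtCond F T (α * β) :=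
  Cfsg.Agent.Helper47.XS2.extCond_mul F hT hα hβ

theorem extCond_inv [Finite S] (F : FusionSystem S) (hT : F.StronglyClosed T) {α : MulAut T}
    (hα : ExtCond F T α) : ExtCond F T α⁻¹ :=
  Cfsg.Agent.Helper47.XS2.extCond_inv F hT hα

/-- Inner automorphisms of `T` satisfy the extension condition. -/
theorem extCond_of_mem_autInducedBy [Finite S] (F : FusionSystem S) (hT : F.StronglyClosed T) {α : MulAut T}
    (hα : α ∈ autInducedBy T T) : ExtCond F T α :=
  Cfsg.Agent.Helper47.XS2.extCond_of_mem_autInducedBy F hT hα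

/-! ### (XA) extension of maps between `T`-centric subgroups to the product with `C_S(T)` -/

theorem exists_extension_sup [Finite S] (p : ℕ) [Fact p.Prime] (hS : IsPGroup p S) (F : FusionSystem S)
    (hF : F.IsSaturated p) (hT : F.StronglyClosed T) {P : Subgroup Ω} (hP : TCentric F T P)
    (φ : P →* Ω) (hφ : φ ∈ F.Hom P) :
    ∃ ψ ∈ F.Hom (P ⊔ centralizerIn S T), (∀ x : P, ψ (Subgroup.inclusion le_sup_left x) = φ x) ∧
      ψ.range = φ.range ⊔ centralizerIn S T :=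
  Cfsg.Agent.Helper11.XA.exists_extension_sup p hS F hF hT hP φ hφ

/-- For `T`-centric `P` a good extension of `φ` maps `P C_S(T)` onto `φ(P) C_S(T)`. -/
theorem range_of_goodExt [Finite S] (p : ℕ) [Fact p.Prime] (hS : IsPGroup p S) (F : FusionSystem S)
    (hF : F.IsSaturated p) (hT : F.StronglyClosed T) {P : Subgroup Ω} (hP : TCentric F T P)
    (φ : P →* Ω) (ψ : ↥(P ⊔ centralizerIn S T) →* Ω) (hψ : ψ ∈ F.Hom (P ⊔ centralizerIn S T))
    (hψφ : ∀ x : P, ψ (Subgroup.inclusion le_sup_left x) = φ x)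
    (hψc : ∀ c : ↥(P ⊔ centralizerIn S T), (c : Ω) ∈ centralizerIn S T → (c : Ω)⁻¹ * ψ c ∈ T) :
    ψ.range = φ.range ⊔ centralizerIn S T :=
  Cfsg.Agent.Helper11.XA.range_of_goodExt p hS F hF hT hP φ ψ hψ hψφ hψc

/-! ### (XC) the system of good maps -/

theorem exists_goodSystem [Finite S] (p : ℕ) [Fact p.Prime] (hS : IsPGroup p S) (F : FusionSystem S)
    (hF : F.IsSaturated p) (E : FusionSystem T) (hE : E.IsWeaklyNormalIn F p) :
    ∃ G : FusionSystem T, ∀ (P : Subgroup Ω) (φ : P →* Ω),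
      φ ∈ G.Hom P ↔ (φ ∈ E.Hom P ∧ (E.IsCentric P → GoodExt F T φ)) :=
  Cfsg.Agent.Helper47.XC.exists_goodSystem p hS F hF E hE

/-! ### (XB) automorphisms of `p`-power order are good -/

theorem goodExt_of_orderOf [Finite S] (p : ℕ) [Fact p.Prime] (hS : IsPGroup p S) (F : FusionSystem S)
    (hF : F.IsSaturated p) (E : FusionSystem T) (hE : E.IsWeaklyNormalIn F p) {P : Subgroup Ω}
    (hPc : E.IsCentric P) (γ : MulAut P) (hγ : γ ∈ E.autGroup P) (k : ℕ) (hk : orderOf γ = p ^ k) :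
    GoodExt F T (P.subtype.comp γ.toMonoidHom) :=
  Cfsg.Agent.Helper79.XB.goodExt_of_orderOf_of p hS F hF E hE (fun φ hφ => exists_extension_sup p hS F hF hE.2.2.2.1 (Cfsg.Agent.Helper37.KL.tCentric_of_isCentric F E hE.2.2 hPc.1 hPc) φ hφ) hPc γ hγ k hk

/-! ### (XD1) the sets `𝔄_P`, `B` -/

theorem one_mem_Aset [Finite S] (F : FusionSystem S) (hT : F.StronglyClosed T) {P : Subgroup Ω} (hPT : P ≤ T) :
    (1 : MulAut ↥(T ⊔ centralizerIn S T)) ∈ Aset F T P :=
  Cfsg.Agent.Helper70.XD1a.one_mem_Aset F hT hPT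

theorem mul_mem_Aset [Finite S] (F : FusionSystem S) (hT : F.StronglyClosed T) {P : Subgroup Ω} (hPT : P ≤ T)
    (hPc : centralizerIn T P ≤ P) {β₁ β₂ : MulAut ↥(T ⊔ centralizerIn S T)} (h₁ : β₁ ∈ Aset F T P)
    (h₂ : β₂ ∈ Aset F T P) : β₁ * β₂ ∈ Aset F T P :=
  Cfsg.Agent.Helper70.XD1a.mul_mem_Aset F hT hPT hPc h₁ h₂

theorem inv_mem_Aset [Finite S] (F : FusionSystem S) (hT : F.StronglyClosed T) {P : Subgroup Ω} (hPT : P ≤ T)
    (hPc : centralizerIn T P ≤ P) {β : MulAut ↥(T ⊔ centralizerIn S T)} (h : β ∈ Aset F T P) :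
    β⁻¹ ∈ Aset F T P :=
  Cfsg.Agent.Helper70.XD1a.inv_mem_Aset F hT hPT hPc h

theorem one_mem_Bset (F : FusionSystem S) : (1 : MulAut ↥(T ⊔ centralizerIn S T)) ∈ Bset F T :=
  Cfsg.Agent.Helper79.XD1b.one_mem_Bset F

theorem mul_mem_Bset [Finite S] (F : FusionSystem S) (hT : F.StronglyClosed T)
    {β₁ β₂ : MulAut ↥(T ⊔ centralizerIn S T)} (h₁ : β₁ ∈ Bset F T) (h₂ : β₂ ∈ Bset F T) : β₁ * β₂ ∈ Bset F T :=
  Cfsg.Agent.Helper79.XD1b.mul_mem_Bset F hT h₁ h₂

theorem inv_mem_Bset [Finite S] (F : FusionSystem S) (hT : F.StronglyClosed T)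
    {β : MulAut ↥(T ⊔ centralizerIn S T)} (h : β ∈ Bset F T) : β⁻¹ ∈ Bset F T :=
  Cfsg.Agent.Helper79.XD1b.inv_mem_Bset F hT h

theorem conj_mem_Bset [Finite S] (F : FusionSystem S) (hT : F.StronglyClosed T)
    {γ β : MulAut ↥(T ⊔ centralizerIn S T)} (hγ : γ ∈ F.autGroup (T ⊔ centralizerIn S T)) (h : β ∈ Bset F T) :
    γ * β * γ⁻¹ ∈ Bset F T :=
  Cfsg.Agent.Helper79.XD1b.conj_mem_Bset F hT hγ h

theorem Bset_subset_Aset [Finite S] (F : FusionSystem S) (hT : F.StronglyClosed T) {P : Subgroup Ω} (hPT : P ≤ T)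
    (hPc : centralizerIn T P ≤ P) : Bset F T ⊆ Aset F T P :=
  Cfsg.Agent.Helper79.XD1b.Bset_subset_Aset F hT hPT hPc

theorem Aset_top_subset_Bset [Finite S] (F : FusionSystem S) (hT : F.StronglyClosed T) : Aset F T T ⊆ Bset F T :=
  Cfsg.Agent.Helper79.XD1b.Aset_top_subset_Bset F hT

theorem Aset_mono [Finite S] (F : FusionSystem S) (hT : F.StronglyClosed T) {P R : Subgroup Ω} (hPR : P ≤ R) (hRT : R ≤ T)
    (hPc : centralizerIn T P ≤ P) : Aset F T R ⊆ Aset F T P :=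
  Cfsg.Agent.Helper70.XD1a.Aset_mono F hT hPR hRT hPc

theorem autInducedBy_subset_Aset [Finite S] (F : FusionSystem S) (hT : F.StronglyClosed T) {P : Subgroup Ω} (hPT : P ≤ T) :
    ((autInducedBy (centralizerIn S P) (T ⊔ centralizerIn S T) : Subgroup _) : Set (MulAut ↥(T ⊔ centralizerIn S T))) ⊆
      Aset F T P :=
  Cfsg.Agent.Helper70.XD1a.autInducedBy_subset_Aset F hT hPT

/-! ### (XD2) conjugation -/

theorem exists_conj_Aset [Finite S] (p : ℕ) [Fact p.Prime] (hS : IsPGroup p S) (F : FusionSystem S)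
    (hF : F.IsSaturated p) (hT : F.StronglyClosed T) {P P₁ : Subgroup Ω} (hP : TCentric F T P)
    (ξ : P →* Ω) (hξ : ξ ∈ F.Hom P) (hξr : ξ.range = P₁) :
    ∃ γ ∈ F.autGroup (T ⊔ centralizerIn S T), ∀ β ∈ Aset F T P, γ * β * γ⁻¹ ∈ Aset F T P₁ :=
  Cfsg.Agent.Helper74.XD2.exists_conj_Aset_of p hS F hF hT (fun hP φ hφ => exists_extension_sup p hS F hF hT hP φ hφ) hP ξ hξ hξr

/-! ### (XD3) the step -/

theorem Aset_step [Finite S] (p : ℕ) [Fact p.Prime] (hS : IsPGroup p S) (F : FusionSystem S)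
    (hF : F.IsSaturated p) (hT : F.StronglyClosed T) {P : Subgroup Ω} (hPT : P ≤ T)
    (hPn : F.IsFullyNormalized P) (hPc : centralizerIn T P ≤ P)
    (β : MulAut ↥(T ⊔ centralizerIn S T)) (hβ : β ∈ Aset F T P) :
    ∃ s ∈ centralizerIn S P, ∃ σ ∈ F.autGroup (T ⊔ centralizerIn S T),
      (∀ u : ↥(T ⊔ centralizerIn S T), ((σ u : ↥(T ⊔ centralizerIn S T)) : Ω) = s * (u : Ω) * s⁻¹) ∧
      β * σ⁻¹ ∈ Aset F T (normalizerIn T P) :=
  Cfsg.Agent.Helper87.XD3.Aset_step p hS F hF hT hPT hPn hPc β hβ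

/-! ### (XD4) induction -/

theorem exists_pow_mem_Bset [Finite S] (p : ℕ) [Fact p.Prime] (hS : IsPGroup p S) (F : FusionSystem S)
    (hF : F.IsSaturated p) (hT : F.StronglyClosed T) {P : Subgroup Ω} (hP : TCentric F T P)
    (β : MulAut ↥(T ⊔ centralizerIn S T)) (hβ : β ∈ Aset F T P) : ∃ k : ℕ, β ^ p ^ k ∈ Bset F T :=
  Cfsg.Agent.Helper74.XD4.exists_pow_mem_Bset_of p hS F hT
    { one_mem_Aset := fun h => one_mem_Aset F hT h
      mul_mem_Aset := fun h1 h2 _ _ h3 h4 => mul_mem_Aset F hT h1 h2 h3 h4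
      inv_mem_Aset := fun h1 h2 _ h3 => inv_mem_Aset F hT h1 h2 h3
      one_mem_Bset := one_mem_Bset F
      mul_mem_Bset := fun h1 h2 => mul_mem_Bset F hT h1 h2
      inv_mem_Bset := fun h1 => inv_mem_Bset F hT h1
      conj_mem_Bset := fun h1 h2 => conj_mem_Bset F hT h1 h2
      Bset_subset_Aset := fun h1 h2 => Bset_subset_Aset F hT h1 h2
      Aset_top_subset_Bset := Aset_top_subset_Bset F hT
      Aset_mono := fun h1 h2 h3 => Aset_mono F hT h1 h2 h3
      autInducedBy_subset_Aset := fun h1 => autInducedBy_subset_Aset F hT h1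
      exists_conj_Aset := fun h1 ξ h2 h3 => exists_conj_Aset p hS F hF hT h1 ξ h2 h3
      Aset_step := fun h1 h2 h3 β h4 => Aset_step p hS F hF hT h1 h2 h3 β h4 } hP β hβ

/-! ### (XD5) the key lemma -/

theorem extCond_of_goodExt_resAut [Finite S] (p : ℕ) [Fact p.Prime] (hS : IsPGroup p S) (F : FusionSystem S)
    (hF : F.IsSaturated p) (E : FusionSystem T) (hE : E.IsWeaklyNormalIn F p) {P : Subgroup Ω} (hPT : P ≤ T)
    (hPc : E.IsCentric P) (α : MulAut T) (hαE : α ∈ E.autGroup T) (hαP : GoodExt F T (resAut hPT α)) :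
    ExtCond F T α :=
  by
  have hT : F.StronglyClosed T := hE.2.2.2.1
  exact Cfsg.Agent.Helper37.XT.extCond_of_goodExt_resAut_of p F hF E hE
    { hom_sup_centralizer := fun ψ hψ => hom_sup_centralizer F hT ψ hψ, extCond_one := extCond_one F hT, extCond_mul := fun ha hb => extCond_mul F hT ha hb, extCond_inv := fun ha => extCond_inv F hT ha, extCond_of_mem_autInducedBy := fun ha => extCond_of_mem_autInducedBy F hT ha, range_of_goodExt := fun hP φ ψ hψ h1 h2 => range_of_goodExt p hS F hF hT hP φ ψ hψ h1 h2, exists_pow_mem_Bset := fun hP β hβ => exists_pow_mem_Bset p hS F hF hT hP β hβ } hPT hPc α hαE hαP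

end Cfsg.Agent.Helper85.XT
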